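import Cfsg.Agent.Lib.TensorOrthMax.Side
import Cfsg.Agent.Lib.TensorMax.Lemmas

/-!
An overgroup of the stabiliser of a tensor product whose larger factor is orthogonal: Eichler elements of that
factor and the subspaces of tensors with slices in a given subspace.
-/

set_option autoImplicit false

namespace Cfsg.Agent.Lib.TensorOrthMax.Setup

open Matrix Kronecker
open Cfsg.Agent.Lib.Subspaces.Transvection Cfsg.Agent.Lib.Subspaces.FormVec
  Cfsg.Agent.Lib.TensorMax.Block Cfsg.Agent.Lib.TensorMax.Lemmas Cfsg.Agent.Lib.TensorFormMax.Basic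
  Cfsg.Agent.Lib.TensorOrthMax.Side

variable {F : Type*} [Field F] {m k : ℕ}

local notation "V1" => Fin m → F
local notation "V2" => Fin k → F
local notation "Vec" => Fin m × Fin k → F
local notation "Big" => Matrix (Fin m × Fin k) (Fin m × Fin k) F
local notation "A1" => Matrix (Fin m) (Fin m) F
local notation "A2" => Matrix (Fin k) (Fin k) F
local notation "G" => GL (Fin m × Fin k) F

/-- An overgroup of the stabiliser of a tensor product with an orthogonal second factor. -/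
structure Data (ε : F) (f₁ : (Fin m → F) → (Fin m → F) → F)
    (f₂ : (Fin k → F) → (Fin k → F) → F) (B : (Fin m × Fin k → F) → (Fin m × Fin k → F) → F)
    (M : Subgroup (GL (Fin m × Fin k) F)) : Prop where
  eps : ε = 1 ∨ ε = -1
  h1 : SForm (RingHom.id F) ε f₁
  sym : Sym f₂
  lin : IsLinearLeft B
  addR : ∀ x y z, B x (y + z) = B x y + B x z
  Bswap : ∀ x y, B y x = ε * B x y
  hB : ∀ z u w, B z (tens u w) = f₁ (ctr (formVec f₂ w) z) u
  iso : ∀ g ∈ M, ∀ x y, B ((g : Big) *ᵥ x) ((g : Big) *ᵥ y) = B x y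
  stab : ∀ g : GL (Fin m × Fin k) F, g ∈ Cfsg.Geo.kroneckerSubgroup m k F →
    (∀ x y, B ((g : Big) *ᵥ x) ((g : Big) *ᵥ y) = B x y) → g * g ∈ M
  hm : 2 ≤ m
  hk : 5 ≤ k
  hmk : m ≤ k

/-- The nilpotent part of the Eichler transformation of `v` and `z`. -/
def eN (f : (Fin k → F) → (Fin k → F) → F) (v z : Fin k → F) : Matrix (Fin k) (Fin k) F :=
  vecMulVec v (formVec f z) - vecMulVec z (formVec f v) - (f z z / 2) • vecMulVec v (formVec f v)

section eichler

variable {f : (Fin k → F) → (Fin k → F) → F} (hf : Sym f)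
include hf

theorem eN_mulVec (v z w : V2) :
    eN f v z *ᵥ w = f w z • v - f w v • z - (f z z / 2 * f w v) • v := by
  rw [eN, sub_mulVec, sub_mulVec, smul_mulVec, vecMulVec_mulVec, vecMulVec_mulVec, vecMulVec_mulVec,
    op_smul_eq_smul, op_smul_eq_smul, op_smul_eq_smul, hf.dot, hf.dot, smul_smul]

theorem eN_self {v z : V2} (hv : f v v = 0) (hzv : f z v = 0) : eN f v z *ᵥ v = 0 := by
  rw [eN_mulVec hf, hv, hf.comm z v, hzv]
  simp

theorem eN_partner {v z : V2} (hzv : f z v = 0) : eN f v z *ᵥ z = f z z • v := by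
  rw [eN_mulVec hf, hzv]
  simp

theorem eN_comp {v z z' : V2} (hv : f v v = 0) (hzv : f z v = 0) (hz'v : f z' v = 0) (w : V2) :
    eN f v z *ᵥ (eN f v z' *ᵥ w) = -(f w v * f z' z) • v := by
  rw [eN_mulVec hf v z', mulVec_sub, mulVec_sub, mulVec_smul, mulVec_smul, mulVec_smul, eN_self hf hv hzv,
    eN_mulVec hf v z z', hz'v]
  module

theorem eN_add {v z z' : V2} (hv : f v v = 0) (hzv : f z v = 0) (hz'v : f z' v = 0) :
    (1 + eN f v z) * (1 + eN f v z') = 1 + eN f v (z + z') := by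
  refine Matrix.mulVec_injective (funext fun w => ?_)
  simp only [← mulVec_mulVec, add_mulVec, one_mulVec, mulVec_add]
  rw [eN_comp hf hv hzv hz'v, eN_mulVec hf, eN_mulVec hf, eN_mulVec hf, hf.addR w z z', hf.addL z z', hf.addR z,
    hf.addR z', hf.comm z' z]
  have := hf.two
  match_scalars <;> field_simp <;> ring

theorem eN_zero (v : V2) : eN f v 0 = 0 := by
  refine Matrix.mulVec_injective (funext fun w => ?_)
  rw [eN_mulVec hf, hf.zeroR, hf.zeroR, zero_mulVec]
  simp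

theorem eN_isometry {v z : V2} (hv : f v v = 0) (hzv : f z v = 0) (x y : V2) :
    f ((1 + eN f v z) *ᵥ x) ((1 + eN f v z) *ᵥ y) = f x y := by
  rw [add_mulVec, add_mulVec, one_mulVec, one_mulVec, eN_mulVec hf, eN_mulVec hf]
  simp only [hf.addL, hf.addR, hf.subL, hf.subR, hf.smulL, hf.smulR, hv, hzv, hf.comm z v, hf.comm y v, hf.comm y z]
  have := hf.two
  field_simp
  ring

theorem eN_fix {v z w : V2} (hwv : f w v = 0) (hwz : f w z = 0) : eN f v z *ᵥ w = 0 := by
  rw [eN_mulVec hf, hwv, hwz]; simp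

theorem eN_mem (v z w : V2) : eN f v z *ᵥ w ∈ plane v z := by
  rw [eN_mulVec hf]
  exact Submodule.sub_mem _ (Submodule.sub_mem _ (Submodule.smul_mem _ _ (left_mem_plane v z))
    (Submodule.smul_mem _ _ (right_mem_plane v z))) (Submodule.smul_mem _ _ (left_mem_plane v z))

theorem eN_range [Finite F] {v z : V2} (hs : Seed f v z) : plane v z ≤ LinearMap.range (eN f v z).mulVecLin := by
  have hv : v ∈ LinearMap.range (eN f v z).mulVecLin := by
    obtain ⟨t, ht, htz⟩ := hf.dual hs.indep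
    refine ⟨t, ?_⟩
    rw [Matrix.mulVecLin_apply, eN_mulVec hf, htz, ht v (Submodule.mem_span_singleton_self v)]
    simp
  refine Submodule.span_le.2 ?_
  rintro x (rfl | rfl)
  · exact hv
  · obtain ⟨b, -, hb⟩ := hf.exists_hyperbolic hs.ne hs.iso
    have h1 : eN f v x *ᵥ b ∈ LinearMap.range (eN f v x).mulVecLin := ⟨b, rfl⟩
    rw [eN_mulVec hf, hb, one_smul] at h1
    have := Submodule.sub_mem _ (Submodule.smul_mem _ (f b x - f x x / 2) hv) h1
    have e : x = (f b x - f x x / 2) • v - (f b x • v - x - (f x x / 2 * 1) • v) := by module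
    rw [SetLike.mem_coe, e]
    rwa [← e] at this ⊢

end eichler

/-- The tensors all whose slices lie in a subspace. -/
def Tn (m : ℕ) (L : Submodule F (Fin k → F)) : Submodule F (Fin m × Fin k → F) where
  carrier := {x | ∀ i, slice x i ∈ L}
  add_mem' := fun hx hy i => L.add_mem (hx i) (hy i)
  zero_mem' := fun _ => L.zero_mem
  smul_mem' := fun c _ hx i => L.smul_mem c (hx i)

theorem tens_mem_Tn {L : Submodule F V2} (a : V1) {w : V2} (hw : w ∈ L) : tens a w ∈ Tn m L := fun i => by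
  show slice (tens a w) i ∈ L
  exact L.smul_mem (a i) hw

theorem Tn_mono {L L' : Submodule F V2} (h : L ≤ L') : Tn m L ≤ Tn m L' := fun _ hx i => h (hx i)

theorem Tn_inf (L L' : Submodule F V2) : Tn m (L ⊓ L') = Tn m L ⊓ Tn m L' :=
  le_antisymm (le_inf (Tn_mono inf_le_left) (Tn_mono inf_le_right)) fun _ hx i => ⟨hx.1 i, hx.2 i⟩

theorem Tn_sup (L L' : Submodule F V2) : Tn m (L ⊔ L') = Tn m L ⊔ Tn m L' := by
  refine le_antisymm (fun x hx => ?_) (sup_le (Tn_mono le_sup_left) (Tn_mono le_sup_right))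
  rw [← sum_tens_slice x]
  refine sum_mem fun i _ => ?_
  obtain ⟨p, hp, q, hq, hpq⟩ := Submodule.mem_sup.1 (hx i)
  rw [← hpq, tens_add_right]
  exact Submodule.add_mem _ (Submodule.mem_sup_left (tens_mem_Tn _ hp)) (Submodule.mem_sup_right (tens_mem_Tn _ hq))

theorem finrank_Tn (L : Submodule F V2) : Module.finrank F (Tn m L) = m * Module.finrank F L := by
  let e : Tn m L ≃ₗ[F] (Fin m → L) :=
    { toFun := fun x i => ⟨slice (x : Vec) i, x.2 i⟩
      map_add' := fun x y => rfl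
      map_smul' := fun c x => rfl
      invFun := fun g => ⟨fun p => (g p.1 : V2) p.2, fun i => (g i).2⟩
      left_inv := fun x => rfl
      right_inv := fun g => rfl }
  rw [e.finrank_eq, Module.finrank_pi_fintype]
  simp

theorem mem_Tn_line {v : V2} {x : Vec} (hx : x ∈ Tn m (Submodule.span F {v})) : ∃ a : V1, x = tens a v := by
  choose a ha using fun i => Submodule.mem_span_singleton.1 (hx i)
  exact ⟨a, funext fun p => (congrFun (ha p.1) p.2).symm⟩

theorem Tn_bot {x : Vec} (hx : x ∈ Tn m (⊥ : Submodule F V2)) : x = 0 :=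
  funext fun p => congrFun ((Submodule.mem_bot F).1 (hx p.1)) p.2

theorem slice_one_kron (N : A2) (x : Vec) (i : Fin m) :
    slice (((1 : A1) ⊗ₖ N) *ᵥ x) i = N *ᵥ slice x i := by
  funext d
  simp [slice, mulVec, dotProduct, kroneckerMap_apply, Matrix.one_apply, Fintype.sum_prod_type]

theorem one_kron_eq_zero {N : A2} {x : Vec} (h : ∀ i, N *ᵥ slice x i = 0) : ((1 : A1) ⊗ₖ N) *ᵥ x = 0 :=
  funext fun p => congrFun ((slice_one_kron N x p.1).trans (h p.1)) p.2

theorem tens_mul (N : A2) (u : V1) (w : V2) : ((1 : A1) ⊗ₖ N) *ᵥ tens u w = tens u (N *ᵥ w) := by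
  rw [kron_mulVec_tens, one_mulVec]

theorem kron_mem_Tn {a : A1} {b : A2} {L : Submodule F V2} {x : Vec} (hx : x ∈ Tn m L) :
    (a ⊗ₖ b) *ᵥ x ∈ Tn m (L.map b.mulVecLin) := by
  rw [← sum_tens_slice x, mulVec_sum]
  refine sum_mem fun i _ => ?_
  rw [kron_mulVec_tens]
  exact tens_mem_Tn _ (Submodule.mem_map_of_mem (f := b.mulVecLin) (hx i))

variable {ε : F} {f₁ : (Fin m → F) → (Fin m → F) → F} {f₂ : (Fin k → F) → (Fin k → F) → F}
  {B : (Fin m × Fin k → F) → (Fin m × Fin k → F) → F} {M : Subgroup (GL (Fin m × Fin k) F)}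

namespace Data

variable (D : Data ε f₁ f₂ B M)
include D

theorem eps_ne : ε ≠ 0 := by
  rcases D.eps with h | h <;> simp [h]

theorem B_tens (u u' : V1) (w w' : V2) : B (tens u w) (tens u' w') = f₂ w w' * f₁ u u' := by
  rw [D.hB, ctr_tens, D.sym.dot, D.h1.lin.smul_left]

theorem ctr_form_tens (u : V1) (w x : V2) : ctr (formVec f₂ x) (tens u w) = f₂ w x • u := by
  rw [ctr_tens, D.sym.dot]

theorem exists_pair : ∃ a b : V1, f₁ a b ≠ 0 := by
  have := D.hm
  have hne : (Pi.single ⟨0, by omega⟩ 1 : V1) ≠ 0 := by simp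
  obtain ⟨x, hx⟩ := D.h1.nondeg _ hne
  exact ⟨x, _, hx⟩

theorem B_comm0 {x y : Vec} (h : B x y = 0) : B y x = 0 := by rw [D.Bswap, h, mul_zero]

theorem B_sub_left (x y z : Vec) : B (x - y) z = B x z - B y z := form_sub_left D.lin x y z

theorem B_zero_right (x : Vec) : B x 0 = 0 := by
  rw [D.Bswap, form_zero_left D.lin, mul_zero]

theorem ctr_eq_zero_iff {w : V2} {x : Vec} :
    ctr (formVec f₂ w) x = 0 ↔ ∀ i, f₂ (slice x i) w = 0 := by
  refine ⟨fun h i => ?_, fun h => funext fun i => ?_⟩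
  · rw [← D.sym.dot, ← ctr_eq_dot, h]; rfl
  · rw [ctr_eq_dot, D.sym.dot, h]; rfl

theorem one_kron_isometry {N : A2} (hN : ∀ x y, f₂ (N *ᵥ x) (N *ᵥ y) = f₂ x y) (x y : Vec) :
    B (((1 : A1) ⊗ₖ N) *ᵥ x) (((1 : A1) ⊗ₖ N) *ᵥ y) = B x y := by
  conv_lhs => arg 2; rw [← sum_tens_slice y, mulVec_sum]
  conv_rhs => rw [← sum_tens_slice y]
  let L : ∀ x, Vec →+ F := fun x => AddMonoidHom.mk' (B x) (D.addR x)
  show L _ _ = L _ _
  rw [map_sum, map_sum]
  refine Finset.sum_congr rfl fun i _ => ?_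
  show B _ _ = B _ _
  rw [tens_mul, D.hB, D.hB]
  congr 1
  funext j
  rw [ctr_eq_dot, ctr_eq_dot, slice_one_kron, D.sym.dot, D.sym.dot, hN]

/-- The Eichler elements of the second factor lie in the group. -/
theorem exists_eich {v z : V2} (hv : f₂ v v = 0) (hzv : f₂ z v = 0) :
    ∃ R ∈ M, R ∈ Cfsg.Geo.kroneckerSubgroup m k F ∧ (R : Big) = (1 : A1) ⊗ₖ (1 + eN f₂ v z) := by
  have hf := D.sym
  set z' := (2 : F)⁻¹ • z
  have hz' : f₂ z' v = 0 := by rw [hf.smulL, hzv, mul_zero]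
  have hnz' : f₂ (-z') v = 0 := by rw [hf.negL, hz', neg_zero]
  let b : GL (Fin k) F :=
    ⟨1 + eN f₂ v z', 1 + eN f₂ v (-z'), by rw [eN_add hf hv hz' hnz', add_neg_cancel, eN_zero hf, add_zero],
      by rw [eN_add hf hv hnz' hz', neg_add_cancel, eN_zero hf, add_zero]⟩
  let h : G := kronGL 1 b
  have hh : h ∈ Cfsg.Geo.kroneckerSubgroup m k F := kronGL_mem _ _
  have hiso : ∀ x y, B ((h : Big) *ᵥ x) ((h : Big) *ᵥ y) = B x y := fun x y =>
    D.one_kron_isometry (fun p q => eN_isometry hf hv hz' p q) x y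
  refine ⟨h * h, D.stab h hh hiso, mul_mem hh hh, ?_⟩
  rw [Units.val_mul]
  show ((1 : A1) ⊗ₖ (1 + eN f₂ v z')) * ((1 : A1) ⊗ₖ (1 + eN f₂ v z')) = _
  rw [← Matrix.mul_kronecker_mul, one_mul, eN_add hf hv hz' hz', ← two_smul F z',
    smul_inv_smul₀ hf.two]

theorem eich_apply {R : G} {v z : V2} (hR : (R : Big) = (1 : A1) ⊗ₖ (1 + eN f₂ v z)) (x : Vec) :
    (R : Big) *ᵥ x = x + ((1 : A1) ⊗ₖ eN f₂ v z) *ᵥ x := by
  have _ := D.hm
  rw [hR, kronecker_add, one_kronecker_one, add_mulVec, one_mulVec]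

theorem eich_fix {R : G} {v z : V2} (hR : (R : Big) = (1 : A1) ⊗ₖ (1 + eN f₂ v z)) {x : Vec}
    (hx : ∀ i, f₂ (slice x i) v = 0 ∧ f₂ (slice x i) z = 0) : (R : Big) *ᵥ x = x := by
  rw [D.eich_apply hR, one_kron_eq_zero fun i => eN_fix D.sym (hx i).1 (hx i).2, add_zero]

theorem eich_mem_Tn (v z : V2) (x : Vec) : ((1 : A1) ⊗ₖ eN f₂ v z) *ᵥ x ∈ Tn m (plane v z) := fun i => by
  rw [slice_one_kron]; exact eN_mem D.sym v z _

theorem mul_kron_right {R : G} {v z : V2} (hR : (R : Big) = (1 : A1) ⊗ₖ (1 + eN f₂ v z)) (hv : f₂ v v = 0)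
    (hzv : f₂ z v = 0) (a : V1) : (R : Big) *ᵥ tens a v = tens a v := by
  rw [D.eich_apply hR, tens_mul, eN_self D.sym hv hzv, tens_zero_right, add_zero]

end Data

end Cfsg.Agent.Lib.TensorOrthMax.Setup
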