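import Cfsg.Agent.Lib.TensorOrthMax.Setup
import Cfsg.Agent.Lib.TensorFormMax.InvariantAlgebra
import Mathlib.NumberTheory.LegendreSymbol.QuadraticChar.Basic

/-!
A matrix subalgebra closed under the adjoint of a symmetric form, normalised by the Eichler transformations
and not scalar is everything.
-/

set_option autoImplicit false

namespace Cfsg.Agent.Lib.TensorOrthMax.InvariantOrth

open Matrix
open Cfsg.Agent.Lib.Subspaces.Transvection Cfsg.Agent.Lib.Subspaces.FormVec
  Cfsg.Agent.Lib.TensorFormMax.Basic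
  Cfsg.Agent.Lib.TensorOrthMax.Side Cfsg.Agent.Lib.TensorOrthMax.Setup

variable {F : Type*} [Field F] {m : ℕ}

local notation "Vec" => Fin m → F
local notation "Mat" => Matrix (Fin m) (Fin m) F

/-- A subspace stable under the algebra. -/
def Stable (S : Subalgebra F (Matrix (Fin m) (Fin m) F)) (W : Submodule F (Fin m → F)) : Prop :=
  ∀ A ∈ S, ∀ x ∈ W, A *ᵥ x ∈ W

/-- A common eigenvector of the algebra. -/
def Eig (S : Subalgebra F (Matrix (Fin m) (Fin m) F)) (w : Fin m → F) : Prop :=
  ∀ A ∈ S, ∃ c : F, A *ᵥ w = c • w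

/-- The reflection in a vector. -/
def refl (f : (Fin m → F) → (Fin m → F) → F) (x : Fin m → F) : Matrix (Fin m) (Fin m) F :=
  1 - (2 / f x x) • vecMulVec x (formVec f x)

theorem refl_mulVec {f : (Fin m → F) → (Fin m → F) → F} (hf : Sym f) (x y : Vec) :
    refl f x *ᵥ y = y - (2 / f x x * f y x) • x := by
  rw [refl, sub_mulVec, one_mulVec, smul_mulVec, vecMulVec_mulVec, op_smul_eq_smul, hf.dot, smul_smul]

theorem refl_mul_self {f : (Fin m → F) → (Fin m → F) → F} (hf : Sym f) {x : Vec} (hx : f x x ≠ 0) :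
    refl f x * refl f x = 1 := by
  refine Matrix.mulVec_injective (funext fun y => ?_)
  rw [← mulVec_mulVec, refl_mulVec hf, refl_mulVec hf, one_mulVec, hf.subL, hf.smulL]
  match_scalars
  · ring
  · field_simp; ring

theorem refl_isometry {f : (Fin m → F) → (Fin m → F) → F} (hf : Sym f) {x : Vec} (hx : f x x ≠ 0) (y z : Vec) :
    f (refl f x *ᵥ y) (refl f x *ᵥ z) = f y z := by
  rw [refl_mulVec hf, refl_mulVec hf]
  simp only [hf.subL, hf.subR, hf.smulL, hf.smulR, hf.comm z x]
  field_simp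
  ring

/-- The hypotheses. -/
structure Hyp (f : (Fin m → F) → (Fin m → F) → F) (S : Subalgebra F (Matrix (Fin m) (Fin m) F)) : Prop where
  sym : Sym f
  hm : 3 ≤ m
  big : 4 ≤ m ∨ ∃ c : F, c ≠ 0 ∧ c * c ≠ 1
  noplane : m = 4 →
    (∀ v s : Fin m → F, v ≠ 0 → f v v = 0 → f s s = 0 → f s v = 0 → s ∈ Submodule.span F {v}) ∨
    ∀ x, f x x ≠ 0 → ∀ A ∈ S, refl f x * A * refl f x ∈ S
  adj : ∀ A ∈ S, ∃ A' ∈ S, ∀ u u', f (A *ᵥ u) u' = f u (A' *ᵥ u')
  inv : ∀ a z, f a a = 0 → f z a = 0 → ∀ A ∈ S, (1 + eN f a z) * A * (1 + eN f a (-z)) ∈ S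
  nonscalar : ∃ A ∈ S, ∀ c : F, A ≠ c • 1

variable {f : (Fin m → F) → (Fin m → F) → F} {S : Subalgebra F (Matrix (Fin m) (Fin m) F)}

section geometry

variable [Finite F] (hf : Sym f)
include hf

/-- An isotropic vector orthogonal to few given vectors. -/
theorem exists_iso_perp {l : ℕ} (s : Fin l → Vec) (h : l + 3 ≤ m) :
    ∃ v, v ≠ 0 ∧ f v v = 0 ∧ ∀ i, f v (s i) = 0 := by
  obtain ⟨r, hr, hrs⟩ := hf.exists_perp (⊥ : Submodule F Vec) s (by rw [finrank_bot]; omega)
  have hr0 : r ≠ 0 := fun e => hr (by rw [e]; exact Submodule.zero_mem _)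
  by_cases h1 : f r r = 0
  · exact ⟨r, hr0, h1, hrs⟩
  obtain ⟨q, hq, hqs⟩ := hf.exists_perp (⊥ : Submodule F Vec) (Fin.cons r s) (by rw [finrank_bot]; omega)
  have hq0 : q ≠ 0 := fun e => hq (by rw [e]; exact Submodule.zero_mem _)
  have hqr : f q r = 0 := by simpa using hqs 0
  have hqs' : ∀ i, f q (s i) = 0 := fun i => by simpa using hqs i.succ
  by_cases h2 : f q q = 0
  · exact ⟨q, hq0, h2, hqs'⟩
  obtain ⟨p, hp, hps⟩ := hf.exists_perp (⊥ : Submodule F Vec) (Fin.cons r (Fin.cons q s))
    (by rw [finrank_bot]; omega)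
  have hp0 : p ≠ 0 := fun e => hp (by rw [e]; exact Submodule.zero_mem _)
  have hpr : f p r = 0 := by simpa using hps 0
  have hpq : f p q = 0 := by
    have := hps (Fin.succ 0)
    simpa using this
  have hps' : ∀ i, f p (s i) = 0 := fun i => by
    have := hps i.succ.succ
    simpa using this
  obtain ⟨a, b, hab⟩ := Cfsg.Agent.Lib.Subspaces.UnitaryForm.exists_quad_root (f p p) (f r r) (f q q) h1 h2
  refine ⟨p + (a • r + b • q), fun e => hp0 ?_, ?_, fun i => ?_⟩
  · have e1 : f (p + (a • r + b • q)) r = 0 := by rw [e, hf.zeroL]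
    have e2 : f (p + (a • r + b • q)) q = 0 := by rw [e, hf.zeroL]
    simp [hf.addL, hf.smulL, hpr, hqr, h1] at e1
    simp [hf.addL, hf.smulL, hpq, hf.comm q r, hqr, h2] at e2
    rw [e1, e2, zero_smul, zero_smul, add_zero, add_zero] at e
    exact e
  · simp only [hf.addL, hf.addR, hf.smulL, hf.smulR, hpr, hf.comm p r, hpq, hf.comm p q, hqr, hf.comm q r]
    linear_combination hab
  · simp [hf.addL, hf.smulL, hps', hrs, hqs']

/-- An isotropic vector not orthogonal to a given one. -/
theorem exists_iso_pair (hm : 3 ≤ m) {w : Vec} (hw : w ≠ 0) : ∃ a, f a a = 0 ∧ f w a ≠ 0 := by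
  by_contra hc
  push Not at hc
  obtain ⟨a, ha, haa⟩ := hf.exists_iso hm
  obtain ⟨b, hbb, hba⟩ := hf.exists_hyperbolic ha haa
  have hwa := hc a haa
  have hwb := hc b hbb
  refine hw (hf.eq_zero fun u => ?_)
  set z := u - f u a • b - f u b • a with hz
  have hza : f z a = 0 := by rw [hz, hf.subL, hf.subL, hf.smulL, hf.smulL, hba, haa]; ring
  have hzb : f z b = 0 := by rw [hz, hf.subL, hf.subL, hf.smulL, hf.smulL, hbb, hf.comm b a, hba]; ring
  have h2 := hf.two
  have hwz : f w (b + (-(f z z / 2)) • a + z) = 0 := hc _ (by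
    simp only [hf.addL, hf.addR, hf.smulL, hf.smulR, hbb, haa, hba, hf.comm b a, hza, hzb, hf.comm z a, hf.comm z b]
    field_simp
    ring)
  have e : f w z = f w u := by rw [hz, hf.subR, hf.subR, hf.smulR, hf.smulR, hwb, hwa]; ring
  rw [hf.addR, hf.addR, hf.smulR, hwb, hwa, e] at hwz
  rw [hf.comm]
  simpa using hwz

/-- An anisotropic vector orthogonal to an isotropic one. -/
theorem exists_aniso_perp (hm : 3 ≤ m) {a : Vec} (ha : a ≠ 0) (haa : f a a = 0) :
    ∃ z, f z a = 0 ∧ f z z ≠ 0 := by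
  obtain ⟨b, hbb, hba⟩ := hf.exists_hyperbolic ha haa
  obtain ⟨z0, hz0, hz0s⟩ := hf.exists_perp (⊥ : Submodule F Vec) ![a, b] (by rw [finrank_bot]; omega)
  have h0 : f z0 a = 0 := hz0s 0
  have h1 : f z0 b = 0 := hz0s 1
  have hr : Submodule.span F (Set.range ![a, b]) = plane a b := by
    rw [Matrix.range_cons, Matrix.range_cons, Matrix.range_empty, Set.union_empty]; rfl
  obtain ⟨p, hp, hpp⟩ := hf.exists_aniso ![a, b] hz0s (fun e => hz0 ((Submodule.mem_bot F).2 (by
    rw [hr] at e
    obtain ⟨α, β, rfl⟩ := mem_plane.1 e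
    rw [hf.addL, hf.smulL, hf.smulL, haa, hba] at h0
    rw [hf.addL, hf.smulL, hf.smulL, hbb, hf.comm b a, hba] at h1
    simp at h0 h1
    simp [h0, h1])))
  exact ⟨p, hp 0, hpp⟩

/-- An anisotropic vector orthogonal to an isotropic one avoiding a value. -/
theorem exists_aniso_avoid (hm : 3 ≤ m) (hbig : 4 ≤ m ∨ ∃ c : F, c ≠ 0 ∧ c * c ≠ 1) {a : Vec} (ha : a ≠ 0)
    (haa : f a a = 0) (τ : F) : ∃ z, f z a = 0 ∧ f z z ≠ 0 ∧ f z z ≠ τ := by
  obtain ⟨z0, hz0, hz00⟩ := exists_aniso_perp hf hm ha haa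
  by_cases h : f z0 z0 = τ
  swap
  · exact ⟨z0, hz0, hz00, h⟩
  rcases hbig with h4 | ⟨c, hc, hc1⟩
  · obtain ⟨b, hbb, hba⟩ := hf.exists_hyperbolic ha haa
    set b' := b - (f b z0 / f z0 z0) • z0 with hb'
    have hb'a : f b' a = 1 := by rw [hb', hf.subL, hf.smulL, hba, hz0, mul_zero, sub_zero]
    have hb'z : f b' z0 = 0 := by rw [hb', hf.subL, hf.smulL, div_mul_cancel₀ _ hz00, sub_self]
    obtain ⟨z1, hz1, hz1s⟩ := hf.exists_perp (⊥ : Submodule F Vec) ![a, b', z0] (by rw [finrank_bot]; omega)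
    have g0 : f z1 a = 0 := hz1s 0
    have g1 : f z1 b' = 0 := hz1s 1
    have g2 : f z1 z0 = 0 := hz1s 2
    obtain ⟨p, hp, hpp⟩ := hf.exists_aniso ![a, b', z0] hz1s (fun e => hz1 ((Submodule.mem_bot F).2 (by
      obtain ⟨co, hco⟩ := (Submodule.mem_span_range_iff_exists_fun F).1 e
      simp only [Fin.sum_univ_three, Matrix.cons_val_zero, Matrix.cons_val_one, Matrix.cons_val_two,
        Matrix.tail_cons, Matrix.head_cons] at hco
      rw [← hco] at g0 g1 g2
      simp [hf.addL, hf.smulL, haa, hb'a, hz0] at g0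
      simp [hf.addL, hf.smulL, hf.comm b' a, hb'a, g0, hf.comm b' z0, hb'z] at g1
      simp [hf.addL, hf.smulL, hf.comm z0 a, hz0, hb'z, hz00] at g2
      rw [← hco, g0, g1, g2]
      simp)))
    have hpa : f p a = 0 := hp 0
    have hpz : f p z0 = 0 := hp 2
    by_cases hp1 : f p p = τ
    swap
    · exact ⟨p, hpa, hpp, hp1⟩
    refine ⟨z0 + p, by rw [hf.addL, hz0, hpa, add_zero], ?_⟩
    have e : f (z0 + p) (z0 + p) = 2 * τ := by
      rw [hf.addL, hf.addR, hf.addR, h, hp1, hpz, hf.comm p z0, hpz]; ring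
    have hτ : τ ≠ 0 := h ▸ hz00
    exact ⟨by rw [e]; exact mul_ne_zero hf.two hτ, fun e' => hτ (by linear_combination e' - e)⟩
  · refine ⟨c • z0, by rw [hf.smulL, hz0, mul_zero], ?_⟩
    rw [hf.smulL, hf.smulR, ← mul_assoc, h]
    have hτ : τ ≠ 0 := h ▸ hz00
    exact ⟨mul_ne_zero (mul_ne_zero hc hc) hτ, fun e' => hc1 (mul_right_cancel₀ hτ (e'.trans (one_mul τ).symm))⟩

end geometry

variable (H : Hyp f S)
include H

theorem conj_mulVec {a z : Vec} (ha : f a a = 0) (hz : f z a = 0) :
    (1 + eN f a (-z)) * (1 + eN f a z) = 1 ∧ (1 + eN f a z) * (1 + eN f a (-z)) = 1 := by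
  have hn : f (-z) a = 0 := by rw [H.sym.negL, hz, neg_zero]
  exact ⟨by rw [eN_add H.sym ha hn hz, neg_add_cancel, eN_zero H.sym, add_zero],
    by rw [eN_add H.sym ha hz hn, add_neg_cancel, eN_zero H.sym, add_zero]⟩

theorem eig_move {w a z : Vec} (hw : Eig S w) (ha : f a a = 0) (hz : f z a = 0) :
    Eig S (w + eN f a z *ᵥ w) := by
  intro A hA
  have hn : f (-z) a = 0 := by rw [H.sym.negL, hz, neg_zero]
  obtain ⟨c, hc⟩ := hw _ (H.inv a (-z) ha hn A hA)
  refine ⟨c, ?_⟩
  rw [neg_neg] at hc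
  have e : ((1 + eN f a z) * ((1 + eN f a (-z)) * A * (1 + eN f a z))) *ᵥ w = A *ᵥ (w + eN f a z *ᵥ w) := by
    rw [← Matrix.mul_assoc, ← Matrix.mul_assoc, (conj_mulVec H ha hz).2, one_mul, ← mulVec_mulVec, add_mulVec,
      one_mulVec]
  rw [← e, ← mulVec_mulVec, hc, mulVec_smul, add_mulVec, one_mulVec]

theorem eig_adj {A A' : Mat} (hadj : ∀ u u', f (A *ᵥ u) u' = f u (A' *ᵥ u')) {w b : Vec} (hwb : f w b ≠ 0)
    {c d : F} (hc : A *ᵥ w = c • w) (hd : A' *ᵥ b = d • b) : c = d := by
  have := hadj w b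
  rw [hc, hd, H.sym.smulL, H.sym.smulR] at this
  exact mul_right_cancel₀ hwb this

variable [Finite F]

/-- There is no isotropic common eigenvector. -/
theorem no_iso_eig {w : Vec} (hw : w ≠ 0) (hww : f w w = 0) : ¬ Eig S w := by
  intro hE
  have hf := H.sym
  have h2 := hf.two
  obtain ⟨A, hA, hns⟩ := H.nonscalar
  obtain ⟨A', hA', hadj⟩ := H.adj A hA
  have hadj' : ∀ u u', f (A' *ᵥ u) u' = f u (A *ᵥ u') := fun u u' => by rw [hf.comm, ← hadj, hf.comm]
  obtain ⟨χ, hχ⟩ := hE A hA
  obtain ⟨χ', hχ'⟩ := hE A' hA'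
  obtain ⟨a, haa, hwa⟩ := exists_iso_pair hf H.hm hw
  have ha : a ≠ 0 := fun e => hwa (by rw [e, hf.zeroR])
  have key : ∀ z, f z a = 0 → f z z ≠ 0 → A *ᵥ a = χ • a ∧ A *ᵥ z = χ • z := by
    intro z hza hzz
    have hnz : f (-z) a = 0 := by rw [hf.negL, hza, neg_zero]
    set bp := w + eN f a z *ᵥ w with hbp
    set bm := w + eN f a (-z) *ᵥ w with hbm
    obtain ⟨p, hp⟩ := eig_move H hE haa hza A hA
    obtain ⟨p', hp'⟩ := eig_move H hE haa hza A' hA'
    obtain ⟨q, hq⟩ := eig_move H hE haa hnz A hA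
    obtain ⟨q', hq'⟩ := eig_move H hE haa hnz A' hA'
    have hne : ∀ c : F, c * c = 1 → f w (w + eN f a (c • z) *ᵥ w) ≠ 0 := by
      intro c hc
      have : f w (w + eN f a (c • z) *ᵥ w) = -(f z z / 2) * (f w a * f w a) := by
        rw [eN_mulVec hf]
        simp only [hf.addR, hf.subR, hf.smulR, hf.smulL, hww]
        linear_combination -(f z z / 2 * (f w a * f w a)) * hc
      rw [this]
      exact mul_ne_zero (neg_ne_zero.2 (div_ne_zero hzz h2)) (mul_ne_zero hwa hwa)
    have h1 : f w bp ≠ 0 := by simpa [hbp] using hne 1 (one_mul 1)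
    have h1' : f w bm ≠ 0 := by simpa [hbm] using hne (-1) (by ring)
    have h3 : f bp bm ≠ 0 := by
      have : f bp bm = -2 * f z z * (f w a * f w a) := by
        rw [hbp, hbm, eN_mulVec hf, eN_mulVec hf]
        simp only [hf.addL, hf.addR, hf.subL, hf.subR, hf.smulL, hf.smulR, hf.negL, hf.negR, hww, haa, hza,
          hf.comm z a, hf.comm w a, hf.comm w z]
        field_simp
        ring
      rw [this]
      exact mul_ne_zero (mul_ne_zero (neg_ne_zero.2 h2) hzz) (mul_ne_zero hwa hwa)
    have e1 := eig_adj H hadj h1 hχ hp'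
    have e2 := eig_adj H hadj h1' hχ hq'
    have e3 := eig_adj H hadj h3 hp hq'
    have e4 := eig_adj H hadj' h1 hχ' hp
    have e5 := eig_adj H hadj' h1' hχ' hq
    have hpχ : p = χ := e3.trans e2.symm
    have hqχ : q = χ := e5.symm.trans (e4.trans hpχ)
    rw [hpχ] at hp
    rw [hqχ] at hq
    rw [← hbp] at hp
    rw [← hbm] at hq
    have hsum : bp + bm - (2 : F) • w = -(f z z * f w a) • a := by
      rw [hbp, hbm, eN_mulVec hf, eN_mulVec hf, hf.negL, hf.negR, hf.negR]
      match_scalars <;> field_simp <;> ring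
    have hAa : A *ᵥ a = χ • a := by
      have e : A *ᵥ (bp + bm - (2 : F) • w) = χ • (bp + bm - (2 : F) • w) := by
        rw [mulVec_sub, mulVec_add, mulVec_smul, hp, hq, hχ]; module
      rw [hsum, mulVec_smul, smul_comm χ] at e
      exact smul_right_injective Vec (neg_ne_zero.2 (mul_ne_zero hzz hwa)) e
    refine ⟨hAa, ?_⟩
    have e : A *ᵥ (bp - bm) = χ • (bp - bm) := by rw [mulVec_sub, hp, hq, smul_sub]
    have hdiff : bp - bm = (2 * f w z) • a - (2 * f w a) • z := by
      rw [hbp, hbm, eN_mulVec hf, eN_mulVec hf, hf.negL, hf.negR, hf.negR]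
      match_scalars <;> field_simp <;> ring
    rw [hdiff, mulVec_sub, mulVec_smul, mulVec_smul, hAa, smul_sub, smul_comm χ, smul_comm χ] at e
    exact smul_right_injective Vec (mul_ne_zero h2 hwa) (sub_right_injective e)
  obtain ⟨z0, hz0, hz00⟩ := exists_aniso_perp hf H.hm ha haa
  have hperp : ∀ z, f z a = 0 → A *ᵥ z = χ • z := by
    intro z hza
    by_cases hzz : f z z = 0
    swap
    · exact (key z hza hzz).2
    obtain ⟨c, hc, hne⟩ : ∃ c : F, c ≠ 0 ∧ f (z + c • z0) (z + c • z0) ≠ 0 := by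
      by_contra hc
      push Not at hc
      have e1 := hc 1 one_ne_zero
      have e2 := hc (-1) (neg_ne_zero.2 one_ne_zero)
      rw [hf.expand, hzz] at e1 e2
      have : (2 : F) * f z0 z0 = 0 := by linear_combination e1 + e2
      exact hz00 ((mul_eq_zero.1 this).resolve_left h2)
    have h1 := (key (z + c • z0) (by rw [hf.addL, hf.smulL, hza, hz0, mul_zero, add_zero]) hne).2
    rw [mulVec_add, mulVec_smul, (key z0 hz0 hz00).2, smul_add, smul_comm χ] at h1
    exact add_right_cancel h1
  refine hns χ (Matrix.mulVec_injective (funext fun x => ?_))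
  rw [smul_mulVec, one_mulVec]
  have h1 := hperp (x - (f x a / f w a) • w) (by rw [hf.subL, hf.smulL, div_mul_cancel₀ _ hwa, sub_self])
  rw [mulVec_sub, mulVec_smul, hχ, smul_sub, smul_comm χ] at h1
  exact sub_left_injective h1

/-- There is no common eigenvector. -/
theorem no_eig {w : Vec} (hw : w ≠ 0) : ¬ Eig S w := by
  intro hE
  have hf := H.sym
  have h2 := hf.two
  by_cases hww : f w w = 0
  · exact no_iso_eig H hw hww hE
  obtain ⟨a, haa, hwa⟩ := exists_iso_pair hf H.hm hw
  have ha : a ≠ 0 := fun e => hwa (by rw [e, hf.zeroR])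
  obtain ⟨z, hza, hzz, hzτ⟩ := exists_aniso_avoid hf H.hm H.big ha haa (2 * f w w / (f w a * f w a))
  have hnz : f (-z) a = 0 := by rw [hf.negL, hza, neg_zero]
  refine no_iso_eig H ha haa fun A hA => ?_
  obtain ⟨A', hA', hadj⟩ := H.adj A hA
  have hadj' : ∀ u u', f (A' *ᵥ u) u' = f u (A *ᵥ u') := fun u u' => by rw [hf.comm, ← hadj, hf.comm]
  obtain ⟨χ, hχ⟩ := hE A hA
  obtain ⟨χ', hχ'⟩ := hE A' hA'
  set bp := w + eN f a z *ᵥ w with hbp
  set bm := w + eN f a (-z) *ᵥ w with hbm
  obtain ⟨p, hp⟩ := eig_move H hE haa hza A hA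
  obtain ⟨q, hq⟩ := eig_move H hE haa hnz A hA
  have hval : f w w - f z z / 2 * (f w a * f w a) ≠ 0 := fun e => hzτ (by
    rw [eq_div_iff (mul_ne_zero hwa hwa)]
    field_simp at e
    linear_combination -e)
  have h1 : f w bp ≠ 0 := by
    have : f w bp = f w w - f z z / 2 * (f w a * f w a) := by
      rw [hbp, eN_mulVec hf]
      simp only [hf.addR, hf.subR, hf.smulR]
      ring
    rw [this]; exact hval
  have h1' : f w bm ≠ 0 := by
    have : f w bm = f w w - f z z / 2 * (f w a * f w a) := by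
      rw [hbm, eN_mulVec hf]
      simp only [hf.addR, hf.subR, hf.smulR, hf.negL, hf.negR]
      ring
    rw [this]; exact hval
  have hχχ : χ = χ' := eig_adj H hadj hww hχ hχ'
  have e1 : χ = p := hχχ.trans (eig_adj H hadj' h1 hχ' hp)
  have e2 : χ = q := hχχ.trans (eig_adj H hadj' h1' hχ' hq)
  rw [← e1] at hp
  rw [← e2] at hq
  rw [← hbp] at hp
  rw [← hbm] at hq
  refine ⟨χ, ?_⟩
  have e : A *ᵥ (bp + bm - (2 : F) • w) = χ • (bp + bm - (2 : F) • w) := by
    rw [mulVec_sub, mulVec_add, mulVec_smul, hp, hq, hχ]; module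
  have hsum : bp + bm - (2 : F) • w = -(f z z * f w a) • a := by
    rw [hbp, hbm, eN_mulVec hf, eN_mulVec hf, hf.negL, hf.negR, hf.negR]
    match_scalars <;> field_simp <;> ring
  rw [hsum, mulVec_smul, smul_comm χ] at e
  exact smul_right_injective Vec (neg_ne_zero.2 (mul_ne_zero hzz hwa)) e

theorem no_line_stable {W : Submodule F Vec} (hW : Stable S W) : Module.finrank F W ≠ 1 := by
  intro h1
  obtain ⟨⟨w, hwW⟩, hw0, hw⟩ := finrank_eq_one_iff'.1 h1
  refine no_eig H (w := w) (fun e => hw0 (Subtype.ext e)) fun A hA => ?_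
  obtain ⟨c, hc⟩ := hw ⟨_, hW A hA w hwW⟩
  exact ⟨c, (congrArg Subtype.val hc).symm⟩

omit [Finite F] H in
theorem stable_inf {W W' : Submodule F Vec} (h : Stable S W) (h' : Stable S W') : Stable S (W ⊓ W') :=
  fun A hA x hx => ⟨h A hA x hx.1, h' A hA x hx.2⟩

omit [Finite F] in
theorem stable_map {W : Submodule F Vec} (h : Stable S W) {a z : Vec} (ha : f a a = 0) (hz : f z a = 0) :
    Stable S (W.map (1 + eN f a z).mulVecLin) := by
  rintro A hA _ ⟨x, hx, rfl⟩
  have hn : f (-z) a = 0 := by rw [H.sym.negL, hz, neg_zero]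
  have h1 := H.inv a (-z) ha hn A hA
  rw [neg_neg] at h1
  refine ⟨_, h _ h1 x hx, ?_⟩
  simp only [Matrix.mulVecLin_apply]
  rw [mulVec_mulVec, mulVec_mulVec, ← Matrix.mul_assoc, ← Matrix.mul_assoc, (conj_mulVec H ha hz).2, one_mul]

/-- Stable subspaces that meet their translate are translated into themselves, in dimension two. -/
theorem plane_fixed {W : Submodule F Vec} (hW : Stable S W) (h2 : Module.finrank F W = 2) {a z w y : Vec}
    (ha : f a a = 0) (hz : f z a = 0) (hw : w ∈ W) (hw0 : w ≠ 0) (hwa : f w a = 0) (hwz : f w z = 0)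
    (hy : y ∈ W) : eN f a z *ᵥ y ∈ W := by
  set t := (1 + eN f a z).mulVecLin
  have hmem : w ∈ W ⊓ W.map t := ⟨hw, w, hw, by
    simp only [t, Matrix.mulVecLin_apply, add_mulVec, one_mulVec, eN_fix H.sym hwa hwz, add_zero]⟩
  have hne : Module.finrank F (W ⊓ W.map t : Submodule F Vec) ≠ 0 := fun e => hw0 ((Submodule.mem_bot F).1
    (Submodule.finrank_eq_zero.1 e ▸ hmem))
  have h1 : Module.finrank F (W ⊓ W.map t : Submodule F Vec) ≠ 1 :=
    no_line_stable H (stable_inf hW (stable_map H hW ha hz))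
  have hle : Module.finrank F (W ⊓ W.map t : Submodule F Vec) ≤ 2 := h2 ▸ Submodule.finrank_mono inf_le_left
  have he : W ⊓ W.map t = W :=
    Submodule.eq_of_le_of_finrank_le (inf_le_left : W ⊓ W.map t ≤ W) (by omega)
  have he2 : W = W.map t := Submodule.eq_of_le_of_finrank_le (inf_eq_left.1 he) (Submodule.finrank_map_le _ _)
  have : t y ∈ W := by rw [he2]; exact Submodule.mem_map_of_mem hy
  have h3 := W.sub_mem this hy
  simpa [t, add_mulVec] using h3

/-- No isotropic vector is orthogonal to a non-degenerate stable plane. -/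
theorem no_iso_perp {W : Submodule F Vec} (hW : Stable S W) (h2 : Module.finrank F W = 2)
    (hnd : ∀ x ∈ W, (∀ y ∈ W, f x y = 0) → x = 0) {a : Vec} (ha : a ≠ 0) (haa : f a a = 0)
    (hperp : ∀ x ∈ W, f x a = 0) : False := by
  have hf := H.sym
  obtain ⟨w, hw, hw0⟩ := Submodule.exists_mem_ne_zero_of_ne_bot (p := W) fun e => by
    rw [e, finrank_bot] at h2; omega
  have haW : a ∉ W := fun e => ha (hnd a e fun y hy => by rw [hf.comm, hperp y hy])
  obtain ⟨y, hy, hyn⟩ : ∃ y ∈ W, y ∉ plane a w := by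
    by_contra hc
    push Not at hc
    have := Submodule.eq_of_le_of_finrank_le (show W ≤ plane a w from hc)
      (by rw [h2]; exact finrank_plane_le a w)
    exact haW (this ▸ left_mem_plane a w)
  obtain ⟨z, hz, hzy⟩ := hf.dual hyn
  have hza := hz a (left_mem_plane a w)
  have hzw := hz w (right_mem_plane a w)
  have h := plane_fixed H hW h2 haa hza hw hw0 (hperp w hw) (by rw [hf.comm, hzw]) hy
  rw [eN_mulVec hf, hperp y hy, hf.comm z y, hzy, one_smul, zero_smul, sub_zero, mul_zero, zero_smul, sub_zero] at h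
  exact haW h

/-- The orthogonal of a subspace. -/
def perp (W : Submodule F (Fin m → F)) : Submodule F (Fin m → F) where
  carrier := {x | ∀ y ∈ W, f x y = 0}
  add_mem' := fun {a b} ha hb y hy => by rw [H.sym.addL, ha y hy, hb y hy, add_zero]
  zero_mem' := fun y _ => H.sym.zeroL y
  smul_mem' := fun c a ha y hy => by rw [H.sym.smulL, ha y hy, mul_zero]

omit [Finite F] in
theorem stable_perp {W : Submodule F Vec} (hW : Stable S W) : Stable S (perp H W) := fun A hA x hx y hy => by
  obtain ⟨A', hA', hadj⟩ := H.adj A hA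
  rw [hadj]
  exact hx _ (hW A' hA' y hy)

theorem finrank_perp {W : Submodule F Vec} (h2 : Module.finrank F W = 2) :
    Module.finrank F (perp H W) + 2 = m := by
  have hf := H.sym
  let b := Module.finBasisOfFinrankEq F W h2
  let L : Vec →ₗ[F] (Fin 2 → F) :=
    { toFun := fun x i => f x (b i : Vec)
      map_add' := fun x y => funext fun i => hf.addL _ _ _
      map_smul' := fun c x => funext fun i => hf.smulL _ _ _ }
  have hker : LinearMap.ker L = perp H W := by
    ext x
    refine ⟨fun hx y hy => ?_, fun hx => funext fun i => hx _ (b i).2⟩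
    have e : y = ∑ i, b.repr ⟨y, hy⟩ i • (b i : Vec) := by
      have := congrArg Subtype.val (b.sum_repr ⟨y, hy⟩)
      push_cast at this
      exact this.symm
    rw [e, Fin.sum_univ_two, hf.addR, hf.smulR, hf.smulR, show f x (b 0 : Vec) = 0 from congrFun hx 0,
      show f x (b 1 : Vec) = 0 from congrFun hx 1, mul_zero, mul_zero, add_zero]
  have hrange : LinearMap.range L = ⊤ := by
    refine LinearMap.range_eq_top.2 fun c => ?_
    have hb1 : ∀ i j : Fin 2, i ≠ j → (b i : Vec) ∉ Submodule.span F {(b j : Vec)} := fun i j hij e => by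
      obtain ⟨d, hd⟩ := Submodule.mem_span_singleton.1 e
      have := congrArg (fun y : W => b.repr y i) (show d • b j = b i from Subtype.ext hd)
      simp [hij] at this
    obtain ⟨t0, ht0, ht0'⟩ := hf.dual (hb1 0 1 (by decide))
    obtain ⟨t1, ht1, ht1'⟩ := hf.dual (hb1 1 0 (by decide))
    refine ⟨c 0 • t0 + c 1 • t1, funext fun i => ?_⟩
    show f (c 0 • t0 + c 1 • t1) (b i : Vec) = c i
    have e0 := ht0 _ (Submodule.mem_span_singleton_self _)
    have e1 := ht1 _ (Submodule.mem_span_singleton_self _)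
    fin_cases i
    · simp [hf.addL, hf.smulL, ht0', e1]
    · simp [hf.addL, hf.smulL, e0, ht1']
  have := LinearMap.finrank_range_add_finrank_ker L
  rw [hrange, finrank_top, hker, Module.finrank_fin_fun, Module.finrank_fin_fun] at this
  omega

omit H in
theorem nonsquare_mul {u v : F} (h2 : (2 : F) ≠ 0) (hu : ¬ IsSquare u) (hv : ¬ IsSquare v) : IsSquare (u * v) := by
  classical
  have := Fintype.ofFinite F
  have hc : ringChar F ≠ 2 := fun e => h2 (by
    have := ringChar.Nat.cast_ringChar (R := F)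
    rw [e] at this
    exact_mod_cast this)
  have hu1 := quadraticChar_neg_one_iff_not_isSquare.2 hu
  have hv1 := quadraticChar_neg_one_iff_not_isSquare.2 hv
  have hu0 : u ≠ 0 := fun e => hu (e ▸ IsSquare.zero)
  have hv0 : v ≠ 0 := fun e => hv (e ▸ IsSquare.zero)
  rw [← quadraticChar_one_iff_isSquare (mul_ne_zero hu0 hv0), map_mul, hu1, hv1]
  norm_num

/-- Reflections leave no stable plane in dimension four. -/
theorem no_plane_four {W : Submodule F Vec} (hW : Stable S W) (hW2 : Module.finrank F W = 2) (h4 : m = 4)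
    (hR : ∀ x, f x x ≠ 0 → ∀ A ∈ S, refl f x * A * refl f x ∈ S) : False := by
  have hf := H.sym
  have hW2' : Module.finrank F (perp H W) = 2 := by have := finrank_perp H hW2; omega
  have good : ∀ x, f x x ≠ 0 → x ∈ W ∨ x ∈ perp H W := by
    intro x hx
    by_contra hc
    push Not at hc
    obtain ⟨hxW, hxP⟩ := hc
    obtain ⟨y, hy, hyx⟩ : ∃ y ∈ W, f y x ≠ 0 := by
      by_contra h
      push Not at h
      exact hxP fun y hy => by rw [hf.comm]; exact h y hy
    set t := (refl f x).mulVecLin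
    have htW : Stable S (W.map t) := by
      rintro A hA _ ⟨z, hz, rfl⟩
      refine ⟨_, hW _ (hR x hx A hA) z hz, ?_⟩
      simp only [t, Matrix.mulVecLin_apply]
      rw [mulVec_mulVec, mulVec_mulVec, ← Matrix.mul_assoc, ← Matrix.mul_assoc, refl_mul_self hf hx, Matrix.one_mul]
    obtain ⟨w, hw, hw0, hwx⟩ : ∃ w ∈ W, w ≠ 0 ∧ f w x = 0 := by
      obtain ⟨y', hy', hy'n⟩ : ∃ y' ∈ W, y' ∉ Submodule.span F {y} := by
        by_contra hc
        push Not at hc
        have := Submodule.finrank_mono (show W ≤ Submodule.span F {y} from hc)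
        rw [finrank_span_singleton (fun e => hyx (by rw [e, hf.zeroL])), hW2] at this
        omega
      refine ⟨y' - (f y' x / f y x) • y, W.sub_mem hy' (W.smul_mem _ hy), fun e => hy'n ?_, ?_⟩
      · exact Submodule.mem_span_singleton.2 ⟨_, (sub_eq_zero.1 e).symm⟩
      · rw [hf.subL, hf.smulL, div_mul_cancel₀ _ hyx, sub_self]
    have hmem : w ∈ W ⊓ W.map t := ⟨hw, w, hw, by
      simp only [t, Matrix.mulVecLin_apply]
      rw [refl_mulVec hf, hwx, mul_zero, zero_smul, sub_zero]⟩
    have hne : Module.finrank F (W ⊓ W.map t : Submodule F Vec) ≠ 0 := fun e =>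
      hw0 ((Submodule.mem_bot F).1 (Submodule.finrank_eq_zero.1 e ▸ hmem))
    have h1 : Module.finrank F (W ⊓ W.map t : Submodule F Vec) ≠ 1 := no_line_stable H (stable_inf hW htW)
    have hle : Module.finrank F (W ⊓ W.map t : Submodule F Vec) ≤ 2 := hW2 ▸ Submodule.finrank_mono inf_le_left
    have he : W ⊓ W.map t = W :=
      Submodule.eq_of_le_of_finrank_le (inf_le_left : W ⊓ W.map t ≤ W) (by omega)
    have he2 : W = W.map t := Submodule.eq_of_le_of_finrank_le (inf_eq_left.1 he) (Submodule.finrank_map_le _ _)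
    have h3 : t y ∈ W := by rw [he2]; exact Submodule.mem_map_of_mem hy
    have h4 := W.sub_mem hy h3
    simp only [t, Matrix.mulVecLin_apply, refl_mulVec hf, sub_sub_cancel] at h4
    have h5 := W.smul_mem (2 / f x x * f y x)⁻¹ h4
    rw [inv_smul_smul₀ (mul_ne_zero (div_ne_zero hf.two hx) hyx)] at h5
    exact hxW h5
  obtain ⟨p0, hp0, -⟩ := hf.exists_perp (⊥ : Submodule F Vec) (![] : Fin 0 → Vec)
    (by rw [finrank_bot]; omega)
  obtain ⟨p, -, hpp⟩ := hf.exists_aniso (![] : Fin 0 → Vec) (z := p0) (fun i => i.elim0) (by simpa using hp0)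
  have key : ∀ U U' : Submodule F Vec, Module.finrank F U = 2 → p ∈ U → p ∉ U' →
      (∀ x, f x x ≠ 0 → x ∈ U ∨ x ∈ U') → False := by
    intro U U' hU hpU hpU' hgood
    obtain ⟨u, hu, hun⟩ : ∃ u ∈ U, u ∉ Submodule.span F {p} := by
      by_contra hc
      push Not at hc
      have := Submodule.finrank_mono (show U ≤ Submodule.span F {p} from hc)
      rw [finrank_span_singleton (fun e => hpp (by rw [e, hf.zeroL])), hU] at this
      omega
    set y := u - (f u p / f p p) • p with hy
    have hyp : f y p = 0 := by rw [hy, hf.subL, hf.smulL, div_mul_cancel₀ _ hpp, sub_self]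
    have hyU : y ∈ U := U.sub_mem hu (U.smul_mem _ hpU)
    have hy0 : y ≠ 0 := fun e => hun (Submodule.mem_span_singleton.2 ⟨_, (sub_eq_zero.1 e).symm⟩)
    have hval : ∀ z, f z p = 0 → z ∉ U → f z z = -f p p := by
      intro z hz hzU
      by_contra hne
      have h1 : f (p + z) (p + z) ≠ 0 := fun e => hne (by
        rw [hf.addL, hf.addR, hf.addR, hf.comm z p, hz] at e
        linear_combination e)
      have h2 : f (p - z) (p - z) ≠ 0 := fun e => hne (by
        rw [hf.subL, hf.subR, hf.subR, hf.comm z p, hz] at e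
        linear_combination e)
      have e1 : p + z ∈ U' := (hgood _ h1).resolve_left fun e => hzU (by simpa using U.sub_mem e hpU)
      have e2 : p - z ∈ U' := (hgood _ h2).resolve_left fun e => hzU (by simpa using U.sub_mem hpU e)
      have e3 := U'.smul_mem (2 : F)⁻¹ (U'.add_mem e1 e2)
      rw [show p + z + (p - z) = (2 : F) • p by module, inv_smul_smul₀ hf.two] at e3
      exact hpU' e3
    obtain ⟨z, hzU, hz⟩ := hf.exists_perp U ![p] (by omega)
    have hzp : f z p = 0 := hz 0
    have hzy : ∀ z, f z p = 0 → z ∉ U → f y y = 0 ∧ f z y = 0 := by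
      intro z hzp hzU
      have e0 := hval z hzp hzU
      have e1 := hval (z + y) (by rw [hf.addL, hzp, hyp, add_zero]) fun e => hzU (by simpa using U.sub_mem e hyU)
      have e2 := hval (z - y) (by rw [hf.subL, hzp, hyp, sub_zero]) fun e => hzU (by simpa using U.add_mem e hyU)
      simp only [hf.addL, hf.addR, hf.subL, hf.subR, hf.comm z y] at e1 e2
      refine ⟨mul_left_cancel₀ hf.two (by linear_combination e1 + e2 - 2 * e0),
        mul_left_cancel₀ (mul_ne_zero hf.two hf.two) (by linear_combination e1 - e2)⟩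
    have hyy := (hzy z hzp hzU).1
    refine hy0 (hf.eq_zero fun v => ?_)
    set v' := v - (f v p / f p p) • p with hv'
    have hv'p : f v' p = 0 := by rw [hv', hf.subL, hf.smulL, div_mul_cancel₀ _ hpp, sub_self]
    have e : f v y = f v' y := by rw [hv', hf.subL, hf.smulL, hf.comm y p, hyp, mul_zero, sub_zero]
    rw [e]
    by_cases hv'U : v' ∈ U
    · have h2 := hzy (z + v') (by rw [hf.addL, hzp, hv'p, add_zero]) fun e => hzU (by simpa using U.sub_mem e hv'U)
      rw [hf.addL, (hzy z hzp hzU).2, zero_add] at h2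
      exact h2.2
    · exact (hzy v' hv'p hv'U).2
  rcases good p hpp with h | h
  · exact key W (perp H W) hW2 h (fun e => hpp (e p h)) good
  · exact key (perp H W) W hW2' h (fun e => hpp (h p e)) fun x hx => (good x hx).symm

/-- There is no stable plane. -/
theorem no_plane {W : Submodule F Vec} (hW : Stable S W) (hW2 : Module.finrank F W = 2) : False := by
  have hf := H.sym
  have hm := H.hm
  have hperp := finrank_perp H hW2
  by_cases h3 : m = 3
  · exact no_line_stable H (stable_perp H hW) (by omega)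
  rcases em (m = 4 ∧ ∀ x, f x x ≠ 0 → ∀ A ∈ S, refl f x * A * refl f x ∈ S) with h | h
  · exact no_plane_four H hW hW2 h.1 h.2
  have hnp : m = 4 → ∀ v s : Fin m → F, v ≠ 0 → f v v = 0 → f s s = 0 → f s v = 0 → s ∈ Submodule.span F {v} :=
    fun h4 => (H.noplane h4).resolve_right fun e => h ⟨h4, e⟩
  by_cases hrad : W ⊓ perp H W = ⊥
  · have hnd : ∀ x ∈ W, (∀ y ∈ W, f x y = 0) → x = 0 := fun x hx h =>
      (Submodule.mem_bot F).1 (hrad ▸ (⟨hx, h⟩ : x ∈ W ⊓ perp H W))
    by_cases h5 : 5 ≤ m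
    · obtain ⟨w, hw, hw0⟩ := Submodule.exists_mem_ne_zero_of_ne_bot (p := W) fun e => by
        rw [e, finrank_bot] at hW2; omega
      obtain ⟨y, hy, hyn⟩ : ∃ y ∈ W, y ∉ Submodule.span F {w} := by
        by_contra hc
        push Not at hc
        have := Submodule.finrank_mono (show W ≤ Submodule.span F {w} from hc)
        rw [finrank_span_singleton hw0, hW2] at this
        omega
      obtain ⟨a, ha, haa, has⟩ := exists_iso_perp hf ![w, y] (by omega)
      have hplane : plane w y = W := Submodule.eq_of_le_of_finrank_le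
        (Submodule.span_le.2 (by rintro x (rfl | rfl) <;> assumption)) (by rw [hW2, finrank_plane hw0 hyn])
      refine no_iso_perp H hW hW2 hnd ha haa fun x hx => ?_
      rw [← hplane] at hx
      obtain ⟨c, d, rfl⟩ := mem_plane.1 hx
      rw [hf.addL, hf.smulL, hf.smulL, hf.comm a w, show f a w = 0 from has 0, hf.comm a y,
        show f a y = 0 from has 1]
      ring
    -- two anisotropic planes give a totally singular one
    have hm4 : m = 4 := by omega
    have hW2' : Module.finrank F (perp H W) = 2 := by omega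
    have hWperp : Stable S (perp H W) := stable_perp H hW
    have hnd' : ∀ x ∈ perp H W, (∀ y ∈ perp H W, f x y = 0) → x = 0 := fun x hx h => by
      have htop : W ⊔ perp H W = ⊤ := by
        refine Submodule.eq_top_of_finrank_eq ?_
        have := Submodule.finrank_sup_add_finrank_inf_eq W (perp H W)
        rw [hrad, finrank_bot] at this
        rw [Module.finrank_fin_fun]
        omega
      refine hf.eq_zero fun u => ?_
      obtain ⟨p, hp, q, hq, rfl⟩ := Submodule.mem_sup.1 (htop ▸ Submodule.mem_top : u ∈ W ⊔ perp H W)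
      rw [hf.addL, hf.comm x p, hx p hp, hf.comm x q, h q hq, add_zero]
    have hA : ∀ x ∈ W, x ≠ 0 → f x x ≠ 0 := fun x hx hx0 hxx =>
      no_iso_perp H hWperp hW2' hnd' hx0 hxx fun y hy => hy x hx
    have hA' : ∀ x ∈ perp H W, x ≠ 0 → f x x ≠ 0 := fun x hx hx0 hxx =>
      no_iso_perp H hW hW2 hnd hx0 hxx fun y hy => by rw [hf.comm, hx y hy]
    have orth : ∀ U : Submodule F Vec, Module.finrank F U = 2 → (∀ x ∈ U, x ≠ 0 → f x x ≠ 0) → ∀ u1 ∈ U, u1 ≠ 0 →
        ∃ u2 ∈ U, f u2 u1 = 0 ∧ u2 ≠ 0 ∧ ¬ IsSquare (-(f u1 u1 * f u2 u2)) := by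
      intro U hU hUa u1 hu1 hu10
      obtain ⟨y, hy, hyn⟩ : ∃ y ∈ U, y ∉ Submodule.span F {u1} := by
        by_contra hc
        push Not at hc
        have := Submodule.finrank_mono (show U ≤ Submodule.span F {u1} from hc)
        rw [finrank_span_singleton hu10, hU] at this
        omega
      have h11 := hUa u1 hu1 hu10
      set u2 := y - (f y u1 / f u1 u1) • u1 with hu2
      have h21 : f u2 u1 = 0 := by rw [hu2, hf.subL, hf.smulL, div_mul_cancel₀ _ h11, sub_self]
      have hu20 : u2 ≠ 0 := fun e => hyn (Submodule.mem_span_singleton.2 ⟨_, (sub_eq_zero.1 e).symm⟩)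
      have hu2U : u2 ∈ U := U.sub_mem hy (U.smul_mem _ hu1)
      refine ⟨u2, hu2U, h21, hu20, ?_⟩
      rintro ⟨s, hs⟩
      refine hUa (s • u1 + f u1 u1 • u2) (U.add_mem (U.smul_mem _ hu1) (U.smul_mem _ hu2U)) (fun e => h11 ?_) ?_
      · have e1 : f (s • u1 + f u1 u1 • u2) u2 = 0 := by rw [e, hf.zeroL]
        simp [hf.addL, hf.smulL, hf.comm u2 u1, h21, hUa u2 hu2U hu20] at e1
        exact e1
      · simp only [hf.addL, hf.addR, hf.smulL, hf.smulR, h21, hf.comm u2 u1]
        linear_combination -(f u1 u1) * hs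
    obtain ⟨w1, hw1, hw10⟩ := Submodule.exists_mem_ne_zero_of_ne_bot (p := W) fun e => by
      rw [e, finrank_bot] at hW2; omega
    obtain ⟨w2, hw2, hw21, hw20, hsq1⟩ := orth W hW2 hA w1 hw1 hw10
    obtain ⟨x1, hx1, hx10⟩ := Submodule.exists_mem_ne_zero_of_ne_bot (p := perp H W) fun e => by
      rw [e, finrank_bot] at hW2'; omega
    obtain ⟨x2, hx2, hx21, hx20, -⟩ := orth _ hW2' hA' x1 hx1 hx10
    obtain ⟨c, d, hcd⟩ := Cfsg.Agent.Lib.Subspaces.UnitaryForm.exists_quad_root (f w1 w1) (f x1 x1) (f x2 x2)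
      (hA' x1 hx1 hx10) (hA' x2 hx2 hx20)
    set u1 := c • x1 + d • x2 with hu1def
    have hu1 : u1 ∈ perp H W := Submodule.add_mem _ (Submodule.smul_mem _ c hx1) (Submodule.smul_mem _ d hx2)
    have hu11 : f u1 u1 = -f w1 w1 := by
      rw [hu1def]
      simp only [hf.addL, hf.addR, hf.smulL, hf.smulR, hx21, hf.comm x2 x1]
      linear_combination hcd
    have hu10 : u1 ≠ 0 := fun e => hA w1 hw1 hw10 (by
      rw [e, hf.zeroL, eq_comm, neg_eq_zero] at hu11; exact hu11)
    obtain ⟨u2, hu2, hu21, hu20, hsq2⟩ := orth _ hW2' hA' u1 hu1 hu10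
    obtain ⟨s, hs⟩ := nonsquare_mul hf.two hsq1 hsq2
    rw [hu11] at hs
    have h22 := hA' u2 hu2 hu20
    have hw11 := hA w1 hw1 hw10
    set t := s / (f w1 w1 * f u2 u2) with ht
    have key : t * t * f u2 u2 = -f w2 w2 := by
      rw [ht]; field_simp; linear_combination -hs
    have hpp : f (w1 + u1) (w1 + u1) = 0 := by
      rw [hf.addL w1 u1, hf.addR w1 w1 u1, hf.addR u1 w1 u1, hu11, hu1 w1 hw1, hf.comm u1 w1, hu1 w1 hw1]; ring
    have hqq : f (w2 + t • u2) (w2 + t • u2) = 0 := by
      rw [hf.expand, hf.comm u2 w2, hu2 w2 hw2]; linear_combination key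
    have hqp : f (w2 + t • u2) (w1 + u1) = 0 := by
      rw [hf.addL w2, hf.smulL, hf.addR w2 w1 u1, hf.addR u2 w1 u1, hw21, hu21, hu2 w1 hw1, hf.comm u1 w2,
        hu1 w2 hw2]; ring
    have hp0 : w1 + u1 ≠ 0 := fun e => hw11 (by
      have := congrArg (fun x => f x w1) e
      simpa [hf.addL, hu1 w1 hw1, hf.zeroL] using this)
    obtain ⟨r, hr⟩ := Submodule.mem_span_singleton.1 (hnp hm4 _ _ hp0 hpp hqq hqp)
    have := congrArg (fun x => f x w2) hr
    simp only [hf.smulL, hf.addL, hu1 w2 hw2, hu2 w2 hw2, hf.comm w2 w1, hw21] at this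
    simp at this
    exact hA w2 hw2 hw20 this.symm
  · -- the plane is totally singular
    have hle : W ≤ perp H W := by
      have h1 := no_line_stable H (stable_inf hW (stable_perp H hW))
      have h2 : Module.finrank F (W ⊓ perp H W : Submodule F Vec) ≠ 0 := fun e => hrad (Submodule.finrank_eq_zero.1 e)
      have h3 : Module.finrank F (W ⊓ perp H W : Submodule F Vec) ≤ 2 := hW2 ▸ Submodule.finrank_mono inf_le_left
      exact inf_eq_left.1 (Submodule.eq_of_le_of_finrank_le (inf_le_left : W ⊓ perp H W ≤ W) (by omega))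
    obtain ⟨w, hw, hw0⟩ := Submodule.exists_mem_ne_zero_of_ne_bot (p := W) fun e => by
      rw [e, finrank_bot] at hW2; omega
    obtain ⟨y, hy, hyn⟩ : ∃ y ∈ W, y ∉ Submodule.span F {w} := by
      by_contra hc
      push Not at hc
      have := Submodule.finrank_mono (show W ≤ Submodule.span F {w} from hc)
      rw [finrank_span_singleton hw0, hW2] at this
      omega
    have hww := hle hw w hw
    have hyy := hle hy y hy
    have hyw := hle hy w hw
    by_cases h5 : 5 ≤ m
    swap
    · exact hyn (hnp (by omega) w y hw0 hww hyy hyw)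
    obtain ⟨c, hcw, hcy, hcc⟩ := hf.exists_aniso_pair h5 w y
    have hyn' : y ∉ plane w c := fun e => by
      obtain ⟨α, β, hαβ⟩ := mem_plane.1 e
      have : f y c = 0 := by rw [hf.comm, hcy]
      rw [← hαβ, hf.addL, hf.smulL, hf.smulL, hf.comm c w, hcw] at this
      simp [hcc] at this
      exact hyn (Submodule.mem_span_singleton.2 ⟨α, by rw [← hαβ, this, zero_smul, add_zero]⟩)
    obtain ⟨b0, hb0, hb0y⟩ := hf.dual hyn'
    have h2 := hf.two
    set b := b0 + (-(f b0 b0 / 2)) • y with hb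
    have hbb : f b b = 0 := by rw [hb, hf.expand, hyy, hb0y]; field_simp; ring
    have hby : f b y = 1 := by rw [hb, hf.addL, hf.smulL, hyy, hb0y, mul_zero, add_zero]
    have hbw : f b w = 0 := by
      rw [hb, hf.addL, hf.smulL, hyw, hb0 w (left_mem_plane w c), mul_zero, add_zero]
    have hcb : f c b = 0 := by
      rw [hb, hf.addR, hf.smulR, hcy, hf.comm b0 c, hb0 c (right_mem_plane w c), mul_zero, add_zero]
    have h := plane_fixed H hW hW2 hbb hcb hw hw0 (by rw [hf.comm, hbw]) (by rw [hf.comm, hcw]) hy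
    have hz := hle h y hy
    rw [eN_mulVec hf, hf.comm c y, hcy, hf.comm b y, hby] at hz
    simp only [hf.subL, hf.smulL, hby, hcy] at hz
    refine hcc ?_
    field_simp at hz
    linear_combination -hz

/-- A stable subspace carried into itself by every Eichler transformation is trivial. -/
theorem top_of_fixed {W : Submodule F Vec} (hW : W ≠ ⊥)
    (h : ∀ a z, f a a = 0 → f z a = 0 → ∀ y ∈ W, eN f a z *ᵥ y ∈ W) : W = ⊤ := by
  have hf := H.sym
  have h2 := hf.two
  obtain ⟨y, hy, hy0⟩ := Submodule.exists_mem_ne_zero_of_ne_bot hW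
  obtain ⟨a, haa, hya⟩ := exists_iso_pair hf H.hm hy0
  have ha : a ≠ 0 := fun e => hya (by rw [e, hf.zeroR])
  have hboth : ∀ z, f z a = 0 → -(f z z * f y a) • a ∈ W ∧ (2 * f y z) • a - (2 * f y a) • z ∈ W := by
    intro z hza
    have hnz : f (-z) a = 0 := by rw [hf.negL, hza, neg_zero]
    have e1 := h a z haa hza y hy
    have e2 := h a (-z) haa hnz y hy
    refine ⟨?_, ?_⟩
    · convert W.add_mem e1 e2 using 1
      rw [eN_mulVec hf, eN_mulVec hf, hf.negL, hf.negR, hf.negR]
      match_scalars <;> field_simp <;> ring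
    · convert W.sub_mem e1 e2 using 1
      rw [eN_mulVec hf, eN_mulVec hf, hf.negL, hf.negR, hf.negR]
      match_scalars <;> field_simp <;> ring
  obtain ⟨z0, hz0, hz00⟩ := exists_aniso_perp hf H.hm ha haa
  have haW : a ∈ W := by
    have := W.smul_mem (-(f z0 z0 * f y a))⁻¹ (hboth z0 hz0).1
    rwa [inv_smul_smul₀ (neg_ne_zero.2 (mul_ne_zero hz00 hya))] at this
  refine eq_top_iff.2 fun x _ => ?_
  set z := x - (f x a / f y a) • y with hz
  have hza : f z a = 0 := by rw [hz, hf.subL, hf.smulL, div_mul_cancel₀ _ hya, sub_self]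
  have hzW : z ∈ W := by
    have := W.sub_mem (W.smul_mem (2 * f y z) haW) (hboth z hza).2
    rw [sub_sub_cancel] at this
    have h3 := W.smul_mem (2 * f y a)⁻¹ this
    rwa [inv_smul_smul₀ (mul_ne_zero h2 hya)] at h3
  have := W.add_mem hzW (W.smul_mem (f x a / f y a) hy)
  rwa [hz, sub_add_cancel] at this

theorem irreducible (W : Submodule F Vec) (hW : Stable S W) : W = ⊥ ∨ W = ⊤ := by
  induction h : Module.finrank F W using Nat.strong_induction_on generalizing W with
  | _ n ih =>
    subst h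
    by_cases hbot : W = ⊥
    · exact Or.inl hbot
    refine Or.inr ?_
    by_contra htop
    have hpos : Module.finrank F W ≠ 0 := fun e => hbot (Submodule.finrank_eq_zero.1 e)
    refine htop (top_of_fixed H hbot fun a z haa hza y hy => ?_)
    set t := (1 + eN f a z).mulVecLin
    have hW' := stable_inf hW (stable_map H hW haa hza)
    by_cases heq : W ⊓ W.map t = W
    · have he : W = W.map t := Submodule.eq_of_le_of_finrank_le (inf_eq_left.1 heq) (Submodule.finrank_map_le _ _)
      have : t y ∈ W := by rw [he]; exact Submodule.mem_map_of_mem hy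
      have h3 := W.sub_mem this hy
      simpa [t, add_mulVec] using h3
    exfalso
    rcases ih _ (Submodule.finrank_lt_finrank_of_lt (lt_of_le_of_ne inf_le_left heq)) _ hW' rfl with h0 | h0
    · let L : W →ₗ[F] F × F :=
        { toFun := fun x => (f (x : Vec) a, f (x : Vec) z)
          map_add' := fun p q => by simp [H.sym.addL]
          map_smul' := fun c p => by simp [H.sym.smulL] }
      have hinj : Function.Injective L := by
        rw [injective_iff_map_eq_zero]
        rintro ⟨x, hx⟩ e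
        have e1 : f x a = 0 := (Prod.ext_iff.1 e).1
        have e2 : f x z = 0 := (Prod.ext_iff.1 e).2
        have : x ∈ W ⊓ W.map t := ⟨hx, x, hx, by
          simp only [t, Matrix.mulVecLin_apply, add_mulVec, one_mulVec, eN_fix H.sym e1 e2, add_zero]⟩
        rw [h0, Submodule.mem_bot] at this
        exact Subtype.ext this
      have hd := LinearMap.finrank_le_finrank_of_injective hinj
      rw [Module.finrank_prod, Module.finrank_self] at hd
      rcases (show Module.finrank F W = 1 ∨ Module.finrank F W = 2 by omega) with h1 | h1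
      · exact no_line_stable H hW h1
      · exact no_plane H hW h1
    · exact htop (top_le_iff.1 (h0 ▸ inf_le_left))

/-- The algebra is everything. -/
theorem eq_top : S = ⊤ := by
  have hf := H.sym
  have hm := H.hm
  have h2 := hf.two
  refine Cfsg.Agent.Lib.TensorFormMax.InvariantAlgebra.eq_top_of_irreducible S (by omega)
    (fun W hW => irreducible H W hW) fun C hC => ?_
  have hkill : ∀ (D : Mat), (∀ A ∈ S, D * A = A * D) → ∀ (x : Vec) (μ : F), x ≠ 0 → D *ᵥ x = μ • x → D = μ • 1 := by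
    intro D hD x μ hx hDx
    rcases irreducible H (LinearMap.ker (D - μ • 1).mulVecLin) (fun A hA y hy => by
      rw [LinearMap.mem_ker, Matrix.mulVecLin_apply] at hy ⊢
      have e : (D - μ • 1) * A = A * (D - μ • 1) := by
        rw [sub_mul, mul_sub, hD A hA, Matrix.smul_mul, Matrix.mul_smul, one_mul, mul_one]
      rw [mulVec_mulVec, e, ← mulVec_mulVec, hy, mulVec_zero]) with h | h
    · refine absurd ((Submodule.mem_bot F).1 (h ▸ (LinearMap.mem_ker.2 ?_ : x ∈ LinearMap.ker (D - μ • 1).mulVecLin))) hx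
      rw [Matrix.mulVecLin_apply, sub_mulVec, smul_mulVec, one_mulVec, hDx, sub_self]
    · refine sub_eq_zero.1 (Matrix.mulVec_injective (funext fun y => ?_))
      have : y ∈ LinearMap.ker (D - μ • 1).mulVecLin := h ▸ Submodule.mem_top
      rw [LinearMap.mem_ker, Matrix.mulVecLin_apply] at this
      rw [this, zero_mulVec]
  -- the commutators with Eichler transformations
  have hcomm : ∀ {a z : Vec}, f a a = 0 → f z a = 0 → ∀ A ∈ S,
      ((1 + eN f a z) * C * (1 + eN f a (-z)) - C) * A = A * ((1 + eN f a z) * C * (1 + eN f a (-z)) - C) := by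
    intro a z ha hz A hA
    have hn : f (-z) a = 0 := by rw [hf.negL, hz, neg_zero]
    have e := hC _ (H.inv a (-z) ha hn A hA)
    rw [neg_neg] at e
    have h1 := (conj_mulVec H ha hz).2
    have e1 := congrArg (fun Z => (1 + eN f a z) * Z * (1 + eN f a (-z))) e
    have e2 : (1 + eN f a z) * C * (1 + eN f a (-z)) * A = A * ((1 + eN f a z) * C * (1 + eN f a (-z))) := by
      calc (1 + eN f a z) * C * (1 + eN f a (-z)) * A
          = (1 + eN f a z) * C * (1 + eN f a (-z)) * A * ((1 + eN f a z) * (1 + eN f a (-z))) := by rw [h1, mul_one]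
        _ = (1 + eN f a z) * (C * ((1 + eN f a (-z)) * A * (1 + eN f a z))) * (1 + eN f a (-z)) := by
          simp only [Matrix.mul_assoc]
        _ = (1 + eN f a z) * ((1 + eN f a (-z)) * A * (1 + eN f a z) * C) * (1 + eN f a (-z)) := e1
        _ = ((1 + eN f a z) * (1 + eN f a (-z))) * A * ((1 + eN f a z) * C * (1 + eN f a (-z))) := by
          simp only [Matrix.mul_assoc]
        _ = _ := by rw [h1, Matrix.one_mul]
    rw [sub_mul, mul_sub, e2, hC A hA]
  -- the displacement of a vector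
  have hD : ∀ (a z x : Vec), ((1 + eN f a z) * C * (1 + eN f a (-z)) - C) *ᵥ x =
      C *ᵥ (eN f a (-z) *ᵥ x) + eN f a z *ᵥ (C *ᵥ x + C *ᵥ (eN f a (-z) *ᵥ x)) := fun a z x => by
    rw [sub_mulVec, ← mulVec_mulVec, ← mulVec_mulVec, add_mulVec, one_mulVec, add_mulVec, one_mulVec, mulVec_add]
    abel
  obtain ⟨a, ha, haa⟩ := hf.exists_iso hm
  obtain ⟨z0, hz0, hz00⟩ := exists_aniso_perp hf hm ha haa
  obtain ⟨b, hbb, hba⟩ := hf.exists_hyperbolic ha haa
  have hfix : ∀ {z : Vec}, f z a = 0 → eN f a z *ᵥ a = 0 := fun {z} hz => eN_self hf haa hz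
  have hsmul : ∀ (c : F) {z : Vec}, f z a = 0 → f (c • z) a = 0 := fun c {z} hz => by
    rw [hf.smulL, hz, mul_zero]
  -- the image of `a` is orthogonal to `a`
  have hsum : ∀ {z : Vec}, f z a = 0 →
      ((1 + eN f a z) * C * (1 + eN f a (-z)) - C) + ((1 + eN f a (-z)) * C * (1 + eN f a z) - C) =
        (-(f z z * f (C *ᵥ a) a)) • (1 : Mat) := fun {z} hz => by
    have hn : f (-z) a = 0 := by rw [hf.negL, hz, neg_zero]
    refine hkill _ (fun A hA => ?_) a _ ha ?_
    · have e2 := hcomm haa hn A hA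
      rw [neg_neg] at e2
      rw [Matrix.add_mul _ _ A, Matrix.mul_add A, hcomm haa hz A hA, e2]
    · have e1 := hD a z a
      have e2 := hD a (-z) a
      rw [neg_neg] at e2
      rw [add_mulVec, e1, e2, hfix hz, hfix hn, mulVec_zero, zero_add, zero_add, add_zero, eN_mulVec hf, eN_mulVec hf,
        hf.negL, hf.negR, hf.negR]
      match_scalars <;> field_simp <;> ring
  have hαzero : f (C *ᵥ a) a = 0 := by
    rcases H.big with h4 | ⟨c0, hc0, hc01⟩
    · obtain ⟨x, hxn, hx⟩ := hf.exists_perp (Submodule.span F {a}) ![a, z0]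
        (by rw [finrank_span_singleton ha]; omega)
      have hxa : f x a = 0 := hx 0
      have hxz : f x z0 = 0 := hx 1
      have e := congrArg (fun Z : Mat => Z *ᵥ x) (hsum hz0)
      have hxnz : f x (-z0) = 0 := by rw [hf.negR, hxz, neg_zero]
      simp only [add_mulVec, smul_mulVec, one_mulVec] at e
      have e1 := hD a z0 x
      have e2 := hD a (-z0) x
      rw [neg_neg] at e2
      rw [e1, e2, eN_fix hf hxa hxnz, eN_fix hf hxa hxz, mulVec_zero, zero_add, zero_add, add_zero, eN_mulVec hf,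
        eN_mulVec hf, hf.negL, hf.negR, hf.negR] at e
      by_contra hne
      refine hxn (Submodule.mem_span_singleton.2 ⟨f (C *ᵥ x) a / f (C *ᵥ a) a, ?_⟩)
      apply smul_right_injective Vec (neg_ne_zero.2 (mul_ne_zero hz00 hne))
      simp only
      rw [← e, smul_smul]
      match_scalars <;> field_simp <;> ring
    · set b' := b - (f b z0 / f z0 z0) • z0 with hb'
      have hb'a : f b' a = 1 := by rw [hb', hf.subL, hf.smulL, hba, hz0, mul_zero, sub_zero]
      have hb'z : f b' z0 = 0 := by rw [hb', hf.subL, hf.smulL, div_mul_cancel₀ _ hz00, sub_self]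
      have hgen : ∀ c : F, c ≠ 0 → -(f z0 z0 / 2) • (C *ᵥ a) + f (C *ᵥ z0) z0 • a - f (C *ᵥ z0) a • z0
          - (f z0 z0 / 2 * f (C *ᵥ b') a) • a + (c * c * (f z0 z0 / 2 * (f z0 z0 / 2)) * f (C *ᵥ a) a) • a =
            -(f z0 z0 / 2 * f (C *ᵥ a) a) • b' := by
        intro c hc
        have e := congrArg (fun Z : Mat => Z *ᵥ b') (hsum (hsmul c hz0))
        simp only [add_mulVec, smul_mulVec, one_mulVec] at e
        have e1 := hD a (c • z0) b'
        have e2 := hD a (-(c • z0)) b'
        rw [neg_neg] at e2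
        rw [e1, e2] at e
        simp only [eN_mulVec hf, hf.negL, hf.negR, hf.smulL, hf.smulR, hf.addL, hf.subL, hb'a, hb'z,
          mulVec_sub, mulVec_smul, mulVec_neg] at e
        apply smul_right_injective Vec (mul_ne_zero h2 (mul_ne_zero hc hc))
        simp only
        linear_combination (norm := skip) e
        match_scalars <;> field_simp <;> ring
      have e1 := hgen 1 one_ne_zero
      have e2 := hgen c0 hc0
      have : ((c0 * c0 - 1) * (f z0 z0 / 2 * (f z0 z0 / 2)) * f (C *ᵥ a) a) • a = 0 := by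
        linear_combination (norm := module) e2 - e1
      exact (mul_eq_zero.1 ((smul_eq_zero.1 this).resolve_right ha)).resolve_left
        (mul_ne_zero (sub_ne_zero.2 hc01) (mul_ne_zero (div_ne_zero hz00 h2) (div_ne_zero hz00 h2)))
  -- and to every vector orthogonal to `a`
  have hzero : ∀ z, f z a = 0 → f z z ≠ 0 → f (C *ᵥ a) z = 0 := by
    intro z hza hzz
    set lam := f (C *ᵥ a) z with hlam
    have hscal : ∀ c : F, (1 + eN f a (c • z)) * C * (1 + eN f a (-(c • z))) - C = (c * lam) • (1 : Mat) := fun c =>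
      hkill _ (fun A hA => hcomm haa (hsmul c hza) A hA) a _ ha (by
        rw [hD, eN_self hf haa (by rw [hf.negL, hsmul c hza, neg_zero]), mulVec_zero, zero_add, add_zero, eN_mulVec hf,
          hαzero, hf.smulR]
        simp [hlam])
    rcases H.big with h4 | ⟨c0, hc0, hc01⟩
    · obtain ⟨x, hxn, hx⟩ := hf.exists_perp (Submodule.span F {a}) ![a, z]
        (by rw [finrank_span_singleton ha]; omega)
      have hxa : f x a = 0 := hx 0
      have hxz : f x z = 0 := hx 1
      have e := congrArg (fun Z : Mat => Z *ᵥ x) (hscal 1)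
      simp only [smul_mulVec, one_mulVec, one_mul, one_smul] at e
      rw [hD, eN_fix hf hxa (by rw [hf.negR, hxz, neg_zero]), mulVec_zero, zero_add, add_zero, eN_mulVec hf] at e
      have e' := congrArg (fun y => f y z) e
      simp only [hf.subL, hf.smulL, hf.comm z a, hza, hxz] at e'
      simp [hzz] at e'
      rw [e', zero_smul, sub_zero, mul_zero, zero_smul, sub_zero] at e
      by_contra hne
      exact hxn (Submodule.mem_span_singleton.2 ⟨lam⁻¹ * f (C *ᵥ x) z, by rw [← smul_smul, e, inv_smul_smul₀ hne]⟩)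
    · -- three dimensions: the cubic term
      set b' := b - (f b z / f z z) • z with hb'
      have hb'a : f b' a = 1 := by rw [hb', hf.subL, hf.smulL, hba, hza, mul_zero, sub_zero]
      have hb'z : f b' z = 0 := by rw [hb', hf.subL, hf.smulL, div_mul_cancel₀ _ hzz, sub_self]
      have hfwa : f (C *ᵥ z) a = -2 * lam := by
        have e := congrArg (fun Z : Mat => f (Z *ᵥ z) z) (hscal 1)
        simp only [smul_mulVec, one_mulVec, one_mul, one_smul, hf.smulL] at e
        rw [hD] at e
        simp only [eN_mulVec hf, hf.negL, hf.negR, hf.addL, hf.subL, hf.smulL, hf.comm z a, hza, mulVec_sub,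
          mulVec_smul, mulVec_neg, ← hlam] at e
        apply mul_left_cancel₀ (mul_ne_zero (mul_ne_zero h2 h2) hzz)
        rw [hαzero] at e
        field_simp at e
        linear_combination -e
      have hgen : ∀ c : F, c ≠ 0 → C *ᵥ z + f (C *ᵥ b') z • a - f (C *ᵥ b') a • z
          + (c * c * (f z z / 2) * lam) • a = lam • b' := by
        intro c hc
        have e1 := congrArg (fun Z : Mat => Z *ᵥ b') (hscal c)
        have e2 := congrArg (fun Z : Mat => Z *ᵥ b') (hscal (-c))
        simp only [smul_mulVec, one_mulVec] at e1 e2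
        rw [hD] at e1 e2
        simp only [eN_mulVec hf, hf.negL, hf.negR, hf.smulL, hf.smulR, hf.addL, hf.subL, hb'a, hb'z,
          mulVec_sub, mulVec_smul, mulVec_neg, hαzero, hfwa, ← hlam] at e1 e2
        apply smul_right_injective Vec (mul_ne_zero h2 hc)
        simp only
        linear_combination (norm := skip) e1 - e2
        match_scalars <;> field_simp <;> ring
      have e1 := hgen 1 one_ne_zero
      have e2 := hgen c0 hc0
      have : ((c0 * c0 - 1) * (f z z / 2) * lam) • a = 0 := by linear_combination (norm := module) e2 - e1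
      exact (mul_eq_zero.1 ((smul_eq_zero.1 this).resolve_right ha)).resolve_left
        (mul_ne_zero (sub_ne_zero.2 hc01) (div_ne_zero hzz h2))
  obtain ⟨μ, hμ⟩ : ∃ μ : F, C *ᵥ a = μ • a := by
    by_contra hc
    push Not at hc
    obtain ⟨t, ht, htC⟩ := hf.dual (T := Submodule.span F {a}) (z := C *ᵥ a) fun e => by
      obtain ⟨μ, hμ⟩ := Submodule.mem_span_singleton.1 e
      exact hc μ hμ.symm
    have hta := ht a (Submodule.mem_span_singleton_self a)
    have hall : ∀ z, f z a = 0 → f (C *ᵥ a) z = 0 := fun z hza => by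
      by_cases hzz : f z z = 0
      swap
      · exact hzero z hza hzz
      by_cases hne : f (z + z0) (z + z0) = 0
      · have h1 : f (z - z0) (z - z0) ≠ 0 := fun e => hz00 (by
          have : (2 : F) * f z0 z0 = 0 := by
            simp only [hf.addL, hf.addR, hf.subL, hf.subR] at hne e
            linear_combination hne + e - 2 * hzz
          exact (mul_eq_zero.1 this).resolve_left h2)
        have := hzero _ (by rw [hf.subL, hza, hz0, sub_zero]) h1
        rwa [hf.subR, hzero z0 hz0 hz00, sub_zero] at this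
      · have := hzero _ (by rw [hf.addL, hza, hz0, add_zero]) hne
        rwa [hf.addR, hzero z0 hz0 hz00, add_zero] at this
    rw [hf.comm, hall t hta] at htC
    exact zero_ne_one htC
  exact ⟨μ, hkill C hC a μ ha hμ⟩

end Cfsg.Agent.Lib.TensorOrthMax.InvariantOrth
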