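import Cfsg.Agent.Lib.TensorOrthMax.Full
import Cfsg.Agent.Lib.Forms.TensorFrame
import Cfsg.Agent.Lib.Subspaces.OmegaGL

/-!
The stabiliser of a tensor product with an orthogonal larger factor is maximal in the group of the big form.
-/

set_option autoImplicit false

namespace Cfsg.Agent.Lib.TensorOrthMax.Main

open Matrix Kronecker
open Cfsg.Agent.Lib.Subspaces.Transvection Cfsg.Agent.Lib.Subspaces.FormVec
  Cfsg.Agent.Lib.TensorMax.Block Cfsg.Agent.Lib.TensorMax.Lemmas Cfsg.Agent.Lib.TensorFormMax.Basic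
  Cfsg.Agent.Lib.Forms.TensorFrame
  Cfsg.Agent.Lib.TensorOrthMax.Side Cfsg.Agent.Lib.TensorOrthMax.Setup
open Cfsg.Agent.Lib.TensorOrthMax.Radical (AllHas)

variable {F : Type*} [Field F]

/-- An Eichler element of the big form is no tensor product. -/
theorem phi_not_kron [Finite F] {m k : ℕ} {ε : F} {f₁ : (Fin m → F) → (Fin m → F) → F}
    {f₂ : (Fin k → F) → (Fin k → F) → F} {B : (Fin m × Fin k → F) → (Fin m × Fin k → F) → F}
    {M : Subgroup (GL (Fin m × Fin k) F)} (D : Data ε f₁ f₂ B M) :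
    ∃ (p w : Fin m × Fin k → F) (g : GL (Fin m × Fin k) F), B p p = 0 ∧ B w p = 0 ∧
      (∀ z, (g : Matrix (Fin m × Fin k) (Fin m × Fin k) F) *ᵥ z = Full.phi ε B p w z) ∧
      g ∉ Cfsg.Geo.kroneckerSubgroup m k F := by
  have hf := D.sym
  have hm := D.hm
  have hk := D.hk
  obtain ⟨v, hv, hvv⟩ := hf.exists_iso (by omega)
  obtain ⟨y, -, hy⟩ := hf.exists_hyperbolic hv hvv
  obtain ⟨s, hsv, hsy, hss⟩ := hf.exists_aniso_pair hk v y
  have ha : (Pi.single ⟨0, by omega⟩ 1 : Fin m → F) ≠ 0 := by simp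
  set a : Fin m → F := Pi.single ⟨0, by omega⟩ 1
  obtain ⟨c, hc⟩ := D.h1.exists_one ha
  have hc0 : c ≠ 0 := fun e => by rw [e, form_zero_left D.h1.lin] at hc; exact zero_ne_one hc
  obtain ⟨b, hb, -⟩ := exists_common_zero_not_mem (Submodule.span F {c}) (![] : Fin 0 → Fin m → F)
    (by rw [finrank_span_singleton hc0, Fintype.card_fin]; omega)
  have hp : B (tens a v) (tens a v) = 0 := by rw [D.B_tens, hvv, zero_mul]
  have hw : B (tens b s) (tens a v) = 0 := by rw [D.B_tens, hsv, zero_mul]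
  obtain ⟨g, hg⟩ := Full.exists_phi D hp hw
  refine ⟨_, _, g, hp, hw, hg, ?_⟩
  rintro ⟨x, x', hxx⟩
  have himg := hg (tens c y)
  rw [hxx, kron_mulVec_tens, Full.phi, D.B_tens c a y v, D.B_tens c b y s, hy, hc, hf.comm s y, hsy, one_mul,
    zero_mul, mul_zero, zero_smul, one_smul, sub_zero, mul_one] at himg
  set u := (x : Matrix (Fin m) (Fin m) F) *ᵥ c
  set u' := (x' : Matrix (Fin k) (Fin k) F) *ᵥ y
  have h1 := congrArg (ctr (formVec f₂ v)) himg
  have h2 := congrArg (ctr (formVec f₂ s)) himg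
  simp only [ctr_add, ctr_sub, ctr_smul, D.ctr_form_tens, hy, hsv, hvv, hf.comm s y, hsy, hf.comm s v, one_smul,
    zero_smul, smul_zero, add_zero, sub_zero, zero_add] at h1 h2
  have hu : f₂ u' v ≠ 0 := fun e => hc0 (by rw [← h1, e, zero_smul])
  refine hb (Submodule.mem_span_singleton.2 ⟨(f₂ s s)⁻¹ * f₂ u' s * (f₂ u' v)⁻¹, ?_⟩)
  rw [← h1, smul_smul, mul_assoc, inv_mul_cancel₀ hu, mul_one, ← smul_smul, h2, inv_smul_smul₀ hss]

variable {ι : Type} [Fintype ι] [DecidableEq ι] [Fintype F]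

/-- The criterion. -/
theorem maximal_of {ε : F} (hε : ε = 1 ∨ ε = -1) (h2 : (2 : F) ≠ 0) (f : (ι → F) → (ι → F) → F)
    (hb : Cfsg.Geo.IsBilinearForm f) (hswap : ∀ x y, f y x = ε * f x y) (K : Subgroup (GL ι F))
    (hKiso : ∀ g ∈ K, ∀ x y, f ((g : Matrix ι ι F) *ᵥ x) ((g : Matrix ι ι F) *ᵥ y) = f x y)
    (hsq : ∀ g : GL ι F, (∀ x y, f ((g : Matrix ι ι F) *ᵥ x) ((g : Matrix ι ι F) *ᵥ y) = f x y) → g * g ∈ K)
    (hin : ∀ (g : GL ι F) (p w : ι → F), f p p = 0 → f w p = 0 → (∀ x, (g : Matrix ι ι F) *ᵥ x =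
      x + f x p • w - (ε * f x w) • p - (f w w / 2 * f x p) • p) → g ∈ K)
    (hgen : ∀ M : Subgroup (GL ι F), (∀ p, p ≠ 0 → f p p = 0 →
        (∀ w, f w p = 0 → ∃ g ∈ M, ∀ x, (g : Matrix ι ι F) *ᵥ x =
          x + f x p • w - (ε * f x w) • p - (f w w / 2 * f x p) • p) ∧
        ∀ γ, (ε + 1) * γ = 0 → ∃ g ∈ M, ∀ x, (g : Matrix ι ι F) *ᵥ x = x + (γ * f x p) • p) → K ≤ M)
    (n₁ n₂ : ℕ) (hm : 2 ≤ n₁) (hk : 5 ≤ n₂) (hmk : n₁ ≤ n₂) (hne : n₁ < n₂ ∨ ε = -1)
    (e : ι ≃ Fin n₁ × Fin n₂) (P : GL ι F) (f₁ : (Fin n₁ → F) → (Fin n₁ → F) → F)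
    (f₂ : (Fin n₂ → F) → (Fin n₂ → F) → F) (h1 : SForm (RingHom.id F) ε f₁) (hf₂ : Cfsg.Geo.IsSymmetricForm f₂)
    (hall : ∀ (B : (Fin n₁ × Fin n₂ → F) → (Fin n₁ × Fin n₂ → F) → F)
      (M : Subgroup (GL (Fin n₁ × Fin n₂) F)), Data ε f₁ f₂ B M → ¬ NoRadical f₂ M → ∀ A, AllHas f₂ M A)
    (hT : Cfsg.Geo.IsTensorFormStructure id f f₁ f₂ e P) :
    Cfsg.Geo.IsMaximalIn K (Cfsg.Geo.tensorProductSubgroup n₁ n₂ e P ⊓ K) := by
  classical
  have hl2 := isLinearLeft_of_bilinear hf₂.bilinear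
  obtain ⟨c, hc, hBp⟩ := form_pure (f := f) (σ := id) (fun _ _ => rfl)
    (eq_formOfGram h1.lin h1.add_right h1.smul_right)
    (eq_formOfGram hl2 hf₂.bilinear.add_right hf₂.bilinear.smul_right) hT
  set φ : GL (Fin n₁ × Fin n₂) F ≃* GL ι F :=
    (Cfsg.Geo.glReindex (F := F) e.symm).trans (MulAut.conj P) with hφ
  -- coordinates
  let T : (Fin n₁ × Fin n₂ → F) →ₗ[F] (ι → F) :=
    (Matrix.mulVecLin (P : Matrix ι ι F)).comp (LinearMap.funLeft F F e)
  have hTapp : ∀ z, T z = (P : Matrix ι ι F) *ᵥ (z ∘ e) := fun z => rfl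
  have hTinj : Function.Injective T := fun a b h => by
    have := gl_mulVec_injective P (show (P : Matrix ι ι F) *ᵥ (a ∘ e) = _ *ᵥ (b ∘ e) from h)
    funext p
    simpa using congrFun this (e.symm p)
  have hTsurj : Function.Surjective T := fun x =>
    ⟨(((P⁻¹ : GL ι F) : Matrix ι ι F) *ᵥ x) ∘ e.symm, by
      rw [hTapp]
      conv_rhs => rw [← gl_mulVec_inv P x]
      congr 1
      funext i; simp⟩
  have hφT : ∀ g z, (φ g : Matrix ι ι F) *ᵥ T z =
      T ((g : Matrix (Fin n₁ × Fin n₂) (Fin n₁ × Fin n₂) F) *ᵥ z) := by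
    intro g z
    rw [hTapp, hTapp]
    show ((P * Cfsg.Geo.glReindex e.symm g * P⁻¹ : GL ι F) : Matrix ι ι F) *ᵥ _ = _
    rw [gl_mul_mulVec, gl_mul_mulVec, gl_inv_mulVec]
    congr 1
    show (Matrix.reindexAlgEquiv F F e.symm) (g : Matrix (Fin n₁ × Fin n₂) (Fin n₁ × Fin n₂) F) *ᵥ _ = _
    rw [Matrix.reindexAlgEquiv_apply, Matrix.reindex_apply, Equiv.symm_symm, Matrix.submatrix_mulVec_equiv]
    congr 1
    congr 1
    funext p; simp
  set B : (Fin n₁ × Fin n₂ → F) → (Fin n₁ × Fin n₂ → F) → F := fun x y => c⁻¹ * f (T x) (T y) with hB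
  have hc' : c⁻¹ ≠ 0 := inv_ne_zero hc
  have hlin : IsLinearLeft B :=
    ⟨fun x y v => by simp only [hB, map_add, hb.add_left]; ring,
      fun a x v => by simp only [hB, map_smul, hb.smul_left]; ring⟩
  have haddR : ∀ x y z, B x (y + z) = B x y + B x z := fun x y z => by
    simp only [hB, map_add, hb.add_right]; ring
  have hB0 : ∀ u w u' w', B (tens u w) (tens u' w') = f₁ u u' * f₂ w w' := by
    intro u w u' w'
    show c⁻¹ * f (pure e P u w) (pure e P u' w') = _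
    rw [hBp, inv_mul_cancel_left₀ hc]
  have hBz : ∀ z u w, B z (tens u w) = f₁ (ctr (formVec f₂ w) z) u := by
    intro z u w
    let L : (Fin n₁ × Fin n₂ → F) →+ F := AddMonoidHom.mk' (fun x => B x (tens u w))
      fun x y => hlin.add_left x y _
    let R : (Fin n₁ → F) →+ F := AddMonoidHom.mk' (fun x => f₁ x u) fun x y => h1.lin.add_left x y u
    have hctr : ctr (formVec f₂ w) z = ∑ i, f₂ (slice z i) w • (Pi.single i 1 : Fin n₁ → F) := by
      funext i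
      simp [ctr_eq_dot, formVec_dot hl2, Pi.single_apply, Finset.sum_apply]
    conv_lhs => rw [← sum_tens_slice z]
    show L _ = R _
    rw [hctr, map_sum, map_sum]
    refine Finset.sum_congr rfl fun i _ => ?_
    show B _ _ = f₁ _ u
    rw [hB0, h1.lin.smul_left, mul_comm]
  have hsym : Sym f₂ :=
    ⟨{ invol := fun _ => rfl, lin := hl2
       swap := fun x y => by rw [RingHom.id_apply, one_mul]; exact (hf₂.symm x y).symm
       nondeg := fun v hv => (hf₂.nondegenerate v hv).1 }, h2⟩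
  have hisoB : ∀ (g : GL (Fin n₁ × Fin n₂) F) x y, B ((g : Matrix (Fin n₁ × Fin n₂) _ F) *ᵥ x)
      ((g : Matrix (Fin n₁ × Fin n₂) _ F) *ᵥ y) =
      c⁻¹ * f ((φ g : Matrix ι ι F) *ᵥ T x) ((φ g : Matrix ι ι F) *ᵥ T y) := fun g x y => by
    rw [hφT, hφT]
  have hback : ∀ g : GL (Fin n₁ × Fin n₂) F,
      (∀ x y, B ((g : Matrix (Fin n₁ × Fin n₂) _ F) *ᵥ x) ((g : Matrix (Fin n₁ × Fin n₂) _ F) *ᵥ y) = B x y) →
      ∀ x y, f ((φ g : Matrix ι ι F) *ᵥ x) ((φ g : Matrix ι ι F) *ᵥ y) = f x y := by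
    intro g hg x y
    obtain ⟨x, rfl⟩ := hTsurj x
    obtain ⟨y, rfl⟩ := hTsurj y
    exact mul_left_cancel₀ hc' ((hisoB g x y).symm.trans (hg x y))
  have hmem : ∀ x, φ x ∈ Cfsg.Geo.tensorProductSubgroup n₁ n₂ e P ↔
      x ∈ Cfsg.Geo.kroneckerSubgroup n₁ n₂ F := by
    intro x
    constructor
    · rintro ⟨y, ⟨z, hz, rfl⟩, hy⟩
      have : φ z = φ x := hy
      rwa [← φ.injective this]
    · exact fun hx => ⟨_, ⟨x, hx, rfl⟩, rfl⟩
  have hdata : ∀ M : Subgroup (GL ι F), M ≤ K →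
      Cfsg.Geo.tensorProductSubgroup n₁ n₂ e P ⊓ K ≤ M → Data ε f₁ f₂ B (M.comap φ.toMonoidHom) := by
    intro M hMle hM
    exact
      { eps := hε, h1 := h1, sym := hsym, lin := hlin, addR := haddR
        Bswap := fun x y => by simp only [hB]; rw [hswap (T x) (T y)]; ring
        hB := hBz
        iso := fun g hg x y => by rw [hisoB, hKiso _ (hMle (show φ g ∈ M from hg))]
        stab := fun g hg hi => hM ⟨(hmem _).2 (mul_mem hg hg), by rw [map_mul]; exact hsq _ (hback g hi)⟩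
        hm := hm, hk := hk, hmk := hmk }
  -- the Eichler maps in the coordinates
  have hphi : ∀ p w z, T (Full.phi ε B p w z) = T z + f (T z) (T p) • T (c⁻¹ • w)
      - (ε * f (T z) (T (c⁻¹ • w))) • T p - (f (T (c⁻¹ • w)) (T (c⁻¹ • w)) / 2 * f (T z) (T p)) • T p := by
    intro p w z
    simp only [Full.phi, hB, map_sub, map_add, map_smul, hb.smul_left, hb.smul_right]
    match_scalars <;> ring
  refine ⟨lt_of_le_of_ne inf_le_right fun heq => ?_, fun M hM hMle => ?_⟩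
  · obtain ⟨p, w, g, hp, hw, hg, hgk⟩ := phi_not_kron (hdata K le_rfl inf_le_right)
    refine hgk ((hmem g).1 ?_)
    have hgK : φ g ∈ K := by
      refine hin (φ g) (T p) (T (c⁻¹ • w)) ((mul_eq_zero.1 hp).resolve_left hc') ?_ fun x => ?_
      · rw [map_smul, hb.smul_left]
        exact hw
      · obtain ⟨x, rfl⟩ := hTsurj x
        rw [hφT, hg, hphi]
    rw [← heq] at hgK
    exact hgK.1
  · have D := hdata M hMle hM
    rcases Full.dichotomy D hne (hall B _ D) with h | h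
    · refine Or.inl (le_antisymm (fun x hx => ⟨?_, hMle hx⟩) hM)
      have := (hmem _).2 (h (show φ.symm x ∈ M.comap φ.toMonoidHom by
        show φ (φ.symm x) ∈ M; rwa [φ.apply_symm_apply]))
      rwa [φ.apply_symm_apply] at this
    · refine Or.inr (le_antisymm hMle (hgen M fun p hp hpp => ?_))
      obtain ⟨p, rfl⟩ := hTsurj p
      have hFl := h p (fun e0 => hp (by rw [e0, map_zero])) (by simp only [hB, hpp, mul_zero])
      refine ⟨fun w hw => ?_, fun γ hγ => ?_⟩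
      · obtain ⟨w, rfl⟩ := hTsurj w
        obtain ⟨g, hg, hgz⟩ := hFl.2.2 (c • w) (by
          simp only [hB, map_smul, hb.smul_left, hw, mul_zero])
        refine ⟨φ g, hg, fun x => ?_⟩
        obtain ⟨x, rfl⟩ := hTsurj x
        rw [hφT, hgz, hphi, smul_smul, inv_mul_cancel₀ hc, one_smul]
      · obtain ⟨g, hg, hgz⟩ := hFl.2.1 (c * γ) (by rw [mul_left_comm, hγ, mul_zero])
        refine ⟨φ g, hg, fun x => ?_⟩
        obtain ⟨x, rfl⟩ := hTsurj x
        rw [hφT, hgz, Full.tra, map_add, map_smul]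
        congr 2
        show c * γ * (c⁻¹ * _) = _
        field_simp

/-- A square of an isometry lies in the commutator subgroup. -/
theorem sq_mem_omega {Q : (ι → F) → F} (hQ : Cfsg.Geo.IsNondegenerateQuadraticForm Q) (h2 : (2 : F) ≠ 0)
    {g : GL ι F} (hg : g ∈ Cfsg.isometryGroup F Q) : g * g ∈ Cfsg.Geo.omegaGL Q := by
  set q := Cfsg.Agent.Lib.Subspaces.OmegaGL.qf hQ
  have hcl := Cfsg.Agent.Lib.Forms.closure_ireflSet (Q := q)
    (Cfsg.Agent.Lib.Subspaces.OmegaGL.qf_nondeg hQ) (Or.inl (Cfsg.Agent.Lib.Forms.exists_ne01 h2))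
  have key : ∀ x : Cfsg.isometryGroup F (⇑q), Abelianization.of (x * x) = 1 := by
    intro x
    have hx : x ∈ Subgroup.closure (Cfsg.Agent.Lib.Forms.ireflSet q) := by rw [hcl]; trivial
    induction hx using Subgroup.closure_induction with
    | mem r hr =>
      obtain ⟨v, -, rfl⟩ := hr
      rw [Cfsg.Agent.Lib.Forms.irefl_mul_self, map_one]
    | one => rw [mul_one, map_one]
    | mul a b _ _ ha hb => rw [map_mul, map_mul, mul_mul_mul_comm, ← map_mul, ← map_mul, ha, hb, mul_one]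
    | inv a _ ha => rw [← _root_.mul_inv_rev, map_inv, ha, inv_one]
  have h := key ⟨g, hg⟩
  refine ⟨(⟨g, hg⟩ : Cfsg.isometryGroup F Q) * ⟨g, hg⟩, ?_, rfl⟩
  show _ ∈ commutator (Cfsg.isometryGroup F Q)
  rw [← Abelianization.ker_of]
  exact MonoidHom.mem_ker.2 h

end Cfsg.Agent.Lib.TensorOrthMax.Main
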