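import Cfsg.Agent.Lib.TensorOrthMax.Radical
import Cfsg.Agent.Lib.TensorOrthMax.InvariantOrth
import Cfsg.Agent.Lib.TensorFormMax.SympSide
import Cfsg.Agent.Lib.Subspaces.SympGen

/-!
An overgroup which is not inside the tensor product stabiliser contains every Eichler element and every
transvection of the big form.
-/

set_option autoImplicit false

namespace Cfsg.Agent.Lib.TensorOrthMax.Full

open Matrix Kronecker
open Cfsg.Agent.Lib.Subspaces.Transvection Cfsg.Agent.Lib.Subspaces.FormVec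
  Cfsg.Agent.Lib.TensorMax.Block Cfsg.Agent.Lib.TensorMax.Lemmas Cfsg.Agent.Lib.TensorFormMax.Basic
  Cfsg.Agent.Lib.TensorOrthMax.Side Cfsg.Agent.Lib.TensorOrthMax.Setup
open Cfsg.Agent.Lib.TensorFormMax.Radical (Acts Has AdjPair)
open Cfsg.Agent.Lib.TensorOrthMax.Radical (AllHas)

variable {F : Type*} [Field F] {m k : ℕ}

local notation "V1" => Fin m → F
local notation "V2" => Fin k → F
local notation "Vec" => Fin m × Fin k → F
local notation "Big" => Matrix (Fin m × Fin k) (Fin m × Fin k) F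
local notation "A1" => Matrix (Fin m) (Fin m) F
local notation "A2" => Matrix (Fin k) (Fin k) F
local notation "G" => GL (Fin m × Fin k) F

/-- The Eichler map at `p` and `w`. -/
def phi (ε : F) (B : (Fin m × Fin k → F) → (Fin m × Fin k → F) → F) (p w z : Fin m × Fin k → F) :
    Fin m × Fin k → F :=
  z + B z p • w - (ε * B z w) • p - (B w w / 2 * B z p) • p

/-- The transvection map at `p`. -/
def tra (B : (Fin m × Fin k → F) → (Fin m × Fin k → F) → F) (γ : F) (p z : Fin m × Fin k → F) :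
    Fin m × Fin k → F :=
  z + (γ * B z p) • p

/-- An element of the group acting by a given map. -/
def InAct (M : Subgroup (GL (Fin m × Fin k) F)) (f : (Fin m × Fin k → F) → (Fin m × Fin k → F)) : Prop :=
  ∃ g ∈ M, ∀ z, (g : Matrix (Fin m × Fin k) (Fin m × Fin k) F) *ᵥ z = f z

/-- Every element at `p` lies in the group. -/
def Fl (ε : F) (B : (Fin m × Fin k → F) → (Fin m × Fin k → F) → F) (M : Subgroup (GL (Fin m × Fin k) F))
    (p : Fin m × Fin k → F) : Prop :=
  B p p = 0 ∧ (∀ γ, (ε + 1) * γ = 0 → InAct M (tra B γ p)) ∧ ∀ w, B w p = 0 → InAct M (phi ε B p w)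

variable {ε : F} {f₁ : (Fin m → F) → (Fin m → F) → F} {f₂ : (Fin k → F) → (Fin k → F) → F}
  {B : (Fin m × Fin k → F) → (Fin m × Fin k → F) → F} {M : Subgroup (GL (Fin m × Fin k) F)}
  (D : Data ε f₁ f₂ B M)
include D

theorem two : (2 : F) ≠ 0 := D.sym.two

theorem smulR (c : F) (x y : Vec) : B x (c • y) = c * B x y := by
  rw [D.Bswap, D.lin.smul_left, D.Bswap y x]; ring

theorem subR (x y z : Vec) : B x (y - z) = B x y - B x z := by
  rw [eq_sub_iff_add_eq, ← D.addR, sub_add_cancel]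

theorem eps_sq : ε * ε = 1 := by rcases D.eps with h | h <;> simp [h]

/-- The square of the second vector is zero unless the form is symmetric. -/
theorem self_eq (w : Vec) : (1 - ε) * B w w = 0 := by
  have := D.Bswap w w
  linear_combination this

theorem phi_comp {p w w' : Vec} (hp : B p p = 0) (hw : B w p = 0) (hw' : B w' p = 0) (z : Vec) :
    phi ε B p w (phi ε B p w' z) = tra B ((1 - ε) / 2 * B w' w) p (phi ε B p (w + w') z) := by
  have hpw : B p w = 0 := D.B_comm0 hw
  have h2 := two D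
  have hs : B w w' = ε * B w' w := D.Bswap _ _
  simp only [phi, tra, D.lin.add_left, D.lin.smul_left, D.B_sub_left, D.addR, hp, hw, hw', hpw, hs]
  match_scalars <;> field_simp <;> ring

theorem phi_zero (p z : Vec) : phi ε B p 0 z = z := by
  simp [phi, D.B_zero_right]

theorem phi_inv {p w : Vec} (hp : B p p = 0) (hw : B w p = 0) (z : Vec) :
    phi ε B p w (phi ε B p (-w) z) = z := by
  have hnw : B (-w) p = 0 := by rw [← neg_one_smul F w, D.lin.smul_left, hw, mul_zero]
  rw [phi_comp D hp hw hnw, add_neg_cancel, phi_zero D, tra, ← neg_one_smul F w, D.lin.smul_left]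
  have := self_eq D w
  rw [show (1 - ε) / 2 * (-1 * B w w) * B z p = 0 by linear_combination (-(B z p) / 2) * this, zero_smul, add_zero]

theorem phi_isometry {p w : Vec} (hp : B p p = 0) (hw : B w p = 0) (x y : Vec) :
    B (phi ε B p w x) (phi ε B p w y) = B x y := by
  have hpw : B p w = 0 := D.B_comm0 hw
  have h2 := two D
  simp only [phi, D.lin.add_left, D.lin.smul_left, D.B_sub_left, D.addR, smulR D, subR D, hp, hw, hpw,
    D.Bswap y p, D.Bswap y w]
  have he := eps_sq D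
  have hself := self_eq D w
  field_simp
  linear_combination (2 * B x p * B y p) * hself - (4 * B x w * B y p) * he

theorem tra_isometry {p : Vec} (hp : B p p = 0) {γ : F} (hγ : (ε + 1) * γ = 0) (x y : Vec) :
    B (tra B γ p x) (tra B γ p y) = B x y := by
  simp only [tra, D.lin.add_left, D.lin.smul_left, D.addR, smulR D, hp, D.Bswap y p]
  linear_combination (B x p * B y p) * hγ

theorem tra_comp {p : Vec} (hp : B p p = 0) (γ δ : F) (z : Vec) :
    tra B γ p (tra B δ p z) = tra B (γ + δ) p z := by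
  simp only [tra, D.lin.add_left, D.lin.smul_left, hp]
  module

theorem tra_zero (p z : Vec) : tra B 0 p z = z := by
  have _ := D.hm
  simp [tra]

theorem inAct_id : InAct M (fun z => z) := by
  have _ := D.hm
  exact ⟨1, M.one_mem, fun z => by rw [Units.val_one, one_mulVec]⟩

/-- An invertible matrix for the Eichler map. -/
theorem exists_phi {p w : Vec} (hp : B p p = 0) (hw : B w p = 0) :
    ∃ g : G, ∀ z, (g : Big) *ᵥ z = phi ε B p w z := by
  let mat : Vec → Big := fun w => 1 + vecMulVec w (formVec B p) - ε • vecMulVec p (formVec B w)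
    - (B w w / 2) • vecMulVec p (formVec B p)
  have hmat : ∀ w z, mat w *ᵥ z = phi ε B p w z := fun w z => by
    simp only [mat, sub_mulVec, add_mulVec, one_mulVec, smul_mulVec, vecMulVec_mulVec, op_smul_eq_smul,
      formVec_dot D.lin, smul_smul, phi]
  have hnw : B (-w) p = 0 := by rw [← neg_one_smul F w, D.lin.smul_left, hw, mul_zero]
  refine ⟨⟨mat w, mat (-w), Matrix.mulVec_injective (funext fun z => ?_),
    Matrix.mulVec_injective (funext fun z => ?_)⟩, hmat w⟩
  · rw [← mulVec_mulVec, hmat, hmat, one_mulVec, phi_inv D hp hw]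
  · have := phi_inv D hp hnw z
    rw [neg_neg] at this
    rw [← mulVec_mulVec, hmat, hmat, one_mulVec, this]

theorem B_inv {g : G} (hg : g ∈ M) (z w : Vec) :
    B (((g⁻¹ : G) : Big) *ᵥ z) w = B z ((g : Big) *ᵥ w) := by
  rw [← D.iso g hg, gl_mulVec_inv]

/-- Conjugation carries elements at `p` to elements at its image. -/
theorem Fl.map {p : Vec} (h : Fl ε B M p) {g : G} (hg : g ∈ M) : Fl ε B M ((g : Big) *ᵥ p) := by
  refine ⟨by rw [D.iso g hg, h.1], fun γ hγ => ?_, fun w hw => ?_⟩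
  · obtain ⟨t, ht, htz⟩ := h.2.1 γ hγ
    refine ⟨g * t * g⁻¹, M.mul_mem (M.mul_mem hg ht) (M.inv_mem hg), fun z => ?_⟩
    rw [gl_mul_mulVec, gl_mul_mulVec, htz, tra, tra, mulVec_add, gl_mulVec_inv, mulVec_smul, B_inv D hg]
  · obtain ⟨y, rfl⟩ : ∃ y, (g : Big) *ᵥ y = w := ⟨_, gl_mulVec_inv g w⟩
    rw [D.iso g hg] at hw
    obtain ⟨t, ht, htz⟩ := h.2.2 y hw
    refine ⟨g * t * g⁻¹, M.mul_mem (M.mul_mem hg ht) (M.inv_mem hg), fun z => ?_⟩
    rw [gl_mul_mulVec, gl_mul_mulVec, htz, phi, phi, mulVec_sub, mulVec_sub, mulVec_add, gl_mulVec_inv,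
      mulVec_smul, mulVec_smul, mulVec_smul, B_inv D hg, B_inv D hg, D.iso g hg]

variable [Finite F]

omit [Finite F] in
/-- The transvections at a pure tensor. -/
theorem tra_pure (hskew : ∀ A : A1, AdjPair f₁ A (-A) → ∀ v : V2, v ≠ 0 → f₂ v v = 0 →
    InM M (el A v (formVec f₂ v))) (a : V1) {v : V2} (hv : v ≠ 0) (hvv : f₂ v v = 0) {γ : F}
    (hγ : (ε + 1) * γ = 0) : InAct M (tra B γ (tens a v)) := by
  have hadj : AdjPair f₁ (γ • vecMulVec a (formVec f₁ a)) (-(γ • vecMulVec a (formVec f₁ a))) := fun u u' => by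
    rw [neg_mulVec, smul_mulVec, smul_mulVec, vecMulVec_mulVec, vecMulVec_mulVec, op_smul_eq_smul, op_smul_eq_smul,
      D.h1.dot, D.h1.dot, smul_smul, smul_smul, ← neg_smul, D.h1.lin.smul_left, D.h1.smul_right,
      D.h1.swap u' a, RingHom.id_apply, RingHom.id_apply]
    linear_combination (f₁ u a * f₁ u' a) * hγ
  obtain ⟨g, hg, hval⟩ := hskew _ hadj v hv hvv
  refine ⟨g, hg, fun z => ?_⟩
  rw [hval, add_mulVec, one_mulVec, el_mulVec, smul_mulVec, vecMulVec_mulVec, op_smul_eq_smul, D.h1.dot, tra,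
    D.hB, smul_smul, tens_smul_left]

variable (hall : ∀ A : Matrix (Fin m) (Fin m) F, AllHas f₂ M A)
include hall

/-- Eichler elements at two pure tensors along orthogonal vectors of the second factor. -/
theorem phi_perp (a b : V1) {v s : V2} (hv : v ≠ 0) (hvv : f₂ v v = 0) (hsv : f₂ s v = 0) :
    InAct M (phi ε B (tens a v) (tens b s)) := by
  have hf := D.sym
  have hp : B (tens a v) (tens a v) = 0 := by rw [D.B_tens, hvv, zero_mul]
  have hw : B (tens b s) (tens a v) = 0 := by rw [D.B_tens, hsv, zero_mul]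
  obtain ⟨σg, hσg⟩ := exists_phi D hp hw
  obtain ⟨x, hx, hfix, hact⟩ := hall ((-ε) • vecMulVec a (formVec f₁ b)) v hv hvv s hsv
  let Iso : Subgroup G :=
    { carrier := {g | ∀ y z, B ((g : Big) *ᵥ y) ((g : Big) *ᵥ z) = B y z}
      one_mem' := fun y z => by rw [Units.val_one, one_mulVec, one_mulVec]
      mul_mem' := fun {p q} hp hq y z => by rw [gl_mul_mulVec, gl_mul_mulVec, hp, hq]
      inv_mem' := fun {p} hp y z => by
        conv_rhs => rw [← gl_mulVec_inv p y, ← gl_mulVec_inv p z, hp] }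
  have hle : M ≤ Iso := fun g hg => D.iso g hg
  have D' : Data ε f₁ f₂ B Iso :=
    { eps := D.eps, h1 := D.h1, sym := D.sym, lin := D.lin, addR := D.addR, Bswap := D.Bswap, hB := D.hB
      iso := fun g hg => hg, stab := fun g hg hi => hle (D.stab g hg hi), hm := D.hm, hk := D.hk, hmk := D.hmk }
  have hσI : σg ∈ Iso := fun y z => by rw [hσg, hσg, phi_isometry D hp hw]
  have hyI : σg * x⁻¹ ∈ Iso := Iso.mul_mem hσI (Iso.inv_mem (hle hx))
  have hσfix : ∀ u, (σg : Big) *ᵥ tens u v = tens u v := fun u => by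
    rw [hσg, phi, D.B_tens, D.B_tens, hvv, hf.comm s v, hsv]
    simp
  have hperp : ∀ z, ctr (formVec f₂ v) z = 0 → ((σg * x⁻¹ : G) : Big) *ᵥ z = z := by
    intro z hz
    rw [gl_mul_mulVec, Radical.acts_inv D (show Acts f₂ v x _ from ⟨hfix, hact⟩) hz, mulVec_sub, hσfix, hσg, phi]
    rw [D.hB z a v, hz, form_zero_left D.h1.lin, D.hB, smul_mulVec, vecMulVec_mulVec, op_smul_eq_smul, D.h1.dot,
      smul_smul, tens_smul_left]
    simp
  obtain ⟨A, hA⟩ := Radical.eq_el_of_fix D' hv hyI hperp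
  obtain ⟨w, hw1⟩ := hf.sf.exists_one hv
  have hskA : AdjPair f₁ A (-A) := fun p q => by
    have h1 := hyI (tens p w) (tens q w)
    rw [hA, add_mulVec, add_mulVec, one_mulVec, one_mulVec, el_mulVec, el_mulVec, D.ctr_form_tens,
      D.ctr_form_tens, hw1, one_smul, one_smul, D.lin.add_left, D.addR, D.addR, D.B_tens, D.B_tens, D.B_tens,
      D.B_tens, hw1, hf.comm w v, hw1, hvv] at h1
    rw [neg_mulVec, ← neg_one_smul F, D.h1.smul_right, RingHom.id_apply]
    linear_combination h1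
  obtain ⟨g, hg, hval⟩ := Radical.el_skew D hall hskA hv hvv
  refine ⟨g * x, M.mul_mem hg hx, fun z => ?_⟩
  have e : σg = g * x := by
    rw [← mul_inv_eq_iff_eq_mul]
    exact Units.ext (hA.trans hval.symm)
  rw [← e, hσg]

/-- Everything at a pure tensor of an isotropic vector. -/
theorem fl_pure (a : V1) {v : V2} (hv : v ≠ 0) (hvv : f₂ v v = 0) : Fl ε B M (tens a v) := by
  have hf := D.sym
  have hp : B (tens a v) (tens a v) = 0 := by rw [D.B_tens, hvv, zero_mul]
  have htra : ∀ γ, (ε + 1) * γ = 0 → InAct M (tra B γ (tens a v)) := fun γ hγ =>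
    tra_pure D (fun A hA v hv hvv => Radical.el_skew D hall hA hv hvv) a hv hvv hγ
  have hγ' : ∀ c : F, (ε + 1) * ((1 - ε) / 2 * c) = 0 := fun c => by
    linear_combination (-c / 2) * eps_sq D
  let W : AddSubgroup Vec :=
    { carrier := {w | B w (tens a v) = 0 ∧ InAct M (phi ε B (tens a v) w)}
      zero_mem' := ⟨form_zero_left D.lin _, 1, M.one_mem, fun z => by
        rw [Units.val_one, one_mulVec, phi_zero D]⟩
      add_mem' := fun {w w'} hw hw' => by
        refine ⟨by rw [D.lin.add_left, hw.1, hw'.1, add_zero], ?_⟩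
        obtain ⟨g, hg, hgz⟩ := hw.2
        obtain ⟨g', hg', hgz'⟩ := hw'.2
        obtain ⟨t, ht, htz⟩ := htra (-((1 - ε) / 2 * B w' w)) (by linear_combination -hγ' (B w' w))
        refine ⟨t * (g * g'), M.mul_mem ht (M.mul_mem hg hg'), fun z => ?_⟩
        rw [gl_mul_mulVec, gl_mul_mulVec, hgz', hgz, phi_comp D hp hw.1 hw'.1, htz, tra_comp D hp,
          neg_add_cancel, tra_zero D]
      neg_mem' := fun {w} hw => by
        have h0 : B (-w) (tens a v) = 0 := by rw [← neg_one_smul F w, D.lin.smul_left, hw.1, mul_zero]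
        obtain ⟨g, hg, hgz⟩ := hw.2
        refine ⟨h0, g⁻¹, M.inv_mem hg, fun z => gl_mulVec_injective g ?_⟩
        show (g : Big) *ᵥ _ = (g : Big) *ᵥ _
        rw [gl_mulVec_inv, hgz, phi_inv D hp hw.1] }
  have hperp : ∀ (b : V1) (s : V2), f₂ s v = 0 → tens b s ∈ W := fun b s hs =>
    ⟨by rw [D.B_tens, hs, zero_mul], phi_perp D hall a b hv hvv hs⟩
  obtain ⟨y, hyy, hy⟩ := hf.exists_hyperbolic hv hvv
  have hy0 : y ≠ 0 := fun e => by rw [e, hf.zeroL] at hy; exact zero_ne_one hy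
  have hpart : ∀ b : V1, f₁ b a = 0 → tens b y ∈ W := by
    intro b hb
    rcases eq_or_ne b 0 with rfl | hbn
    · rw [tens_zero_left]; exact W.zero_mem
    obtain ⟨s', hs'v, hs'y, hs's'⟩ := hf.exists_aniso_pair D.hk v y
    set s := (f₂ s' s')⁻¹ • s' with hs
    have hsv : f₂ s v = 0 := by rw [hs, hf.smulL, hs'v, mul_zero]
    have hsy : f₂ s y = 0 := by rw [hs, hf.smulL, hs'y, mul_zero]
    have hss' : f₂ s s' = 1 := by rw [hs, hf.smulL, inv_mul_cancel₀ hs's']
    obtain ⟨e0, he0⟩ := D.h1.exists_one hbn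
    set e := (-1 : F) • e0
    have hbe : f₁ b e = -ε := by
      rw [D.h1.smul_right, D.h1.swap e0 b, he0, RingHom.id_apply, RingHom.id_apply]; ring
    have hyp : B (tens b y) (tens b y) = 0 := by rw [D.B_tens, hyy, zero_mul]
    have hes : B (tens e s') (tens b y) = 0 := by rw [D.B_tens, hs'y, zero_mul]
    obtain ⟨h, hh, hhz⟩ := phi_perp D hall b e hy0 hyy hs'y
    have hu : (h : Big) *ᵥ tens a v = tens a v := by
      rw [hhz, phi, D.B_tens, D.B_tens, D.h1.eq_zero_comm hb, hf.comm s' v, hs'v]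
      simp
    have hw : (h : Big) *ᵥ tens b s = tens b s + tens b y := by
      rw [hhz, phi, D.B_tens (w := s) (w' := y), D.B_tens b e s s', hsy, hss', hbe]
      simp only [zero_mul, zero_smul, mul_zero, add_zero, sub_zero, one_mul, mul_neg, eps_sq D, neg_smul, one_smul,
        sub_neg_eq_add]
    obtain ⟨hb0, g, hg, hgz⟩ := hperp b s hsv
    have hmem2 : tens b s + tens b y ∈ W := by
      refine ⟨?_, h * g * h⁻¹, M.mul_mem (M.mul_mem hh hg) (M.inv_mem hh), fun z => ?_⟩
      · rw [← hw]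
        conv_lhs => rw [← hu]
        rw [D.iso h hh, hb0]
      · rw [gl_mul_mulVec, gl_mul_mulVec, hgz, phi, phi, mulVec_sub, mulVec_sub, mulVec_add, gl_mulVec_inv,
          mulVec_smul, mulVec_smul, mulVec_smul, B_inv D hh, B_inv D hh, hu, hw]
        rw [← D.iso h hh (tens b s) (tens b s), hw]
    have := W.sub_mem hmem2 (hperp b s hsv)
    rwa [add_sub_cancel_left] at this
  refine ⟨hp, htra, fun z hz => ?_⟩
  suffices z ∈ W from this.2
  set d := ctr (formVec f₂ v) z with hd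
  have hda : f₁ d a = 0 := by rw [hd, ← D.hB, hz]
  rw [← sub_add_cancel z (tens d y)]
  refine W.add_mem ?_ (hpart d hda)
  rw [← sum_tens_slice (z - tens d y)]
  refine sum_mem fun i _ => hperp _ _ ?_
  refine D.ctr_eq_zero_iff.1 ?_ i
  rw [ctr_sub, D.ctr_form_tens, hy, one_smul, hd, sub_self]

/-- Everything at every singular vector. -/
theorem fl_all {x : Vec} (hx : x ≠ 0) (hxx : B x x = 0) : Fl ε B M x := by
  have hf := D.sym
  obtain ⟨v0, hv0, hv00⟩ := hf.exists_iso (by have := D.hk; omega)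
  obtain ⟨b0, hb0, hb0v⟩ := hf.exists_hyperbolic hv0 hv00
  obtain ⟨v, hv, hvv, hxv⟩ : ∃ v, v ≠ 0 ∧ f₂ v v = 0 ∧ ctr (formVec f₂ v) x ≠ 0 := by
    by_contra hc
    push Not at hc
    refine hx ?_
    rw [← sum_tens_slice x]
    refine Finset.sum_eq_zero fun i _ => ?_
    have hzero : ∀ t, f₂ t t = 0 → f₂ (slice x i) t = 0 := fun t ht => by
      rcases eq_or_ne t 0 with rfl | htn
      · exact hf.zeroR _
      · exact D.ctr_eq_zero_iff.1 (hc t htn ht) i
    rw [hf.eq_zero (x := slice x i) fun u => ?_, tens_zero_right]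
    let S : Submodule F V2 :=
      { carrier := {t | f₂ t (slice x i) = 0}
        zero_mem' := hf.zeroL _
        add_mem' := fun {p q} hp hq => by rw [Set.mem_ofPred_eq, hf.addL, hp, hq, add_zero]
        smul_mem' := fun c p hp => by rw [Set.mem_ofPred_eq, hf.smulL, hp, mul_zero] }
    show u ∈ S
    rw [← sub_add_cancel u (f₂ u v0 • b0)]
    refine S.add_mem ?_ (S.smul_mem _ (by show f₂ b0 _ = 0; rw [hf.comm]; exact hzero b0 hb0))
    refine (Submodule.span_le.2 fun t ht => ?_) (hf.mem_span_iso D.hk hv00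
      (z := u - f₂ u v0 • b0) (by rw [hf.subL, hf.smulL, hb0v, mul_one, sub_self]))
    show f₂ t _ = 0
    rw [hf.comm]; exact hzero t ht.1
  obtain ⟨a0, ha0⟩ := D.h1.exists_one hxv
  set a := ε • a0 with hadef
  have hxp : B x (tens a v) = 1 := by
    rw [D.hB, D.h1.swap a _, hadef, D.h1.lin.smul_left, ha0, RingHom.id_apply, mul_one, eps_sq D]
  have ha : a ≠ 0 := fun e => by rw [e, tens_zero_left, D.B_zero_right] at hxp; exact zero_ne_one hxp
  obtain ⟨y, hyy, hy⟩ := hf.exists_hyperbolic hv hvv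
  have hy0 : y ≠ 0 := fun e => by rw [e, hf.zeroL] at hy; exact zero_ne_one hy
  obtain ⟨a', ha'⟩ := D.h1.exists_one ha
  set p := tens a v
  set q := tens a' y
  have hqp : B q p = 1 := by rw [D.B_tens, hy, ha', one_mul]
  have hP : Fl ε B M p := fl_pure D hall a hv hvv
  have hQ : Fl ε B M q := fl_pure D hall a' hy0 hyy
  set t := (1 - ε) / 2 * B q x
  have hperp : B (x - q) p = 0 := by rw [D.B_sub_left, hxp, hqp, sub_self]
  have ht : (ε + 1) * -t = 0 := by linear_combination (B q x / 2) * eps_sq D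
  obtain ⟨g, hg, hgz⟩ := hP.2.2 _ hperp
  obtain ⟨g', hg', hgz'⟩ := hP.2.1 _ ht
  have himg : ((g' * g : G) : Big) *ᵥ q = x := by
    rw [gl_mul_mulVec, hgz', hgz, phi, tra]
    simp only [subR D, D.B_sub_left, D.lin.add_left, D.lin.smul_left, hqp, hxp, hxx, hQ.1, hP.1, D.Bswap q x, t]
    have := two D
    match_scalars <;> field_simp <;> ring
  have := hQ.map D (M.mul_mem hg' hg)
  rwa [himg] at this

omit hall

omit [Finite F] in
theorem kron_left_isometry {g : A1} (hg : ∀ x y, f₁ (g *ᵥ x) (g *ᵥ y) = f₁ x y) (x y : Vec) :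
    B ((g ⊗ₖ (1 : A2)) *ᵥ x) ((g ⊗ₖ (1 : A2)) *ᵥ y) = B x y := by
  have hctr : ∀ (φ : V2) z, ctr φ ((g ⊗ₖ (1 : A2)) *ᵥ z) = g *ᵥ ctr φ z := by
    intro φ z
    funext i
    simp only [ctr, mulVec, dotProduct, kroneckerMap_apply, Matrix.one_apply, Fintype.sum_prod_type, mul_ite,
      mul_one, mul_zero, ite_mul, zero_mul, Finset.sum_ite_eq, Finset.mem_univ, if_true, Finset.mul_sum]
    rw [Finset.sum_comm]
    exact Finset.sum_congr rfl fun j _ => Finset.sum_congr rfl fun c _ => by ring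
  conv_lhs => arg 2; rw [← sum_tens_slice y, mulVec_sum]
  conv_rhs => rw [← sum_tens_slice y]
  let L : ∀ x, Vec →+ F := fun x => AddMonoidHom.mk' (B x) (D.addR x)
  show L _ _ = L _ _
  rw [map_sum, map_sum]
  refine Finset.sum_congr rfl fun i _ => ?_
  show B _ _ = B _ _
  rw [kron_mulVec_tens, one_mulVec, D.hB, D.hB, hctr, hg]

omit [Finite F] in
/-- Squares of isometries of the first factor. -/
theorem left_sq (g : GL (Fin m) F) (hg : ∀ x y, f₁ ((g : A1) *ᵥ x) ((g : A1) *ᵥ y) = f₁ x y) :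
    ∃ h ∈ M, (h : Big) = ((g * g : GL (Fin m) F) : A1) ⊗ₖ (1 : A2) := by
  refine ⟨_, D.stab (kronGL g 1) (kronGL_mem _ _) (kron_left_isometry D hg), ?_⟩
  show ((g : A1) ⊗ₖ (1 : A2)) * ((g : A1) ⊗ₖ (1 : A2)) = _
  rw [← Matrix.mul_kronecker_mul, Units.val_mul, one_mul]

/-- All coefficients occur, symmetric case. -/
theorem allHas_orth (hε : ε = 1) (hm3 : 3 ≤ m) (hbig : 4 ≤ m ∨ ∃ c : F, c ≠ 0 ∧ c * c ≠ 1)
    (hnoplane : m = 4 → ∀ v s : Fin m → F, v ≠ 0 → f₁ v v = 0 → f₁ s s = 0 → f₁ s v = 0 →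
      s ∈ Submodule.span F {v})
    (hG : ¬ NoRadical f₂ M) (A : A1) : AllHas f₂ M A := by
  subst hε
  have hsym : Sym f₁ := ⟨D.h1, D.sym.two⟩
  obtain ⟨A0, hA0, hA0'⟩ := Radical.exists_nonscalar D hG
  have H : InvariantOrth.Hyp f₁ (Radical.coeff D) :=
    { sym := hsym, hm := hm3, big := hbig, noplane := fun h4 => Or.inl (hnoplane h4)
      adj := fun A hA => by
        obtain ⟨A', hA'⟩ := Radical.exists_adj D A
        exact ⟨A', Radical.allHas_adj D hA hA', hA'⟩
      inv := fun a z ha hz A hA => by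
        have hz2 : f₁ ((2 : F)⁻¹ • z) a = 0 := by rw [hsym.smulL, hz, mul_zero]
        have hnz : f₁ (-z) a = 0 := by rw [hsym.negL, hz, neg_zero]
        have hnz2 : f₁ (-((2 : F)⁻¹ • z)) a = 0 := by rw [hsym.negL, hz2, neg_zero]
        let g : GL (Fin m) F :=
          ⟨1 + eN f₁ a ((2 : F)⁻¹ • z), 1 + eN f₁ a (-((2 : F)⁻¹ • z)),
            by rw [eN_add hsym ha hz2 hnz2, add_neg_cancel, eN_zero hsym, add_zero],
            by rw [eN_add hsym ha hnz2 hz2, neg_add_cancel, eN_zero hsym, add_zero]⟩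
        obtain ⟨h, hh, hval⟩ := left_sq D g fun x y => eN_isometry hsym ha hz2 x y
        refine Radical.allHas_conj (g := 1 + eN f₁ a z) ?_ hh ?_ hA
        · rw [eN_add hsym ha hz hnz, add_neg_cancel, eN_zero hsym, add_zero]
        · rw [hval, Units.val_mul]
          show ((1 + eN f₁ a ((2 : F)⁻¹ • z)) * (1 + eN f₁ a ((2 : F)⁻¹ • z))) ⊗ₖ (1 : A2) = _
          rw [eN_add hsym ha hz2 hz2, ← two_smul F ((2 : F)⁻¹ • z), smul_inv_smul₀ hsym.two]
      nonscalar := ⟨A0, hA0', hA0⟩ }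
  have htop := InvariantOrth.eq_top H
  exact (htop ▸ Algebra.mem_top : A ∈ Radical.coeff D)

/-- All coefficients occur, alternating case. -/
theorem allHas_symp (hε : ε = -1) (hf₁ : Cfsg.Geo.IsSymplecticForm f₁) (hex : 3 ≤ m ∨ ∃ c : F, c ≠ 0 ∧ c ≠ 1)
    (hG : ¬ NoRadical f₂ M) (A : A1) : AllHas f₂ M A := by
  subst hε
  obtain ⟨A0, hA0, hA0'⟩ := Radical.exists_nonscalar D hG
  let K : Subgroup (GL (Fin m) F) :=
    { carrier := {a | kronGL a (1 : GL (Fin k) F) ∈ M}
      one_mem' := by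
        show kronGL 1 1 ∈ M
        have e : kronGL (1 : GL (Fin m) F) (1 : GL (Fin k) F) = 1 := Units.ext (by
          show (1 : A1) ⊗ₖ (1 : A2) = 1; rw [one_kronecker_one])
        rw [e]; exact M.one_mem
      mul_mem' := fun {p q} hp hq => by
        show kronGL (p * q) 1 ∈ M
        have e : kronGL (p * q) (1 : GL (Fin k) F) = kronGL p 1 * kronGL q 1 := Units.ext (by
          show ((p * q : GL (Fin m) F) : A1) ⊗ₖ (1 : A2) = ((p : A1) ⊗ₖ (1 : A2)) * ((q : A1) ⊗ₖ (1 : A2))
          rw [← Matrix.mul_kronecker_mul, Units.val_mul, one_mul])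
        rw [e]; exact M.mul_mem hp hq
      inv_mem' := fun {p} hp => by
        show kronGL p⁻¹ 1 ∈ M
        have e : kronGL p⁻¹ (1 : GL (Fin k) F) = (kronGL p 1)⁻¹ := Units.ext (by
          show ((p⁻¹ : GL (Fin m) F) : A1) ⊗ₖ (1 : A2) = ((p⁻¹ : GL (Fin m) F) : A1) ⊗ₖ
            (((1 : GL (Fin k) F)⁻¹ : GL (Fin k) F) : A2)
          rw [inv_one, Units.val_one])
        rw [e]; exact M.inv_mem hp }
  have hK : ∀ (v : V1) (c : F), tv v (c • formVec f₁ v) ∈ K := by
    intro v c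
    have h0 : ∀ d : F, (d • formVec f₁ v) ⬝ᵥ v = 0 := fun d => by
      rw [smul_dotProduct, D.h1.dot, hf₁.alternating, smul_zero]
    set g := tv v ((c / 2) • formVec f₁ v) with hg
    have hgz : ∀ x, (g : A1) *ᵥ x = x + (c / 2 * f₁ x v) • v := fun x => by
      rw [hg, coe_tv (h0 _), add_mulVec, one_mulVec, vecMulVec_mulVec, op_smul_eq_smul, smul_dotProduct,
        D.h1.dot, smul_eq_mul]
    obtain ⟨h, hh, hval⟩ := left_sq D g fun x y => by
      rw [hgz, hgz, D.h1.lin.add_left, D.h1.add_right, D.h1.add_right, D.h1.lin.smul_left, D.h1.lin.smul_left,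
        D.h1.smul_right, D.h1.smul_right, hf₁.alternating, D.h1.swap y v]
      simp only [RingHom.id_apply]
      ring
    have e : g * g = tv v (c • formVec f₁ v) := gl_ext fun x => by
      rw [gl_mul_mulVec, hgz, hgz, coe_tv (h0 c), add_mulVec, one_mulVec, vecMulVec_mulVec, op_smul_eq_smul,
        smul_dotProduct, D.h1.dot, smul_eq_mul, D.h1.lin.add_left, D.h1.lin.smul_left, hf₁.alternating]
      have := two D
      match_scalars
      · ring
      · rw [mul_zero, add_zero, mul_one, mul_one, ← two_mul, ← mul_assoc, mul_div_cancel₀ c this]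
    show kronGL _ 1 ∈ M
    rw [← e]
    convert hh using 1
    exact Units.ext hval.symm
  have hinv : TensorFormMax.InvariantAlgebra.Invariant f₁ (Radical.coeff D) := fun g g' hgg _ hiso A hA => by
    let a : GL (Fin m) F := ⟨g, g', hgg, mul_eq_one_comm.1 hgg⟩
    exact Radical.allHas_conj hgg
      (Cfsg.Agent.Lib.Subspaces.SympGen.mem_of_isometry hf₁ (M := K) hK (g := a) hiso) rfl hA
  have hm := D.hm
  have htop : Radical.coeff D = ⊤ := by
    refine TensorFormMax.InvariantAlgebra.eq_top D.h1 hinv hm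
      (fun a ha _ => TensorFormMax.SympSide.span_nonorth hf₁ ha)
      ⟨Pi.single ⟨0, by omega⟩ 1, by simp, hf₁.alternating _⟩ ⟨1, one_ne_zero, by simp⟩ ?_
      (TensorFormMax.SympSide.no_line hf₁ hm hex _ hinv ⟨A0, hA0', hA0⟩)
    rcases hex with h | ⟨c, hc, hc1⟩
    · exact Or.inl h
    · exact Or.inr ⟨1, c, one_ne_zero, hc, hc1.symm, by simp, by simp⟩
  exact (htop ▸ Algebra.mem_top : A ∈ Radical.coeff D)

/-- Inside the tensor product stabiliser, or everything at every singular vector. -/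
theorem dichotomy (hne : m < k ∨ ε = -1) (hall : ¬ NoRadical f₂ M → ∀ A : A1, AllHas f₂ M A) :
    M ≤ Cfsg.Geo.kroneckerSubgroup m k F ∨ ∀ x, x ≠ 0 → B x x = 0 → Fl ε B M x := by
  by_cases hG : NoRadical f₂ M
  · exact Or.inl (Rigid.le_kron D hne hG)
  · exact Or.inr fun x hx hxx => fl_all D (hall hG) hx hxx

end Cfsg.Agent.Lib.TensorOrthMax.Full
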