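import Cfsg.Agent.Lib.TensorOrthMax.Setup
import Mathlib.LinearAlgebra.Matrix.CharP
import Mathlib.FieldTheory.Perfect

/-!
A conjugate of an Eichler element of the orthogonal factor that lies in the stabiliser carries a block onto a
block: the Jordan structure of a tensor product of unipotent similitudes decides.
-/

set_option autoImplicit false

namespace Cfsg.Agent.Lib.TensorOrthMax.Fusion

open Matrix Kronecker
open Cfsg.Agent.Lib.Subspaces.Transvection Cfsg.Agent.Lib.Subspaces.FormVec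
  Cfsg.Agent.Lib.TensorMax.Block Cfsg.Agent.Lib.TensorMax.Lemmas Cfsg.Agent.Lib.TensorFormMax.Basic
  Cfsg.Agent.Lib.TensorOrthMax.Side Cfsg.Agent.Lib.TensorOrthMax.Setup

variable {F : Type*} [Field F] {m k n : ℕ}

local notation "V1" => Fin m → F
local notation "V2" => Fin k → F
local notation "Vec" => Fin m × Fin k → F
local notation "Big" => Matrix (Fin m × Fin k) (Fin m × Fin k) F
local notation "A1" => Matrix (Fin m) (Fin m) F
local notation "A2" => Matrix (Fin k) (Fin k) F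
local notation "G" => GL (Fin m × Fin k) F

/-- A nilpotent map is free of relations along a chain of three non-zero vectors. -/
theorem coeff3 {A : Matrix (Fin n) (Fin n) F} {p : ℕ} (hA : A ^ p = 0) {u : Fin n → F}
    (hu : A *ᵥ (A *ᵥ u) ≠ 0) {α β γ : F} (h : α • u + β • (A *ᵥ u) + γ • (A *ᵥ (A *ᵥ u)) = 0) :
    α = 0 ∧ β = 0 ∧ γ = 0 := by
  classical
  have hex : ∃ N, A ^ N *ᵥ u = 0 := ⟨p, by rw [hA, zero_mulVec]⟩
  have h2 : ∀ i, i ≤ 2 → A ^ i *ᵥ u ≠ 0 := fun i hi e => hu (by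
    rw [show A *ᵥ (A *ᵥ u) = A ^ (2 - i) *ᵥ (A ^ i *ᵥ u) by
      rw [mulVec_mulVec u (A ^ (2 - i)), ← pow_add, Nat.sub_add_cancel hi, pow_two, ← mulVec_mulVec],
      e, mulVec_zero])
  set N := Nat.find hex
  have hN : A ^ N *ᵥ u = 0 := Nat.find_spec hex
  have hN3 : 3 ≤ N := by
    by_contra hc
    exact h2 N (by omega) hN
  have hne : A ^ (N - 1) *ᵥ u ≠ 0 := Nat.find_min hex (by omega)
  have hge : ∀ j, N ≤ j → A ^ j *ᵥ u = 0 := fun j hj => by
    rw [← Nat.sub_add_cancel hj, pow_add, ← mulVec_mulVec, hN, mulVec_zero]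
  have hap : ∀ j, α • (A ^ j *ᵥ u) + β • (A ^ (j + 1) *ᵥ u) + γ • (A ^ (j + 2) *ᵥ u) = 0 := fun j => by
    have := congrArg (A ^ j *ᵥ ·) h
    simpa [mulVec_add, mulVec_smul, mulVec_mulVec, pow_succ, Matrix.mul_assoc] using this
  have hα : α = 0 := by
    have := hap (N - 1)
    rw [hge (N - 1 + 1) (by omega), hge (N - 1 + 2) (by omega), smul_zero, smul_zero, add_zero, add_zero] at this
    exact (smul_eq_zero.1 this).resolve_right hne
  have hβ : β = 0 := by
    have := hap (N - 2)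
    rw [hα, zero_smul, zero_add, hge (N - 2 + 2) (by omega), smul_zero, add_zero,
      show N - 2 + 1 = N - 1 by omega] at this
    exact (smul_eq_zero.1 this).resolve_right hne
  rw [hα, hβ, zero_smul, zero_smul, zero_add, zero_add] at h
  exact ⟨hα, hβ, (smul_eq_zero.1 h).resolve_right hu⟩

theorem mulVec_sq_ne {A : Matrix (Fin n) (Fin n) F} (h : A * A ≠ 0) : ∃ u, A *ᵥ (A *ᵥ u) ≠ 0 := by
  by_contra hc
  push Not at hc
  exact h (Matrix.mulVec_injective (funext fun u => by rw [← mulVec_mulVec, hc, zero_mulVec]))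

theorem two_le_rank {A : Matrix (Fin n) (Fin n) F} {p : ℕ} (hA : A ^ p = 0) (h : A * A ≠ 0) :
    2 ≤ Module.finrank F (LinearMap.range A.mulVecLin) := by
  obtain ⟨u, hu⟩ := mulVec_sq_ne h
  have hne : A *ᵥ u ≠ 0 := fun e => hu (by rw [e, mulVec_zero])
  have hni : A *ᵥ (A *ᵥ u) ∉ Submodule.span F {A *ᵥ u} := fun e => by
    obtain ⟨c, hc⟩ := Submodule.mem_span_singleton.1 e
    have := (coeff3 hA hu (α := 0) (β := c) (γ := -1) (by rw [hc]; module)).2.2
    exact one_ne_zero (neg_eq_zero.1 this)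
  rw [← finrank_plane hne hni]
  refine Submodule.finrank_mono (Submodule.span_le.2 ?_)
  rintro x (rfl | rfl)
  · exact ⟨u, rfl⟩
  · exact ⟨A *ᵥ u, rfl⟩

theorem range_one_kron (N : A2) :
    LinearMap.range ((1 : A1) ⊗ₖ N).mulVecLin = Tn m (LinearMap.range N.mulVecLin) := by
  refine le_antisymm ?_ fun x hx => ?_
  · rintro _ ⟨x, rfl⟩ i
    exact ⟨slice x i, (slice_one_kron N x i).symm⟩
  · choose w hw using hx
    refine ⟨∑ i, tens (Pi.single i 1) (w i), ?_⟩
    rw [Matrix.mulVecLin_apply, mulVec_sum]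
    conv_rhs => rw [← sum_tens_slice x]
    exact Finset.sum_congr rfl fun i _ => by rw [tens_mul, ← hw i, Matrix.mulVecLin_apply]

theorem finrank_one_kron (N : A2) : Module.finrank F (LinearMap.range ((1 : A1) ⊗ₖ N).mulVecLin) =
    m * Module.finrank F (LinearMap.range N.mulVecLin) := by
  rw [range_one_kron, finrank_Tn]

/-- The rank of the nilpotent part of a tensor product of a short and a longer unipotent. -/
theorem rank_gt {A : A1} {B : A2} (hA : A ≠ 0) (hAA : A * A = 0) (hk : 5 ≤ k) (hm : 1 ≤ m)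
    (hB : 2 ≤ Module.finrank F (LinearMap.range B.mulVecLin)) :
    2 * m < Matrix.rank (A ⊗ₖ B + A ⊗ₖ (1 : A2) + (1 : A1) ⊗ₖ B) := by
  set X : Big := A ⊗ₖ B + A ⊗ₖ (1 : A2) + (1 : A1) ⊗ₖ B with hX
  set P : Vec →ₗ[F] Vec := (A ⊗ₖ (1 : A2)).mulVecLin with hP
  set T := LinearMap.range ((1 : A1) ⊗ₖ B).mulVecLin with hT
  set Y := LinearMap.range X.mulVecLin with hY
  change 2 * m < Module.finrank F Y
  have hXu : ∀ u w, X *ᵥ tens u w =
      tens (A *ᵥ u) (B *ᵥ w) + tens (A *ᵥ u) w + tens u (B *ᵥ w) := fun u w => by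
    rw [hX, add_mulVec, add_mulVec, kron_mulVec_tens, kron_mulVec_tens, kron_mulVec_tens, one_mulVec, one_mulVec]
  have hPX : (A ⊗ₖ (1 : A2)) * X = A ⊗ₖ B := by
    rw [hX, mul_add, mul_add, ← Matrix.mul_kronecker_mul, ← Matrix.mul_kronecker_mul, ← Matrix.mul_kronecker_mul,
      hAA, one_mul, one_mul, mul_one, zero_kronecker, zero_kronecker, zero_add, zero_add]
  have hPT : (A ⊗ₖ (1 : A2)) * ((1 : A1) ⊗ₖ B) = A ⊗ₖ B := by
    rw [← Matrix.mul_kronecker_mul, one_mul, mul_one]
  have h1 : ∀ S : Submodule F Vec, Module.finrank F S =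
      Module.finrank F (S.map P) + Module.finrank F (S ⊓ LinearMap.ker P : Submodule F Vec) := fun S => by
    have h := LinearMap.finrank_range_add_finrank_ker (P.domRestrict S)
    rw [LinearMap.range_domRestrict, LinearMap.ker_domRestrict] at h
    rw [← h]
    congr 1
    rw [← Submodule.map_comap_subtype]
    exact (Submodule.equivMapOfInjective S.subtype S.injective_subtype _).finrank_eq
  have hmapeq : T.map P = Y.map P := by
    rw [hT, hY, ← LinearMap.range_comp, ← LinearMap.range_comp, hP, ← Matrix.mulVecLin_mul,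
      ← Matrix.mulVecLin_mul, hPX, hPT]
  obtain ⟨E', hE'⟩ := (LinearMap.ker A.mulVecLin).subtype.exists_leftInverse_of_injective
    (Submodule.ker_subtype _)
  have hle : T ⊓ LinearMap.ker P ≤ Y ⊓ LinearMap.ker P := by
    rintro x ⟨⟨x', rfl⟩, hx⟩
    refine ⟨?_, hx⟩
    set E : A1 := LinearMap.toMatrix' ((LinearMap.ker A.mulVecLin).subtype ∘ₗ E')
    have hE : ∀ u, E *ᵥ u = (E' u : V1) := fun u => by
      rw [← Matrix.toLin'_apply, Matrix.toLin'_toMatrix']; rfl
    have hAE : A * E = 0 := Matrix.mulVec_injective (funext fun u => by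
      rw [← mulVec_mulVec, hE, zero_mulVec]; exact (E' u).2)
    have hEk : ∀ u, A *ᵥ u = 0 → E *ᵥ u = u := fun u hu => by
      rw [hE]
      exact congrArg Subtype.val (LinearMap.congr_fun hE' ⟨u, hu⟩)
    refine ⟨(E ⊗ₖ (1 : A2)) *ᵥ x', ?_⟩
    show X *ᵥ ((E ⊗ₖ (1 : A2)) *ᵥ x') = ((1 : A1) ⊗ₖ B) *ᵥ x'
    rw [hX, add_mulVec, add_mulVec, mulVec_mulVec, mulVec_mulVec, mulVec_mulVec, ← Matrix.mul_kronecker_mul,
      ← Matrix.mul_kronecker_mul, ← Matrix.mul_kronecker_mul, hAE, zero_kronecker, zero_kronecker, zero_mulVec,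
      zero_add, zero_add, one_mul, mul_one]
    -- both sides agree column by column
    set y := ((1 : A1) ⊗ₖ B) *ᵥ x' with hy
    have hyk : ∀ d, (A *ᵥ fun i => y (i, d)) = 0 := fun d => funext fun i => by
      have hx' : (A ⊗ₖ (1 : A2)) *ᵥ y = 0 := hx
      have := congrFun hx' (i, d)
      simpa [hP, mulVec, dotProduct, kroneckerMap_apply, Matrix.one_apply, Fintype.sum_prod_type] using this
    have e1 : (E ⊗ₖ B) *ᵥ x' = (E ⊗ₖ (1 : A2)) *ᵥ y := by
      rw [hy, mulVec_mulVec, ← Matrix.mul_kronecker_mul, mul_one, one_mul]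
    rw [e1]
    funext ⟨i, d⟩
    have := congrFun (hEk _ (hyk d)) i
    simpa [mulVec, dotProduct, kroneckerMap_apply, Matrix.one_apply, Fintype.sum_prod_type] using this
  have hT' : Module.finrank F T = m * Module.finrank F (LinearMap.range B.mulVecLin) := finrank_one_kron B
  have hle2 := Submodule.finrank_mono hle
  have e1 := h1 T
  have e2 := h1 Y
  rw [hmapeq, hT'] at e1
  set s := Module.finrank F (LinearMap.range B.mulVecLin) with hs
  rcases le_or_gt 3 s with h3 | h3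
  · nlinarith
  -- the image has one dimension more
  have hs2 : s = 2 := by omega
  have hdim := LinearMap.finrank_range_add_finrank_ker B.mulVecLin
  rw [← hs, Module.finrank_fin_fun] at hdim
  obtain ⟨w, hw, hwn⟩ : ∃ w ∈ LinearMap.ker B.mulVecLin, w ∉ LinearMap.range B.mulVecLin := by
    by_contra hc
    push Not at hc
    have := Submodule.finrank_mono (show LinearMap.ker B.mulVecLin ≤ LinearMap.range B.mulVecLin from hc)
    omega
  obtain ⟨u, hu⟩ : ∃ u, A *ᵥ u ≠ 0 := by
    by_contra hc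
    push Not at hc
    exact hA (Matrix.mulVec_injective (funext fun u => by rw [hc, zero_mulVec]))
  have hBw : B *ᵥ w = 0 := hw
  have hlt : T ⊓ LinearMap.ker P < Y ⊓ LinearMap.ker P := by
    refine lt_of_le_of_ne hle fun e => ?_
    have hmem : tens (A *ᵥ u) w ∈ Y ⊓ LinearMap.ker P :=
      ⟨⟨tens u w, by rw [Matrix.mulVecLin_apply, hXu, hBw, tens_zero_right, tens_zero_right, zero_add, add_zero]⟩,
        by rw [SetLike.mem_coe, LinearMap.mem_ker, hP, Matrix.mulVecLin_apply, kron_mulVec_tens, mulVec_mulVec, hAA, zero_mulVec,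
          tens_zero_left]⟩
    rw [← e] at hmem
    obtain ⟨i, hi⟩ := Function.ne_iff.1 hu
    have h2 : slice (tens (A *ᵥ u) w) i ∈ LinearMap.range B.mulVecLin := by
      have := (range_one_kron (m := m) B ▸ hmem.1 : tens (A *ᵥ u) w ∈ Tn m (LinearMap.range B.mulVecLin))
      exact this i
    refine hwn ?_
    have h3 := Submodule.smul_mem _ ((A *ᵥ u) i)⁻¹ h2
    rwa [show slice (tens (A *ᵥ u) w) i = (A *ᵥ u) i • w from rfl, inv_smul_smul₀ hi] at h3
  have hlt2 := Submodule.finrank_lt_finrank_of_lt hlt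
  rw [hs2] at e1
  omega

/-- Contraction of the first factor by a functional. -/
def ctr1 (χ : Fin m → F) (z : Fin m × Fin k → F) : Fin k → F := fun d => ∑ i, χ i * z (i, d)

theorem ctr1_tens (χ u : V1) (w : V2) : ctr1 χ (tens u w) = (χ ⬝ᵥ u) • w := by
  ext d
  simp [ctr1, tens, dotProduct, Finset.sum_mul, mul_assoc]

theorem ctr1_add (χ : V1) (x y : Vec) : ctr1 χ (x + y) = ctr1 χ x + ctr1 χ y := by
  ext d
  simp [ctr1, mul_add, Finset.sum_add_distrib]

theorem ctr1_smul (χ : V1) (c : F) (x : Vec) : ctr1 χ (c • x) = c • ctr1 χ x := by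
  ext d
  simp [ctr1, Finset.mul_sum, mul_left_comm]

theorem rank_swap (A : A1) (B : A2) : (B ⊗ₖ A).rank = (A ⊗ₖ B).rank := by
  rw [← rank_submatrix (A ⊗ₖ B) (Equiv.prodComm (Fin k) (Fin m)) (Equiv.prodComm (Fin k) (Fin m))]
  congr 1
  ext ⟨i, c⟩ ⟨j, d⟩
  simp [kroneckerMap_apply, mul_comm]

theorem rank_swap3 (A : A1) (B : A2) :
    (B ⊗ₖ A + B ⊗ₖ (1 : A1) + (1 : A2) ⊗ₖ A).rank = (A ⊗ₖ B + A ⊗ₖ (1 : A2) + (1 : A1) ⊗ₖ B).rank := by
  rw [← rank_submatrix (A ⊗ₖ B + A ⊗ₖ (1 : A2) + (1 : A1) ⊗ₖ B) (Equiv.prodComm (Fin k) (Fin m))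
    (Equiv.prodComm (Fin k) (Fin m))]
  congr 1
  ext ⟨i, c⟩ ⟨j, d⟩
  simp [kroneckerMap_apply, mul_comm]
  ring

theorem kronecker_pow' (A : A1) (B : A2) (i : ℕ) : (A ⊗ₖ B) ^ i = (A ^ i) ⊗ₖ (B ^ i) := by
  induction i with
  | zero => rw [pow_zero, pow_zero, pow_zero, one_kronecker_one]
  | succ i ih => rw [pow_succ, pow_succ, pow_succ, ih, Matrix.mul_kronecker_mul]

section side

variable {ε : F} {f : (Fin n → F) → (Fin n → F) → F}

/-- The square of the nilpotent part of a unipotent isometry of an alternating form is not of rank one. -/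
theorem sq_eq_zero_of_alt (hf : SForm (RingHom.id F) ε f) (hε : ε = -1) (h2 : (2 : F) ≠ 0)
    {A : Matrix (Fin n) (Fin n) F} (hiso : ∀ x y, f (x + A *ᵥ x) (y + A *ᵥ y) = f x y)
    (hA3 : A * A * A = 0) (hrk : Module.finrank F (LinearMap.range (A * A).mulVecLin) ≤ 1) : A * A = 0 := by
  have hE : ∀ x y, f (A *ᵥ x) y + f x (A *ᵥ y) + f (A *ᵥ x) (A *ᵥ y) = 0 := fun x y => by
    have := hiso x y
    rw [hf.lin.add_left, hf.add_right, hf.add_right] at this
    linear_combination this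
  have h0 : ∀ x, A *ᵥ (A *ᵥ (A *ᵥ x)) = 0 := fun x => by
    rw [mulVec_mulVec, mulVec_mulVec, hA3, zero_mulVec]
  have hsw : ∀ x y, f y x = -f x y := fun x y => by rw [hf.swap, hε, RingHom.id_apply]; ring
  -- the square is skew, and alternating in its two arguments
  have hsq : ∀ x y, f (A *ᵥ (A *ᵥ x)) y = -f (A *ᵥ (A *ᵥ y)) x := fun x y => by
    have a1 := hE (A *ᵥ x) y
    have a2 := hE x (A *ᵥ y)
    have a3 := hE (A *ᵥ x) (A *ᵥ y)
    have a4 := hE (A *ᵥ (A *ᵥ x)) y
    have a5 := hE (A *ᵥ (A *ᵥ x)) (A *ᵥ y)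
    rw [h0, form_zero_left hf.lin, form_zero_left hf.lin, zero_add, add_zero] at a4 a5
    rw [a4, a5, zero_add, add_zero] at a3
    rw [a3, add_zero] at a2
    rw [a4, add_zero] at a1
    rw [← hsw (A *ᵥ (A *ᵥ y)) x]
    linear_combination a1 - a2
  by_contra hne
  obtain ⟨u, hu⟩ := mulVec_sq_ne hne
  have hmem : A *ᵥ (A *ᵥ u) ∈ LinearMap.range (A * A).mulVecLin :=
    ⟨u, by rw [Matrix.mulVecLin_apply, mulVec_mulVec]⟩
  have hline : LinearMap.range (A * A).mulVecLin = Submodule.span F {A *ᵥ (A *ᵥ u)} :=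
    (Submodule.eq_of_le_of_finrank_le (Submodule.span_le.2 (Set.singleton_subset_iff.2 hmem))
      (by rw [finrank_span_singleton hu]; exact hrk)).symm
  set e := A *ᵥ (A *ᵥ u)
  obtain ⟨t, ht⟩ := hf.nondeg e hu
  have het : f e t ≠ 0 := fun h => ht (hf.eq_zero_comm h)
  have hphi : ∀ y, ∃ c : F, A *ᵥ (A *ᵥ y) = c • e := fun y => by
    have h : (A * A) *ᵥ y ∈ LinearMap.range (A * A).mulVecLin := ⟨y, rfl⟩
    rw [hline] at h
    obtain ⟨c, hc⟩ := Submodule.mem_span_singleton.1 h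
    exact ⟨c, by rw [hc, mulVec_mulVec]⟩
  have hd : ∀ y, f (A *ᵥ (A *ᵥ y)) y = 0 := fun y => by
    have := hsq y y
    have h3 : (2 : F) * f (A *ᵥ (A *ᵥ y)) y = 0 := by linear_combination this
    exact (mul_eq_zero.1 h3).resolve_left h2
  have hu0 : f e u = 0 := hd u
  obtain ⟨c, hc⟩ := hphi t
  have h1 := hsq u t
  rw [hc, hf.lin.smul_left, hu0, mul_zero, neg_zero] at h1
  exact het h1

/-- A unipotent isometry of a symmetric form is not a transvection. -/
theorem two_le_rank_orth (hf : Sym f) {B : Matrix (Fin n) (Fin n) F}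
    (hiso : ∀ x y, f (x + B *ᵥ x) (y + B *ᵥ y) = f x y) (hnil : ∃ p, B ^ p = 0) (hne : B ≠ 0) :
    2 ≤ Module.finrank F (LinearMap.range B.mulVecLin) := by
  by_contra hc
  obtain ⟨u, hu⟩ : ∃ u, B *ᵥ u ≠ 0 := by
    by_contra hc
    push Not at hc
    exact hne (Matrix.mulVec_injective (funext fun u => by rw [hc, zero_mulVec]))
  have hmem : B *ᵥ u ∈ LinearMap.range B.mulVecLin := ⟨u, rfl⟩
  have hline : LinearMap.range B.mulVecLin = Submodule.span F {B *ᵥ u} :=
    (Submodule.eq_of_le_of_finrank_le (Submodule.span_le.2 (Set.singleton_subset_iff.2 hmem))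
      (by rw [finrank_span_singleton hu]; omega)).symm
  set e := B *ᵥ u
  have hphi : ∀ y, ∃ c : F, B *ᵥ y = c • e := fun y => by
    have h : B *ᵥ y ∈ LinearMap.range B.mulVecLin := ⟨y, rfl⟩
    rw [hline] at h
    obtain ⟨c, hc⟩ := Submodule.mem_span_singleton.1 h
    exact ⟨c, hc.symm⟩
  have he : B *ᵥ e = 0 := by
    obtain ⟨c, hc'⟩ := hphi e
    obtain ⟨p, hp⟩ := hnil
    have : ∀ i, B ^ i *ᵥ e = c ^ i • e := fun i => by
      induction i with
      | zero => simp
      | succ i ih => rw [pow_succ', ← mulVec_mulVec, ih, mulVec_smul, hc', smul_smul, ← pow_succ]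
    have h := this p
    rw [hp, zero_mulVec, eq_comm, smul_eq_zero] at h
    rw [hc', eq_zero_of_pow_eq_zero (h.resolve_right hu), zero_smul]
  have hd : ∀ y (c : F), B *ᵥ y = c • e → c * (2 * f e y + c * f e e) = 0 := fun y c hy => by
    have := hiso y y
    rw [hy, hf.expand] at this
    rw [hf.comm e y] at this
    linear_combination this
  have h1 : 2 * f e u + f e e = 0 := by simpa using hd u 1 (one_smul F e).symm
  have h2 : 2 * f e (u + e) + f e e = 0 := by
    simpa using hd (u + e) 1 (by rw [mulVec_add, he, add_zero, one_smul])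
  rw [hf.addR] at h2
  have hee : f e e = 0 := by
    have : (2 : F) * f e e = 0 := by linear_combination h2 - h1
    exact (mul_eq_zero.1 this).resolve_left hf.two
  have heu : f e u = 0 := by
    rw [hee, add_zero] at h1; exact (mul_eq_zero.1 h1).resolve_left hf.two
  refine hu (hf.eq_zero fun y => ?_)
  rw [hf.comm]
  obtain ⟨c, hc'⟩ := hphi y
  by_cases hc0 : c = 0
  · obtain ⟨d, hd'⟩ := hphi (u + y)
    have hd1 : d = 1 := by
      have : B *ᵥ (u + y) = (1 : F) • e := by rw [mulVec_add, hc', hc0, zero_smul, add_zero, one_smul]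
      exact smul_left_injective F hu (hd'.symm.trans this)
    have := hd (u + y) d hd'
    rw [hd1, hee, one_mul, mul_zero, add_zero, hf.addR, heu, zero_add] at this
    exact (mul_eq_zero.1 this).resolve_left hf.two
  · have := hd y c hc'
    rw [hee, mul_zero, add_zero] at this
    exact (mul_eq_zero.1 ((mul_eq_zero.1 this).resolve_left hc0)).resolve_left hf.two

end side

variable {ε : F} {f₁ : (Fin m → F) → (Fin m → F) → F} {f₂ : (Fin k → F) → (Fin k → F) → F}
  {B : (Fin m × Fin k → F) → (Fin m × Fin k → F) → F} {M : Subgroup (GL (Fin m × Fin k) F)}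

theorem exists_unipotent [Finite F] (D : Data ε f₁ f₂ B M) {p : ℕ} [Fact p.Prime] [CharP F p] {y : G}
    (hy : y ∈ M) (hk : y ∈ Cfsg.Geo.kroneckerSubgroup m k F) (hp : y ^ p = 1) :
    ∃ (A : A1) (Bm : A2), (y : Big) = (1 + A) ⊗ₖ (1 + Bm) ∧ A ^ p = 0 ∧ Bm ^ p = 0 ∧
      (∀ u u', f₁ (u + A *ᵥ u) (u' + A *ᵥ u') = f₁ u u') ∧
      ∀ w w', f₂ (w + Bm *ᵥ w) (w' + Bm *ᵥ w') = f₂ w w' := by
  have : Nonempty (Fin m) := ⟨⟨0, by have := D.hm; omega⟩⟩
  have : Nonempty (Fin k) := ⟨⟨0, by have := D.hk; omega⟩⟩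
  obtain ⟨a, b, hab⟩ := hk
  have hpw : ((a : A1) ^ p) ⊗ₖ ((b : A2) ^ p) = 1 := by
    rw [← kronecker_pow', ← hab, ← Units.val_pow_eq_pow_val, hp, Units.val_one]
  set i0 : Fin m := ⟨0, by have := D.hm; omega⟩
  set c0 : Fin k := ⟨0, by have := D.hk; omega⟩
  have hent : ∀ i j c d, ((a : A1) ^ p) i j * ((b : A2) ^ p) c d = if (i, c) = (j, d) then 1 else 0 :=
    fun i j c d => by
      rw [← Matrix.one_apply (α := F), ← hpw, kroneckerMap_apply]
  set lam := ((a : A1) ^ p) i0 i0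
  have hlam : lam ≠ 0 := fun e => by simpa [lam, e] using hent i0 i0 c0 c0
  have hb : (b : A2) ^ p = lam⁻¹ • 1 := by
    ext c d
    have := hent i0 i0 c d
    rw [Matrix.smul_apply, smul_eq_mul, Matrix.one_apply, eq_inv_mul_iff_mul_eq₀ hlam, this]
    simp
  have ha : (a : A1) ^ p = lam • 1 := by
    ext i j
    have := hent i j c0 c0
    rw [hb, Matrix.smul_apply, smul_eq_mul, Matrix.one_apply_eq, mul_one,
      mul_inv_eq_iff_eq_mul₀ hlam] at this
    rw [Matrix.smul_apply, smul_eq_mul, Matrix.one_apply, this]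
    simp [mul_comm]
  have : ExpChar F p := ExpChar.prime Fact.out
  obtain ⟨mu, hmu⟩ := (bijective_frobenius F p).2 lam
  rw [frobenius_def] at hmu
  have hmu0 : mu ≠ 0 := fun e => hlam (by rw [← hmu, e, zero_pow (Fact.out : p.Prime).ne_zero])
  have key : (y : Big) = (mu⁻¹ • (a : A1)) ⊗ₖ (mu • (b : A2)) := by
    rw [smul_kronecker, kronecker_smul, smul_smul, inv_mul_cancel₀ hmu0, one_smul, hab]
  have ha1 : (mu⁻¹ • (a : A1)) ^ p = 1 := by
    rw [smul_pow, ha, inv_pow, hmu, smul_smul, inv_mul_cancel₀ hlam, one_smul]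
  have hb1 : (mu • (b : A2)) ^ p = 1 := by
    rw [smul_pow, hb, hmu, smul_smul, mul_inv_cancel₀ hlam, one_smul]
  refine ⟨mu⁻¹ • (a : A1) - 1, mu • (b : A2) - 1, by rw [add_sub_cancel, add_sub_cancel, key], ?_, ?_, ?_⟩
  · rw [sub_pow_char_of_commute p (Commute.one_right _), one_pow, ha1, sub_self]
  · rw [sub_pow_char_of_commute p (Commute.one_right _), one_pow, hb1, sub_self]
  set a' := mu⁻¹ • (a : A1)
  set b' := mu • (b : A2)
  have hAu : ∀ u, u + (a' - 1) *ᵥ u = a' *ᵥ u := fun u => by rw [sub_mulVec, one_mulVec]; abel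
  have hBw : ∀ w, w + (b' - 1) *ᵥ w = b' *ᵥ w := fun u => by rw [sub_mulVec, one_mulVec]; abel
  simp only [hAu, hBw]
  have hprod : ∀ u u' w w', f₂ (b' *ᵥ w) (b' *ᵥ w') * f₁ (a' *ᵥ u) (a' *ᵥ u') = f₂ w w' * f₁ u u' :=
    fun u u' w w' => by
      rw [← D.B_tens, ← D.B_tens, ← kron_mulVec_tens, ← kron_mulVec_tens, ← key, D.iso y hy]
  obtain ⟨u, u', huu⟩ := D.exists_pair
  obtain ⟨w', -, hw⟩ : ∃ w' : V2, w' ≠ 0 ∧ ∃ w, f₂ w w' ≠ 0 :=
    ⟨Pi.single c0 1, by simp, D.sym.sf.nondeg _ (by simp)⟩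
  obtain ⟨w, hww⟩ := hw
  set c := f₁ u u' / f₁ (a' *ᵥ u) (a' *ᵥ u')
  have hne : f₁ (a' *ᵥ u) (a' *ᵥ u') ≠ 0 := fun e => by
    have := hprod u u' w w'
    rw [e, mul_zero, eq_comm, mul_eq_zero] at this
    exact this.elim hww huu
  have hsim : ∀ x x', f₂ (b' *ᵥ x) (b' *ᵥ x') = c * f₂ x x' := fun x x' => by
    have := hprod u u' x x'
    simp only [c]
    field_simp
    linear_combination this
  have hit : ∀ i x x', f₂ (b' ^ i *ᵥ x) (b' ^ i *ᵥ x') = c ^ i * f₂ x x' := fun i => by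
    induction i with
    | zero => simp
    | succ i ih =>
      intro x x'
      rw [pow_succ', ← mulVec_mulVec, ← mulVec_mulVec, hsim, ih, pow_succ', mul_assoc]
  have hc : c = 1 := by
    have := hit p w w'
    rw [hb1, one_mulVec, one_mulVec] at this
    refine frobenius_inj F p ?_
    rw [frobenius_def, frobenius_def, one_pow]
    exact mul_right_cancel₀ hww (by rw [one_mul]; exact this.symm)
  have hb2 : ∀ x x', f₂ (b' *ᵥ x) (b' *ᵥ x') = f₂ x x' := fun x x' => by rw [hsim, hc, one_mul]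
  refine ⟨fun x x' => ?_, hb2⟩
  have := hprod x x' w w'
  rw [hb2] at this
  exact mul_left_cancel₀ hww this

theorem eN_range_eq [Finite F] (D : Data ε f₁ f₂ B M) {v z : V2} (hs : Seed f₂ v z) :
    LinearMap.range (eN f₂ v z).mulVecLin = plane v z :=
  le_antisymm (by rintro _ ⟨w, rfl⟩; exact eN_mem D.sym v z w) (eN_range D.sym hs)

theorem eN_sq_range (D : Data ε f₁ f₂ B M) {v z : V2} (hs : Seed f₂ v z) (hzz : f₂ z z ≠ 0) :
    LinearMap.range (eN f₂ v z * eN f₂ v z).mulVecLin = Submodule.span F {v} := by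
  have e : ∀ w, (eN f₂ v z * eN f₂ v z) *ᵥ w = -(f₂ w v * f₂ z z) • v := fun w => by
    rw [← mulVec_mulVec, eN_comp D.sym hs.iso hs.orth hs.orth]
  refine le_antisymm ?_ (Submodule.span_le.2 (Set.singleton_subset_iff.2 ?_))
  · rintro _ ⟨w, rfl⟩
    rw [Matrix.mulVecLin_apply, e]
    exact Submodule.smul_mem _ _ (Submodule.mem_span_singleton_self v)
  · obtain ⟨w, -, hw⟩ := D.sym.exists_hyperbolic hs.ne hs.iso
    refine ⟨-(f₂ z z)⁻¹ • w, ?_⟩
    rw [Matrix.mulVecLin_apply, e, D.sym.smulL, hw]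
    match_scalars
    field_simp

/-- The block of the singular vector of an anisotropic seed whose Eichler element is conjugated into the
stabiliser goes to a block. -/
theorem fusion [Finite F] (D : Data ε f₁ f₂ B M) (hne : m < k ∨ ε = -1) {x : G} (hx : x ∈ M) {v z : V2}
    (hs : Seed f₂ v z) (hzz : f₂ z z ≠ 0) {R : G} (hRM : R ∈ M)
    (hR : (R : Big) = (1 : A1) ⊗ₖ (1 + eN f₂ v z))
    (hk : x * R * x⁻¹ ∈ Cfsg.Geo.kroneckerSubgroup m k F) :
    ∃ v', v' ≠ 0 ∧ f₂ v' v' = 0 ∧ ∀ a, ∃ a', (x : Big) *ᵥ tens a v = tens a' v' := by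
  classical
  have := Fintype.ofFinite F
  obtain ⟨p, hchar⟩ := CharP.exists F
  have : Fact p.Prime := ⟨CharP.char_is_prime F p⟩
  have hm := D.hm
  have hk5 := D.hk
  have hmk := D.hmk
  have h2 := D.sym.two
  set N := eN f₂ v z with hN
  set y := x * R * x⁻¹ with hydef
  have hy : y ∈ M := M.mul_mem (M.mul_mem hx hRM) (M.inv_mem hx)
  have hRp : R ^ p = 1 := by
    refine Units.ext ?_
    have hpow : ∀ i : ℕ, (1 + N) ^ i = 1 + eN f₂ v ((i : F) • z) := fun i => by
      induction i with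
      | zero => rw [pow_zero, Nat.cast_zero, zero_smul, eN_zero D.sym, add_zero]
      | succ i ih =>
        rw [pow_succ, ih, hN, eN_add D.sym hs.iso (by rw [D.sym.smulL, hs.orth, mul_zero]) hs.orth,
          Nat.cast_succ, add_smul, one_smul]
    rw [Units.val_pow_eq_pow_val, hR, kronecker_pow', one_pow, hpow, CharP.cast_eq_zero, zero_smul,
      eN_zero D.sym, add_zero, one_kronecker_one, Units.val_one]
  have hyp : y ^ p = 1 := by rw [hydef, conj_pow, hRp, mul_one, mul_inv_cancel]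
  obtain ⟨A, Bm, hAB, hAp, hBp, hA1, hB1⟩ := exists_unipotent D hy hk hyp
  set X : Big := (x : Big) * ((1 : A1) ⊗ₖ N) * ((x⁻¹ : G) : Big) with hXdef
  have hinv : ((x⁻¹ : G) : Big) * (x : Big) = 1 := by rw [← Units.val_mul, inv_mul_cancel, Units.val_one]
  have hinv' : (x : Big) * ((x⁻¹ : G) : Big) = 1 := by rw [← Units.val_mul, mul_inv_cancel, Units.val_one]
  have hX : X = A ⊗ₖ Bm + A ⊗ₖ (1 : A2) + (1 : A1) ⊗ₖ Bm := by
    have e : (y : Big) = 1 + X := by
      rw [hydef, Units.val_mul, Units.val_mul, hR, kronecker_add, one_kronecker_one, hXdef, mul_add, add_mul,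
        mul_one, hinv']
    rw [hAB, add_kronecker, kronecker_add, kronecker_add, one_kronecker_one] at e
    have e2 := (eq_sub_iff_add_eq'.2 e.symm)
    rw [e2]; abel
  have hX2' : X * X = (x : Big) * ((1 : A1) ⊗ₖ (N * N)) * ((x⁻¹ : G) : Big) := by
    rw [hXdef]
    calc (x : Big) * ((1 : A1) ⊗ₖ N) * ((x⁻¹ : G) : Big) * ((x : Big) * ((1 : A1) ⊗ₖ N) * ((x⁻¹ : G) : Big))
        = (x : Big) * ((1 : A1) ⊗ₖ N) * (((x⁻¹ : G) : Big) * (x : Big)) * ((1 : A1) ⊗ₖ N) * ((x⁻¹ : G) : Big) := by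
          simp only [Matrix.mul_assoc]
      _ = _ := by
          rw [hinv, mul_one, Matrix.mul_assoc (x : Big), ← Matrix.mul_kronecker_mul, one_mul]
  have hconj : ∀ Z : Big, ((x : Big) * Z * ((x⁻¹ : G) : Big)).rank = Z.rank := fun Z => by
    rw [Matrix.rank_mul_eq_left_of_det_ne_zero _ _ (GeneralLinearGroup.det_ne_zero _),
      Matrix.rank_mul_eq_right_of_det_ne_zero _ _ (GeneralLinearGroup.det_ne_zero _)]
  have hrk1 : X.rank = 2 * m := by
    rw [hXdef, hconj, Matrix.rank, finrank_one_kron, hN, eN_range_eq D hs, finrank_plane hs.ne hs.indep, mul_comm]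
  have hrk2 : (X * X).rank = m := by
    rw [hX2', hconj, Matrix.rank, finrank_one_kron, hN, eN_sq_range D hs hzz, finrank_span_singleton hs.ne,
      mul_one]
  have hXt : ∀ u w, X *ᵥ tens u w = tens (A *ᵥ u) (w + Bm *ᵥ w) + tens u (Bm *ᵥ w) := fun u w => by
    rw [hX, add_mulVec, add_mulVec, kron_mulVec_tens, kron_mulVec_tens, kron_mulVec_tens, one_mulVec, one_mulVec,
      tens_add_right]
    abel
  have hXXt : ∀ u w, (X * X) *ᵥ tens u w =
      tens (A *ᵥ (A *ᵥ u)) (w + Bm *ᵥ w + Bm *ᵥ (w + Bm *ᵥ w)) +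
        (2 : F) • tens (A *ᵥ u) (Bm *ᵥ (w + Bm *ᵥ w)) + tens u (Bm *ᵥ (Bm *ᵥ w)) := fun u w => by
    rw [← mulVec_mulVec, hXt, mulVec_add, hXt, hXt]
    simp only [mulVec_add, tens_add_right]
    module
  -- the first factor has no long chain
  have hAA : A * A = 0 := by
    by_contra hAA
    obtain ⟨u, hu⟩ := mulVec_sq_ne hAA
    obtain ⟨χ, hχ, hχu⟩ : ∃ χ : V1, (∀ t ∈ plane u (A *ᵥ u), χ ⬝ᵥ t = 0) ∧
        χ ⬝ᵥ (A *ᵥ (A *ᵥ u)) = 1 := by
      refine exists_functional fun h => ?_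
      obtain ⟨α, β, h'⟩ := mem_plane.1 h
      have := (coeff3 hAp hu (α := α) (β := β) (γ := -1) (by rw [h']; module)).2.2
      exact one_ne_zero (neg_eq_zero.1 this)
    let R' : V2 →ₗ[F] Vec :=
      { toFun := fun w => (X * X) *ᵥ tens u w
        map_add' := fun w w' => by rw [tens_add_right, mulVec_add]
        map_smul' := fun c w => by rw [RingHom.id_apply, tens_smul_right, mulVec_smul] }
    have hinj : Function.Injective R' := by
      rw [injective_iff_map_eq_zero]
      intro w hw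
      have e1 : ctr1 χ ((X * X) *ᵥ tens u w) = 0 := by
        rw [show (X * X) *ᵥ tens u w = 0 from hw]; ext d; simp [ctr1]
      have hu0 := hχ u (left_mem_plane _ _)
      have hu1 := hχ _ (right_mem_plane u (A *ᵥ u))
      rw [hXXt, ctr1_add, ctr1_add, ctr1_smul, ctr1_tens, ctr1_tens, ctr1_tens, hu0, hu1, hχu,
        one_smul, zero_smul, zero_smul, smul_zero, add_zero, add_zero] at e1
      have hb : (1 + Bm) * (1 + Bm) = ((1 + Bm) ^ 2) := (pow_two _).symm
      have hz : (1 + Bm) *ᵥ ((1 + Bm) *ᵥ w) = 0 := by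
        rw [← e1]; simp only [add_mulVec, one_mulVec]
      have hun : IsUnit (1 + Bm) := IsNilpotent.isUnit_one_add ⟨p, hBp⟩
      have hi := Matrix.mulVec_injective_iff_isUnit.2 hun
      exact hi (a₂ := 0) (by rw [mulVec_zero]; exact hi (a₂ := 0) (by rw [mulVec_zero]; exact hz))
    have hRle : LinearMap.range R' ≤ LinearMap.range (X * X).mulVecLin := by
      rintro _ ⟨w, rfl⟩; exact ⟨tens u w, rfl⟩
    have hRk : Module.finrank F (LinearMap.range R') = k := by
      rw [LinearMap.finrank_range_of_inj hinj, Module.finrank_fin_fun]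
    have hkm : k = m := by
      have h := Submodule.finrank_mono hRle
      rw [hRk] at h
      have : Module.finrank F (LinearMap.range (X * X).mulVecLin) = m := hrk2
      omega
    have hε : ε = -1 := hne.resolve_left (by omega)
    have hReq : LinearMap.range R' = LinearMap.range (X * X).mulVecLin :=
      Submodule.eq_of_le_of_finrank_le hRle (by rw [hRk]; exact hrk2.le.trans hkm.ge)
    by_cases hBB : Bm * Bm = 0
    · by_cases hB0 : Bm = 0
      · -- an alternating form forbids this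
        refine hAA (sq_eq_zero_of_alt D.h1 hε h2 hA1 ?_ ?_)
        · have hX0 : X = A ⊗ₖ (1 : A2) := by
            rw [hX, hB0, kronecker_zero, kronecker_zero, zero_add, add_zero]
          have h3 : X * X * X = 0 := by
            rw [hX2', hXdef]
            have hN3 : N * N * N = 0 := Matrix.mulVec_injective (funext fun w => by
              rw [← mulVec_mulVec, ← mulVec_mulVec, hN, eN_comp D.sym hs.iso hs.orth hs.orth, zero_mulVec,
                eN_mulVec D.sym v z w]
              simp only [D.sym.subL, D.sym.smulL, hs.iso, hs.orth]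
              simp)
            calc _ = (x : Big) * ((1 : A1) ⊗ₖ (N * N)) * (((x⁻¹ : G) : Big) * (x : Big)) *
                  ((1 : A1) ⊗ₖ N) * ((x⁻¹ : G) : Big) := by simp only [Matrix.mul_assoc]
              _ = 0 := by
                rw [hinv, mul_one, Matrix.mul_assoc (x : Big), ← Matrix.mul_kronecker_mul, one_mul, hN3,
                  kronecker_zero, mul_zero, zero_mul]
          rw [hX0, ← Matrix.mul_kronecker_mul, ← Matrix.mul_kronecker_mul, one_mul, one_mul] at h3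
          ext i j
          simpa [kroneckerMap_apply] using congrFun (congrFun h3 (i, ⟨0, by omega⟩)) (j, ⟨0, by omega⟩)
        · have h := hrk2
          rw [hX, hB0, kronecker_zero, kronecker_zero, zero_add, add_zero, ← Matrix.mul_kronecker_mul, one_mul,
            ← rank_swap, Matrix.rank, finrank_one_kron] at h
          by_contra hc
          nlinarith
      · have h := rank_gt (A := Bm) (B := A) hB0 hBB (by omega) (by omega) (two_le_rank hAp hAA)
        rw [rank_swap3, ← hX, hrk1] at h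
        omega
    · obtain ⟨w0, hw0⟩ := mulVec_sq_ne hBB
      obtain ⟨θ, hθn, hθ⟩ := exists_common_zero_not_mem (⊥ : Submodule F V1) ![u, A *ᵥ u, A *ᵥ (A *ᵥ u)]
        (by rw [finrank_bot, Fintype.card_fin]; omega)
      refine hθn ((Submodule.mem_bot F).2 (funext fun i => ?_))
      obtain ⟨w, hw⟩ : (X * X) *ᵥ tens (Pi.single i 1) w0 ∈ LinearMap.range R' := hReq ▸ ⟨_, rfl⟩
      have e1 := congrArg (ctr1 θ) (show (X * X) *ᵥ tens u w = _ from hw)
      have g0 : θ ⬝ᵥ u = 0 := by rw [dotProduct_comm]; exact hθ 0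
      have g1 : θ ⬝ᵥ A *ᵥ u = 0 := by rw [dotProduct_comm]; exact hθ 1
      have g2 : θ ⬝ᵥ A *ᵥ (A *ᵥ u) = 0 := by rw [dotProduct_comm]; exact hθ 2
      simp only [hXXt, ctr1_add, ctr1_smul, ctr1_tens, g0, g1, g2, zero_smul, smul_zero, add_zero] at e1
      rw [dotProduct_single, mul_one, eq_comm] at e1
      simp only [mulVec_add] at e1
      set α := θ ⬝ᵥ A *ᵥ (A *ᵥ Pi.single i 1)
      set β := θ ⬝ᵥ A *ᵥ Pi.single i 1
      obtain ⟨ha, hb, hc⟩ := coeff3 hBp hw0 (α := α) (β := 2 * α + 2 * β) (γ := α + 2 * β + θ i)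
        (by rw [← e1]; module)
      rw [ha] at hb hc
      have hβ0 : β = 0 := by
        have : (2 : F) * β = 0 := by linear_combination hb
        exact (mul_eq_zero.1 this).resolve_left h2
      show θ i = 0
      linear_combination hc - 2 * hβ0
  -- the second factor carries everything
  have hA0 : A = 0 := by
    by_contra hA0
    by_cases hB0 : Bm = 0
    · have h := hrk2
      rw [hX, hB0, kronecker_zero, kronecker_zero, zero_add, add_zero, ← Matrix.mul_kronecker_mul, hAA,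
        zero_kronecker, Matrix.rank_zero] at h
      omega
    · have h := rank_gt (A := A) (B := Bm) hA0 hAA hk5 (by omega) (two_le_rank_orth D.sym hB1 ⟨p, hBp⟩ hB0)
      rw [← hX, hrk1] at h
      omega
  have hX2 : X * X = (1 : A1) ⊗ₖ (Bm * Bm) := by
    rw [hX, hA0, zero_kronecker, zero_kronecker, zero_add, zero_add, ← Matrix.mul_kronecker_mul, one_mul]
  have hr1 : Module.finrank F (LinearMap.range (Bm * Bm).mulVecLin) = 1 := by
    have h := hrk2
    rw [hX2, Matrix.rank, finrank_one_kron] at h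
    exact Nat.eq_of_mul_eq_mul_left (show 0 < m by omega) (h.trans (mul_one m).symm)
  obtain ⟨⟨v', hv'm⟩, hv'0, hv'⟩ := finrank_eq_one_iff'.1 hr1
  have hv'ne : v' ≠ 0 := fun e => hv'0 (Subtype.ext e)
  have hLn : LinearMap.range (Bm * Bm).mulVecLin ≤ Submodule.span F {v'} := fun t ht => by
    obtain ⟨c, hc⟩ := hv' ⟨t, ht⟩
    exact Submodule.mem_span_singleton.2 ⟨c, congrArg Subtype.val hc⟩
  have himg : ∀ a, ∃ a', (x : Big) *ᵥ tens a v = tens a' v' := fun a => by
    obtain ⟨w, hw⟩ : v ∈ LinearMap.range (N * N).mulVecLin := by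
      rw [hN, eN_sq_range D hs hzz]; exact Submodule.mem_span_singleton_self v
    have e : (x : Big) *ᵥ tens a v = (X * X) *ᵥ ((x : Big) *ᵥ tens a w) := by
      rw [mulVec_mulVec, hX2', Matrix.mul_assoc, hinv, mul_one, ← mulVec_mulVec, tens_mul,
        show (N * N) *ᵥ w = v from hw]
    refine mem_Tn_line (Tn_mono hLn ?_)
    rw [e, hX2, ← range_one_kron]
    exact ⟨_, rfl⟩
  refine ⟨v', hv'ne, ?_, himg⟩
  choose C hC using himg
  let L : V1 →ₗ[F] V1 :=
    { toFun := C
      map_add' := fun a b => tens_injective hv'ne (by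
        show tens (C (a + b)) v' = tens (C a + C b) v'
        rw [tens_add_left, ← hC, ← hC, ← hC, tens_add_left, mulVec_add])
      map_smul' := fun c a => tens_injective hv'ne (by
        show tens (C (c • a)) v' = tens (c • C a) v'
        rw [tens_smul_left, ← hC, ← hC, tens_smul_left, mulVec_smul]) }
  have hCi : Function.Injective L := fun a b e =>
    tens_injective hs.ne (gl_mulVec_injective x (show (x : Big) *ᵥ tens a v = (x : Big) *ᵥ tens b v by
      rw [hC, hC, show C a = C b from e]))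
  obtain ⟨p1, q1, hpq⟩ := D.exists_pair
  obtain ⟨a, rfl⟩ := LinearMap.injective_iff_surjective.1 hCi p1
  obtain ⟨b, rfl⟩ := LinearMap.injective_iff_surjective.1 hCi q1
  have h := D.iso x hx (tens a v) (tens b v)
  rw [hC, hC, D.B_tens, D.B_tens, hs.iso, zero_mul] at h
  exact (mul_eq_zero.1 h).resolve_right hpq

end Cfsg.Agent.Lib.TensorOrthMax.Fusion
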