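import Cfsg.Agent.Lib.TensorOrthMax.Fusion

/-!
An element carrying the block of an isotropic vector onto such a block lies in the stabiliser, when the group
meets the unipotent radicals of the block stabilisers inside it.
-/

set_option autoImplicit false

namespace Cfsg.Agent.Lib.TensorOrthMax.Line

open Matrix Kronecker
open Cfsg.Agent.Lib.Subspaces.Transvection Cfsg.Agent.Lib.Subspaces.FormVec
  Cfsg.Agent.Lib.TensorMax.Block Cfsg.Agent.Lib.TensorMax.Lemmas Cfsg.Agent.Lib.TensorFormMax.Basic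
  Cfsg.Agent.Lib.TensorOrthMax.Side Cfsg.Agent.Lib.TensorOrthMax.Setup

variable {F : Type*} [Field F] {m k : ℕ}

local notation "V1" => Fin m → F
local notation "V2" => Fin k → F
local notation "Vec" => Fin m × Fin k → F
local notation "Big" => Matrix (Fin m × Fin k) (Fin m × Fin k) F
local notation "A1" => Matrix (Fin m) (Fin m) F
local notation "A2" => Matrix (Fin k) (Fin k) F
local notation "G" => GL (Fin m × Fin k) F

variable {ε : F} {f₁ : (Fin m → F) → (Fin m → F) → F} {f₂ : (Fin k → F) → (Fin k → F) → F}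
  {B : (Fin m × Fin k → F) → (Fin m × Fin k → F) → F} {M : Subgroup (GL (Fin m × Fin k) F)}

/-- `x` carries the block of `v` to that of `v'` by `C`. -/
def Pure (x : GL (Fin m × Fin k) F) (C : (Fin m → F) →ₗ[F] (Fin m → F)) (v v' : Fin k → F) : Prop :=
  ∀ a, (x : Matrix (Fin m × Fin k) (Fin m × Fin k) F) *ᵥ tens a v = tens (C a) v'

theorem Pure.injective {x : G} {C : V1 →ₗ[F] V1} {v v' : V2} (h : Pure x C v v') (hv : v ≠ 0) :
    Function.Injective C := fun a b e =>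
  tens_injective hv (gl_mulVec_injective x (show (x : Big) *ᵥ tens a v = (x : Big) *ᵥ tens b v by rw [h, h, e]))

theorem Pure.surjective {x : G} {C : V1 →ₗ[F] V1} {v v' : V2} (h : Pure x C v v') (hv : v ≠ 0) :
    Function.Surjective C :=
  LinearMap.injective_iff_surjective.1 (h.injective hv)

theorem Pure.ne (D : Data ε f₁ f₂ B M) {x : G} {C : V1 →ₗ[F] V1} {v v' : V2} (h : Pure x C v v') (hv : v ≠ 0) :
    v' ≠ 0 := fun e => by
  have h1 := h (Pi.single ⟨0, by have := D.hm; omega⟩ 1)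
  rw [e, tens_zero_right, ← mulVec_zero (x : Big)] at h1
  have h2 := gl_mulVec_injective x h1
  rw [← tens_zero_left v] at h2
  simpa using congrFun (tens_injective hv h2) ⟨0, by have := D.hm; omega⟩

theorem Pure.iso (D : Data ε f₁ f₂ B M) {x : G} (hx : x ∈ M) {C : V1 →ₗ[F] V1} {v v' : V2}
    (h : Pure x C v v') (hv : v ≠ 0) (hvv : f₂ v v = 0) : f₂ v' v' = 0 := by
  obtain ⟨p, q, hpq⟩ := D.exists_pair
  obtain ⟨a, rfl⟩ := h.surjective hv p
  obtain ⟨b, rfl⟩ := h.surjective hv q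
  have e := D.iso x hx (tens a v) (tens b v)
  rw [h, h, D.B_tens, D.B_tens, hvv, zero_mul] at e
  exact (mul_eq_zero.1 e).resolve_right hpq

theorem perp_iff (D : Data ε f₁ f₂ B M) {x : G} (hx : x ∈ M) {C : V1 →ₗ[F] V1} {v v' : V2}
    (h : Pure x C v v') (hv : v ≠ 0) (y : Vec) :
    ctr (formVec f₂ v) y = 0 ↔ ctr (formVec f₂ v') ((x : Big) *ᵥ y) = 0 := by
  have e : ∀ u, f₁ (ctr (formVec f₂ v') ((x : Big) *ᵥ y)) (C u) = f₁ (ctr (formVec f₂ v) y) u := fun u => by
    rw [← D.hB, ← D.hB, ← h, D.iso x hx]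
  refine ⟨fun h0 => D.h1.eq_of_left fun u => ?_, fun h0 => D.h1.eq_of_left fun u => ?_⟩
  · obtain ⟨u, rfl⟩ := h.surjective hv u
    rw [e, h0, form_zero_left D.h1.lin, form_zero_left D.h1.lin]
  · rw [← e, h0, form_zero_left D.h1.lin, form_zero_left D.h1.lin]

theorem eN_tens (D : Data ε f₁ f₂ B M) (v z : V2) (y : Vec) :
    ((1 : A1) ⊗ₖ eN f₂ v z) *ᵥ y = tens (ctr (formVec f₂ z) y) v - tens (ctr (formVec f₂ v) y) z
      - tens ((f₂ z z / 2) • ctr (formVec f₂ v) y) v := by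
  funext ⟨i, d⟩
  have h1 := congrFun (slice_one_kron (eN f₂ v z) y i) d
  rw [eN_mulVec D.sym] at h1
  simp only [Pi.sub_apply, tens, Pi.smul_apply, smul_eq_mul, ctr_eq_dot, D.sym.dot] at h1 ⊢
  exact h1

theorem mem_line (D : Data ε f₁ f₂ B M) [Finite F] {v w : V2}
    (h : ∀ s, f₂ s v = 0 → f₂ s w = 0) : w ∈ Submodule.span F {v} := by
  by_contra hw
  obtain ⟨t, ht, htw⟩ := D.sym.dual hw
  rw [h t (ht v (Submodule.mem_span_singleton_self v))] at htw
  exact zero_ne_one htw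

variable [Finite F]

omit [Finite F] in
theorem exists_psi (D : Data ε f₁ f₂ B M) (hNR : NoRadical f₂ M) {x : G} (hx : x ∈ M) {C : V1 →ₗ[F] V1}
    {v v' : V2} (h : Pure x C v v') (hv : v ≠ 0) (hvv : f₂ v v = 0) {z : V2} (hzv : f₂ z v = 0) :
    ∃ ψ : V2, ∀ y, ctr (formVec f₂ v) y = 0 →
      C (ctr (formVec f₂ z) y) = ctr ψ ((x : Big) *ᵥ y) := by
  have hm := D.hm
  obtain ⟨R, hRM, -, hR⟩ := D.exists_eich hvv hzv
  set w : G := x * R * x⁻¹ with hwdef
  have hwM : w ∈ M := M.mul_mem (M.mul_mem hx hRM) (M.inv_mem hx)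
  have hwx : ∀ y, (w : Big) *ᵥ ((x : Big) *ᵥ y) = (x : Big) *ᵥ ((R : Big) *ᵥ y) := fun y => by
    rw [hwdef, gl_mul_mulVec, gl_inv_mulVec, gl_mul_mulVec]
  have hfix : ∀ u, (w : Big) *ᵥ tens u v' = tens u v' := fun u => by
    obtain ⟨u, rfl⟩ := h.surjective hv u
    rw [← h, hwx, D.mul_kron_right hR hvv hzv]
  have hperp : ∀ y, ctr (formVec f₂ v) y = 0 →
      (w : Big) *ᵥ ((x : Big) *ᵥ y) - (x : Big) *ᵥ y = tens (C (ctr (formVec f₂ z) y)) v' := fun y hy => by
    rw [hwx, D.eich_apply hR, mulVec_add, add_sub_cancel_left, eN_tens D, hy, smul_zero, tens_zero_left,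
      tens_zero_left, sub_zero, sub_zero, h]
  have hv' := h.ne D hv
  obtain ⟨a, b, hab⟩ := hNR v' hv' (h.iso D hx hv hvv) w hwM hfix fun t ht => by
    obtain ⟨y, rfl⟩ : ∃ y, (x : Big) *ᵥ y = t := ⟨_, gl_mulVec_inv x t⟩
    exact ⟨_, hperp y ((perp_iff D hx h hv y).2 ht)⟩
  obtain ⟨η, hη⟩ := exists_dot_eq_one hv'
  have hsc : ∀ u, (η ⬝ᵥ (b : A2) *ᵥ v') • ((a : A1) *ᵥ u) = u := fun u => by
    have := hfix u
    rw [hab, kron_mulVec_tens] at this
    have := congrArg (ctr η) this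
    rwa [ctr_tens, ctr_tens, hη, one_smul] at this
  set μ := η ⬝ᵥ (b : A2) *ᵥ v'
  have hμ : μ ≠ 0 := fun e => by
    have := hsc (Pi.single ⟨0, by omega⟩ 1)
    rw [e, zero_smul] at this
    simpa using congrFun this ⟨0, by omega⟩
  set N : A2 := μ⁻¹ • (b : A2) - 1
  have hwN : (w : Big) - 1 = (1 : A1) ⊗ₖ N := by
    have ha : (a : A1) = μ⁻¹ • 1 := Matrix.mulVec_injective (funext fun u => by
      rw [smul_mulVec, one_mulVec, eq_inv_smul_iff₀ hμ]; exact hsc u)
    rw [hab, ha, smul_kronecker, ← kronecker_smul, eq_comm, eq_sub_iff_add_eq, ← one_kronecker_one,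
      ← kronecker_add, sub_add_cancel]
  refine ⟨η ᵥ* N, fun y hy => ?_⟩
  have h1 := congrArg (ctr η) (hperp y hy)
  rw [ctr_tens, hη, one_smul] at h1
  rw [← h1, ← one_mulVec ((x : Big) *ᵥ y), mulVec_mulVec, mul_one, ← sub_mulVec, hwN, one_mulVec]
  funext i
  rw [ctr_eq_dot, ctr_eq_dot, slice_one_kron, dotProduct_mulVec]

/-- Blocks orthogonal to the block of `v` are moved by the same map modulo the image block. -/
theorem step (D : Data ε f₁ f₂ B M) (hNR : NoRadical f₂ M) {x : G} (hx : x ∈ M) {C : V1 →ₗ[F] V1}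
    {v v' : V2} (h : Pure x C v v') (hv : v ≠ 0) (hvv : f₂ v v = 0) {t : V2} (htv : f₂ t v = 0) :
    ∃ (t' : V2) (E : V1 → V1), f₂ t' v' = 0 ∧
      ∀ u, (x : Big) *ᵥ tens u t = tens (C u) t' + tens (E u) v' := by
  have hm := D.hm
  have hv' := h.ne D hv
  set i0 : Fin m := ⟨0, by omega⟩
  obtain ⟨u0, hu0⟩ := h.surjective hv (Pi.single i0 1)
  set t' : V2 := slice ((x : Big) *ᵥ tens u0 t) i0 with ht'def
  have hD0 : ∀ u, ctr (formVec f₂ v) (tens u t) = 0 := fun u => by rw [D.ctr_form_tens, htv, zero_smul]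
  have hsl : ∀ u i, f₂ (slice ((x : Big) *ᵥ tens u t) i) v' = 0 := fun u i =>
    (D.ctr_eq_zero_iff.1 ((perp_iff D hx h hv _).1 (hD0 u))) i
  have hkill : ∀ w, f₂ w v' = 0 → (∀ z, f₂ z v = 0 → ∀ ψ : V2, (∀ y, ctr (formVec f₂ v) y = 0 →
      C (ctr (formVec f₂ z) y) = ctr ψ ((x : Big) *ᵥ y)) → ψ ⬝ᵥ w = 0) → w ∈ Submodule.span F {v'} := by
    intro w hw hk
    set y := ((x⁻¹ : G) : Big) *ᵥ tens (Pi.single i0 1 : V1) w with hydef
    have hxy : (x : Big) *ᵥ y = tens (Pi.single i0 1) w := gl_mulVec_inv x _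
    have hy0 : ctr (formVec f₂ v) y = 0 := by rw [perp_iff D hx h hv, hxy, D.ctr_form_tens, hw, zero_smul]
    have hs : ∀ i, slice y i ∈ Submodule.span F {v} := fun i => by
      refine mem_line D fun z hzv => ?_
      obtain ⟨ψ, hψ⟩ := exists_psi D hNR hx h hv hvv hzv
      have e := hψ y hy0
      rw [hxy, ctr_tens, hk z hzv ψ hψ, zero_smul, ← map_zero C] at e
      rw [D.sym.comm]
      exact (D.ctr_eq_zero_iff.1 (h.injective hv e)) i
    obtain ⟨α, hα⟩ := mem_Tn_line hs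
    rw [hα, h] at hxy
    refine Submodule.mem_span_singleton.2 ⟨C α i0, funext fun d => ?_⟩
    have := congrFun hxy (i0, d)
    simpa [tens] using this
  have hstep : ∀ u i, slice ((x : Big) *ᵥ tens u t) i - C u i • t' ∈ Submodule.span F {v'} := by
    intro u i
    refine hkill _ ?_ fun z hzv ψ hψ => ?_
    · rw [D.sym.subL, D.sym.smulL, hsl, ht'def, hsl, mul_zero, sub_zero]
    · have e : ∀ u i, ψ ⬝ᵥ slice ((x : Big) *ᵥ tens u t) i = f₂ t z * C u i := fun u i => by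
        have := congrFun (hψ _ (hD0 u)) i
        rw [D.ctr_form_tens, map_smul] at this
        exact this.symm
      rw [dotProduct_sub, dotProduct_smul, ht'def, e, e, hu0, Pi.single_eq_same, mul_one, smul_eq_mul, mul_comm,
        sub_self]
  choose E hE using fun u i => Submodule.mem_span_singleton.1 (hstep u i)
  refine ⟨t', E, hsl u0 i0, fun u => ?_⟩
  ext ⟨i, d⟩
  have e : E u i * v' d = ((x : Big) *ᵥ tens u t) (i, d) - C u i * t' d := congrFun (hE u i) d
  simp only [Pi.add_apply, tens]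
  linear_combination -e

/-- An isotropic block orthogonal to the block of `v` goes to a block by the same map. -/
theorem pure_orth (D : Data ε f₁ f₂ B M) (hne : m < k ∨ ε = -1) (hNR : NoRadical f₂ M) {x : G} (hx : x ∈ M)
    {C : V1 →ₗ[F] V1} {v v' : V2} (h : Pure x C v v') (hv : v ≠ 0) (hvv : f₂ v v = 0) {s : V2}
    (hsv : f₂ s v = 0) (hss : f₂ s s = 0) : ∃ s', Pure x C s s' := by
  have hm := D.hm
  have hf := D.sym
  by_cases hmem : s ∈ Submodule.span F {v}
  · obtain ⟨c, rfl⟩ := Submodule.mem_span_singleton.1 hmem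
    exact ⟨c • v', fun a => by rw [tens_smul_right, mulVec_smul, h, tens_smul_right]⟩
  have hs0 : s ≠ 0 := fun e => hmem (by rw [e]; exact Submodule.zero_mem _)
  obtain ⟨r, hrv, hrs, hrr⟩ := hf.exists_aniso_pair D.hk v s
  have hv' := h.ne D hv
  have hv'v' := h.iso D hx hv hvv
  obtain ⟨s', Es, hs'v, hxs⟩ := step D hNR hx h hv hvv hsv
  obtain ⟨r', Er, hr'v, hxr⟩ := step D hNR hx h hv hvv hrv
  have hBp : ∀ {t t' : V2} {E : V1 → V1}, f₂ t' v' = 0 →
      (∀ u, (x : Big) *ᵥ tens u t = tens (C u) t' + tens (E u) v') → ∀ {w w' : V2} {E' : V1 → V1}, f₂ w' v' = 0 →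
      (∀ u, (x : Big) *ᵥ tens u w = tens (C u) w' + tens (E' u) v') →
      ∀ a b, f₂ t' w' * f₁ (C a) (C b) = f₂ t w * f₁ a b := by
    intro t t' E ht he w w' E' hw he' a b
    have e := D.iso x hx (tens a t) (tens b w)
    rw [he, he', D.lin.add_left, D.addR, D.addR, D.B_tens, D.B_tens, D.B_tens, D.B_tens, D.B_tens, ht, hv'v',
      hf.comm w' v', hw, zero_mul, zero_mul, zero_mul, add_zero, add_zero, add_zero] at e
    exact e
  obtain ⟨a0, b0, hab⟩ := D.exists_pair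
  set μ := f₁ a0 b0 / f₁ (C a0) (C b0) with hμdef
  have hC0 : f₁ (C a0) (C b0) ≠ 0 := fun e => by
    have := hBp hr'v hxr hr'v hxr a0 b0
    rw [e, mul_zero, eq_comm, mul_eq_zero] at this
    exact this.elim hrr hab
  have hμ0 : μ ≠ 0 := div_ne_zero hab hC0
  have hf' : ∀ {t t' : V2} {E : V1 → V1}, f₂ t' v' = 0 →
      (∀ u, (x : Big) *ᵥ tens u t = tens (C u) t' + tens (E u) v') → ∀ {w w' : V2} {E' : V1 → V1}, f₂ w' v' = 0 →
      (∀ u, (x : Big) *ᵥ tens u w = tens (C u) w' + tens (E' u) v') → f₂ t' w' = μ * f₂ t w := by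
    intro t t' E ht he w w' E' hw he'
    have := hBp ht he hw he' a0 b0
    rw [hμdef]
    field_simp
    linear_combination this
  have hs's' : f₂ s' s' = 0 := by rw [hf' hs'v hxs hs'v hxs, hss, mul_zero]
  have hr's' : f₂ r' s' = 0 := by rw [hf' hr'v hxr hs'v hxs, hrs, mul_zero]
  have hr'r' : f₂ r' r' = μ * f₂ r r := hf' hr'v hxr hr'v hxr
  have hsim : ∀ a b, f₁ (C a) (C b) = μ⁻¹ * f₁ a b := fun a b => by
    have := hBp hr'v hxr hr'v hxr a b
    rw [hr'r'] at this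
    rw [eq_inv_mul_iff_mul_eq₀ hμ0]
    exact mul_left_cancel₀ hrr (by linear_combination this)
  have hctr : ∀ {t t' : V2} {E : V1 → V1}, (∀ u, (x : Big) *ᵥ tens u t = tens (C u) t' + tens (E u) v') →
      ∀ y, ctr (formVec f₂ v) y = 0 →
      C (ctr (formVec f₂ t) y) = μ⁻¹ • ctr (formVec f₂ t') ((x : Big) *ᵥ y) := by
    intro t t' E he y hy
    refine D.h1.eq_of_left fun u => ?_
    obtain ⟨u, rfl⟩ := h.surjective hv u
    rw [hsim, D.h1.lin.smul_left, ← D.hB y u t, ← D.iso x hx, he, D.addR, D.hB, D.hB, (perp_iff D hx h hv y).1 hy,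
      form_zero_left D.h1.lin, add_zero]
  obtain ⟨R, hRM, -, hR⟩ := D.exists_eich hss hrs
  obtain ⟨R1, hR1M, hR1k, hR1⟩ := D.exists_eich (v := s') (z := μ⁻¹ • r') hs's'
    (by rw [hf.smulL, hr's', mul_zero])
  set w : G := x * R * x⁻¹ with hwdef
  have hwM : w ∈ M := M.mul_mem (M.mul_mem hx hRM) (M.inv_mem hx)
  have hwx : ∀ y, (w : Big) *ᵥ ((x : Big) *ᵥ y) = (x : Big) *ᵥ ((R : Big) *ᵥ y) := fun y => by
    rw [hwdef, gl_mul_mulVec, gl_inv_mulVec, gl_mul_mulVec]
  have hR1v : ∀ u, (R1 : Big) *ᵥ tens u v' = tens u v' := fun u => by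
    refine D.eich_fix hR1 fun i => ⟨?_, ?_⟩
    · show f₂ (u i • v') s' = 0
      rw [hf.smulL, hf.comm s' v', hs'v, mul_zero]
    · show f₂ (u i • v') (μ⁻¹ • r') = 0
      rw [hf.smulL, hf.smulR, hf.comm r' v', hr'v, mul_zero, mul_zero]
  have hfix : ∀ u, ((R1⁻¹ * w : G) : Big) *ᵥ tens u v' = tens u v' := fun u => by
    obtain ⟨u, rfl⟩ := h.surjective hv u
    rw [gl_mul_mulVec, ← h, hwx, D.eich_fix hR fun i => ⟨by
        show f₂ (u i • v) s = 0
        rw [hf.smulL, hf.comm s v, hsv, mul_zero], by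
        show f₂ (u i • v) r = 0
        rw [hf.smulL, hf.comm r v, hrv, mul_zero]⟩, h]
    exact gl_mulVec_injective R1 (show (R1 : Big) *ᵥ _ = (R1 : Big) *ᵥ _ by rw [gl_mulVec_inv, hR1v])
  have hperpfix : ∀ t, ctr (formVec f₂ v') t = 0 →
      ∃ a, ((R1⁻¹ * w : G) : Big) *ᵥ t - t = tens a v' := fun t ht => by
    obtain ⟨y, rfl⟩ : ∃ y, (x : Big) *ᵥ y = t := ⟨_, gl_mulVec_inv x t⟩
    have hy := (perp_iff D hx h hv y).2 ht
    set cs := ctr (formVec f₂ s) y with hcs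
    set cr := ctr (formVec f₂ r) y with hcr
    refine ⟨Es cr - Er cs - Es ((f₂ r r / 2) • cs), ?_⟩
    rw [gl_mul_mulVec, hwx, D.eich_apply hR, mulVec_add, sub_eq_iff_eq_add']
    refine gl_mulVec_injective R1 (show (R1 : Big) *ᵥ _ = (R1 : Big) *ᵥ _ from ?_)
    rw [gl_mulVec_inv, mulVec_add, hR1v, eN_tens D s r, D.eich_apply hR1, eN_tens D s' (μ⁻¹ • r'),
      mulVec_sub, mulVec_sub, ← hcs, ← hcr, hxs, hxr, hxs, map_smul, hctr hxr y hy, hctr hxs y hy,
      hf.smulL, hf.smulR, hr'r']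
    have hctrsmul : ctr (formVec f₂ (μ⁻¹ • r')) ((x : Big) *ᵥ y) = μ⁻¹ • ctr (formVec f₂ r') ((x : Big) *ᵥ y) :=
      funext fun i => by
        rw [Pi.smul_apply, ctr_eq_dot, ctr_eq_dot, hf.dot, hf.dot, hf.smulR, smul_eq_mul]
    rw [hctrsmul]
    simp only [tens_smul_left, tens_smul_right, tens_sub_left]
    match_scalars <;> field_simp
  have hk := hNR v' hv' hv'v' _ (M.mul_mem (M.inv_mem hR1M) hwM) hfix hperpfix
  have hwk : x * R * x⁻¹ ∈ Cfsg.Geo.kroneckerSubgroup m k F := by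
    have := Subgroup.mul_mem _ hR1k hk
    rwa [mul_inv_cancel_left] at this
  have hsr : Seed f₂ s r := ⟨hs0, hss, hrs, fun e => hrr (by
    obtain ⟨c, rfl⟩ := Submodule.mem_span_singleton.1 e
    exact hf.iso_smul hss c)⟩
  obtain ⟨s'', hs''0, -, hs''⟩ := Fusion.fusion D hne hx hsr hrr hRM hR hwk
  choose a' ha' using hs''
  obtain ⟨a1, ha1⟩ : ∃ a1 : V1, a1 ≠ 0 := ⟨Pi.single ⟨0, by omega⟩ 1, by simp⟩
  obtain ⟨a1, rfl⟩ := h.surjective hv a1
  have hsum : ∀ u, tens (C u) s' + tens (Es u) v' = tens (a' u) s'' := fun u => by rw [← hxs, ha']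
  have hindep : s' ∉ Submodule.span F {v'} := by
    intro e
    obtain ⟨t, ht⟩ := Submodule.mem_span_singleton.1 e
    set u : V1 := Pi.single ⟨0, by omega⟩ 1 with hu
    obtain ⟨a, ha⟩ := h.surjective hv (t • C u + Es u)
    have h1 : (x : Big) *ᵥ tens u s = (x : Big) *ᵥ tens a v := by
      rw [hxs, h, ha, tens_add_left, ← ht, tens_smul_right, tens_smul_left]
    have h2 := gl_mulVec_injective x h1
    refine hmem (Submodule.mem_span_singleton.2 ⟨a ⟨0, by omega⟩, funext fun d => ?_⟩)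
    have := congrFun h2 (⟨0, by omega⟩, d)
    simp [tens, hu] at this
    simpa using this.symm
  obtain ⟨η, hη0, hη1⟩ := exists_functional hindep
  have h1 : ∀ u, C u = (η ⬝ᵥ s'') • a' u := fun u => by
    have := congrArg (ctr η) (hsum u)
    rwa [ctr_add, ctr_tens, ctr_tens, ctr_tens, hη1, hη0 v' (Submodule.mem_span_singleton_self v'), zero_smul,
      add_zero, one_smul] at this
  have hne0 : η ⬝ᵥ s'' ≠ 0 := fun e => ha1 (by rw [h1, e, zero_smul])
  refine ⟨(η ⬝ᵥ s'')⁻¹ • s'', fun u => ?_⟩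
  rw [ha', h1, tens_smul_right, tens_smul_left, smul_smul, inv_mul_cancel₀ hne0, one_smul]

/-- An element carrying one isotropic block onto a block lies in the stabiliser. -/
theorem mem_of_line (D : Data ε f₁ f₂ B M) (hne : m < k ∨ ε = -1) (hNR : NoRadical f₂ M) {x : G} (hx : x ∈ M)
    {v v' : V2} (hv : v ≠ 0) (hvv : f₂ v v = 0) (hv' : v' ≠ 0)
    (himg : ∀ a, ∃ a', (x : Big) *ᵥ tens a v = tens a' v') : x ∈ Cfsg.Geo.kroneckerSubgroup m k F := by
  have hm := D.hm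
  have hk := D.hk
  have hf := D.sym
  choose C0 hC0 using himg
  let C : V1 →ₗ[F] V1 :=
    { toFun := C0
      map_add' := fun a b => tens_injective hv' (by
        show tens (C0 (a + b)) v' = tens (C0 a + C0 b) v'
        rw [tens_add_left, ← hC0, ← hC0, ← hC0, tens_add_left, mulVec_add])
      map_smul' := fun c a => tens_injective hv' (by
        show tens (C0 (c • a)) v' = tens (c • C0 a) v'
        rw [tens_smul_left, ← hC0, ← hC0, tens_smul_left, mulVec_smul]) }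
  have hp : Pure x C v v' := hC0
  let Col : Submodule F V2 :=
    { carrier := {w | ∃ w' : V2, Pure x C w w'}
      zero_mem' := ⟨0, fun u => by rw [tens_zero_right, mulVec_zero, tens_zero_right]⟩
      add_mem' := fun {a b} ⟨a', ha⟩ ⟨b', hb⟩ => ⟨a' + b', fun u => by
        rw [tens_add_right, mulVec_add, ha, hb, tens_add_right]⟩
      smul_mem' := fun d a ⟨a', ha⟩ => ⟨d • a', fun u => by
        rw [tens_smul_right, mulVec_smul, ha, tens_smul_right]⟩ }
  have hstep : ∀ {a s}, a ∈ Col → a ≠ 0 → f₂ a a = 0 → f₂ s a = 0 → f₂ s s = 0 → s ∈ Col :=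
    fun {a s} ⟨a', ha⟩ ha0 haa hsa hss => pure_orth D hne hNR hx ha ha0 haa hsa hss
  have hiso : ∀ z, f₂ z z = 0 → z ∈ Col := fun z hzz => by
    by_cases hd : f₂ z v = 0
    · exact hstep ⟨v', hp⟩ hv hvv hd hzz
    obtain ⟨t, ht0, htt, htv, htz⟩ := hf.exists_iso_common hk hv hvv hzz hd
    exact hstep (hstep ⟨v', hp⟩ hv hvv htv htt) ht0 htt (by rw [hf.comm, htz]) hzz
  have htop : Col = ⊤ := by
    by_contra hne'
    have hlt : Module.finrank F Col < k := by
      have := Submodule.finrank_lt hne'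
      rwa [Module.finrank_fin_fun] at this
    obtain ⟨t, htt, ht⟩ := hf.exists_iso_not_mem hk Col hlt
    exact ht (hiso t htt)
  choose N hN using fun w : V2 => (htop ▸ Submodule.mem_top : w ∈ Col)
  set Nm : A2 := Matrix.of fun d e => N (Pi.single e 1) d
  set Cm : A1 := LinearMap.toMatrix' C
  have hgN : (x : Big) = Cm ⊗ₖ Nm := by
    refine Matrix.ext fun p q => ?_
    obtain ⟨i, d⟩ := p
    obtain ⟨j, e⟩ := q
    have := congrFun (hN (Pi.single e 1) (Pi.single j 1)) (i, d)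
    rw [show tens (Pi.single j (1 : F)) (Pi.single e 1) = Pi.single (j, e) 1 by
      ext ⟨a, b⟩; simp only [tens, Pi.single_apply, Prod.mk.injEq]; split_ifs <;> simp_all,
      mulVec_single_one] at this
    rw [kroneckerMap_apply, show Cm i j = C (Pi.single j 1) i by simp [Cm, LinearMap.toMatrix'_apply]]
    exact this
  have hd := GeneralLinearGroup.det_ne_zero x
  rw [hgN, det_kronecker, Fintype.card_fin, Fintype.card_fin] at hd
  refine ⟨GeneralLinearGroup.mkOfDetNeZero Cm fun e => hd ?_,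
    GeneralLinearGroup.mkOfDetNeZero Nm fun e => hd ?_, hgN⟩
  · rw [e, zero_pow (by omega), zero_mul]
  · rw [e, zero_pow (by omega), mul_zero]

end Cfsg.Agent.Lib.TensorOrthMax.Line
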