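import Cfsg.Agent.Lib.TensorOrthMax.Main
import Cfsg.Agent.Lib.Subspaces.OrthSingular

/-!
The stabiliser of a tensor product of two symmetric forms is maximal in the orthogonal group of odd order.
-/

set_option autoImplicit false

namespace Cfsg.Agent.Lib.TensorOrthMax.OrthMain

open Matrix Kronecker
open Cfsg.Agent.Lib.Subspaces.Transvection Cfsg.Agent.Lib.Subspaces.FormVec
  Cfsg.Agent.Lib.TensorFormMax.Basic Cfsg.Agent.Lib.TensorOrthMax.Side

variable {F : Type*} [Field F] [Fintype F] {ι : Type} [Fintype ι] [DecidableEq ι]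

/-- A field element with square different from one. -/
theorem exists_sq_ne (h : 4 ≤ Fintype.card F) : ∃ c : F, c ≠ 0 ∧ c * c ≠ 1 := by
  classical
  obtain ⟨c, -, hc⟩ := Finset.exists_mem_notMem_of_card_lt_card (s := ({0, 1, -1} : Finset F)) (t := Finset.univ)
    (lt_of_le_of_lt Finset.card_le_three (by rw [Finset.card_univ]; omega))
  simp only [Finset.mem_insert, Finset.mem_singleton, not_or] at hc
  refine ⟨c, hc.1, fun e => ?_⟩
  rcases mul_self_eq_one_iff.1 e with e | e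
  exacts [hc.2.1 e, hc.2.2 e]

theorem maximal_orth {Q : (ι → F) → F} (hQ : Cfsg.Geo.IsNondegenerateQuadraticForm Q) (h2 : (2 : F) ≠ 0)
    (hn : 5 ≤ Fintype.card ι) (n₁ n₂ : ℕ) (hm : 3 ≤ n₁) (hk : 5 ≤ n₂) (hlt : n₁ < n₂)
    (hex : 4 ≤ n₁ ∨ 4 ≤ Fintype.card F) (e : ι ≃ Fin n₁ × Fin n₂) (P : GL ι F)
    (f₁ : (Fin n₁ → F) → (Fin n₁ → F) → F) (f₂ : (Fin n₂ → F) → (Fin n₂ → F) → F)
    (hf₁ : Cfsg.Geo.IsSymmetricForm f₁) (hf₂ : Cfsg.Geo.IsSymmetricForm f₂)
    (hminus : n₁ = 4 → ¬ Cfsg.Geo.IsPlusTypeOn (fun v : Fin n₁ → F => f₁ v v) ⊤)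
    (hT : Cfsg.Geo.IsTensorFormStructure id (QuadraticMap.polar Q) f₁ f₂ e P) :
    Cfsg.Geo.IsMaximalIn (Cfsg.Geo.omegaGL Q)
      (Cfsg.Geo.tensorProductSubgroup n₁ n₂ e P ⊓ Cfsg.Geo.omegaGL Q) := by
  have hb := hQ.polar_bilinear
  have hself := Cfsg.Agent.Lib.Subspaces.OrthForm.B_self hQ
  have hQ0 : ∀ {p}, QuadraticMap.polar Q p p = 0 → Q p = 0 := fun {p} h => by
    rw [hself] at h
    exact (mul_eq_zero.1 h).resolve_left h2
  have hhalf : ∀ w, QuadraticMap.polar Q w w / 2 = Q w := fun w => by rw [hself]; field_simp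
  have hsieg : ∀ {p w : ι → F}, QuadraticMap.polar Q p p = 0 → QuadraticMap.polar Q w p = 0 → ∀ x,
      (Cfsg.Agent.Lib.Subspaces.OrthForm.sieg Q p w : Matrix ι ι F) *ᵥ x =
        x + QuadraticMap.polar Q x p • w - (1 * QuadraticMap.polar Q x w) • p
          - (QuadraticMap.polar Q w w / 2 * QuadraticMap.polar Q x p) • p := by
    intro p w hp hw x
    rw [Cfsg.Agent.Lib.Subspaces.OrthForm.sieg_mulVec hQ (hQ0 hp) hw, hhalf]
    module
  have h1 : SForm (RingHom.id F) 1 f₁ :=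
    { invol := fun _ => rfl, lin := isLinearLeft_of_bilinear hf₁.bilinear
      swap := fun x y => by rw [RingHom.id_apply, one_mul]; exact (hf₁.symm x y).symm
      nondeg := fun v hv => (hf₁.nondegenerate v hv).1 }
  have hs1 : Sym f₁ := ⟨h1, h2⟩
  refine Main.maximal_of (ε := 1) (Or.inl rfl) h2 (QuadraticMap.polar Q) hb
    (fun x y => by rw [one_mul]; exact QuadraticMap.polar_comm Q y x) _ (fun g hg x y => ?_) (fun g hg => ?_)
    (fun g p w hp hw hg => ?_) (fun M hM => ?_) n₁ n₂ (by omega) hk hlt.le (Or.inl hlt) e P f₁ f₂ h1 hf₂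
    (fun B M D hG A => Full.allHas_orth D rfl hm ?_ ?_ hG A) hT
  · have := Cfsg.Agent.Lib.Subspaces.OmegaGL.omega_isometry hQ hg
    simp only [QuadraticMap.polar]
    rw [← mulVec_add, this, this, this]
  · refine Main.sq_mem_omega hQ h2 fun u _ => ?_
    show Q ((g : Matrix ι ι F) *ᵥ u) = Q u
    rw [← hhalf, hg, hhalf]
  · rw [show g = Cfsg.Agent.Lib.Subspaces.OrthForm.sieg Q p w from gl_ext fun x => by rw [hg, hsieg hp hw]]
    exact Cfsg.Agent.Lib.Subspaces.OmegaGL.sieg_mem_omega hQ hn (hQ0 hp) hw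
  · refine Cfsg.Agent.Lib.Subspaces.OmegaGL.omega_le hQ hn fun u w hu hw => ?_
    rcases eq_or_ne u 0 with rfl | hu0
    · convert M.one_mem using 1
      refine gl_ext fun x => ?_
      rw [Cfsg.Agent.Lib.Subspaces.OrthForm.sieg_mulVec hQ hu hw, Cfsg.Agent.Lib.Subspaces.OrthForm.zero_right hQ,
        Units.val_one, one_mulVec]
      simp
    have hp : QuadraticMap.polar Q u u = 0 := by rw [hself, hu, mul_zero]
    obtain ⟨g, hg, hgx⟩ := (hM u hu0 hp).1 w hw
    rwa [show Cfsg.Agent.Lib.Subspaces.OrthForm.sieg Q u w = g from gl_ext fun x => by rw [hgx, hsieg hp hw]]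
  · exact hex.imp id exists_sq_ne
  · intro h4 v s hv hvv hss hsv
    by_contra hn'
    refine hminus h4 ⟨plane v s, le_top, fun x hx => hs1.iso_plane hvv hss hsv hx hx, ?_⟩
    rw [finrank_plane hv hn', finrank_top, Module.finrank_fintype_fun_eq_card, Fintype.card_fin, h4]

end Cfsg.Agent.Lib.TensorOrthMax.OrthMain
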