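import Cfsg.Agent.Lib.TensorOrthMax.Rigid
import Cfsg.Agent.Lib.TensorFormMax.Radical

/-!
The radical of the stabiliser of a singular block inside an overgroup, when the larger factor is orthogonal: the
coefficient matrices available along every singular vector form a subalgebra closed under adjoints.
-/

set_option autoImplicit false

namespace Cfsg.Agent.Lib.TensorOrthMax.Radical

open Matrix Kronecker
open Cfsg.Agent.Lib.Subspaces.Transvection Cfsg.Agent.Lib.Subspaces.FormVec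
  Cfsg.Agent.Lib.TensorMax.Block Cfsg.Agent.Lib.TensorMax.Lemmas Cfsg.Agent.Lib.TensorFormMax.Basic
  Cfsg.Agent.Lib.TensorOrthMax.Side Cfsg.Agent.Lib.TensorOrthMax.Setup Cfsg.Agent.Lib.TensorOrthMax.Line
open Cfsg.Agent.Lib.TensorFormMax.Radical (Acts Has AdjPair)

variable {F : Type*} [Field F] {m k : ℕ}

local notation "V1" => Fin m → F
local notation "V2" => Fin k → F
local notation "Vec" => Fin m × Fin k → F
local notation "Big" => Matrix (Fin m × Fin k) (Fin m × Fin k) F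
local notation "A1" => Matrix (Fin m) (Fin m) F
local notation "A2" => Matrix (Fin k) (Fin k) F
local notation "G" => GL (Fin m × Fin k) F

/-- The coefficient is available along every singular vector. -/
def AllHas (f₂ : (Fin k → F) → (Fin k → F) → F) (M : Subgroup (GL (Fin m × Fin k) F))
    (A : Matrix (Fin m) (Fin m) F) : Prop :=
  ∀ v, v ≠ 0 → f₂ v v = 0 → ∀ s, f₂ s v = 0 → Has f₂ M v A s

variable {ε : F} {f₁ : (Fin m → F) → (Fin m → F) → F} {f₂ : (Fin k → F) → (Fin k → F) → F}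
  {B : (Fin m × Fin k → F) → (Fin m × Fin k → F) → F} {M : Subgroup (GL (Fin m × Fin k) F)}
  (D : Data ε f₁ f₂ B M)
include D

theorem exists_adj [Finite F] (A : A1) : ∃ A', AdjPair f₁ A A' := by
  have hsurj := formVec_surjective D.h1.lin (fun a b c => D.h1.add_right a b c)
    (fun a ha => ⟨D.h1.nondeg a ha, by
      obtain ⟨y, hy⟩ := D.h1.nondeg a ha
      exact ⟨y, fun e => hy (D.h1.eq_zero_comm e)⟩⟩)
  choose T hT using fun u' : V1 => hsurj (formVec f₁ u' ᵥ* A)
  have hTd : ∀ u u', f₁ (A *ᵥ u) u' = f₁ u (T u') := fun u u' => by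
    rw [← D.h1.dot (T u'), hT, ← dotProduct_mulVec, D.h1.dot]
  have hext : ∀ a b : V1, (∀ u, f₁ u a = f₁ u b) → a = b := fun a b h =>
    D.h1.eq_of_left fun u => by rw [D.h1.swap u a, D.h1.swap u b, h]
  let L : V1 →ₗ[F] V1 :=
    { toFun := T
      map_add' := fun a b => hext _ _ fun u => by rw [← hTd, D.h1.add_right, D.h1.add_right, hTd, hTd]
      map_smul' := fun c a => hext _ _ fun u => by
        rw [RingHom.id_apply, ← hTd, D.h1.smul_right, D.h1.smul_right, hTd] }
  exact ⟨LinearMap.toMatrix' L, fun u u' => by rw [hTd, LinearMap.toMatrix'_mulVec]; rfl⟩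

/-- An element fixing a block pointwise preserves its orthogonal. -/
theorem ctr_fix {y : G} (hy : y ∈ M) {v : V2} (hfix : ∀ u, (y : Big) *ᵥ tens u v = tens u v)
    (z : Vec) : ctr (formVec f₂ v) ((y : Big) *ᵥ z) = ctr (formVec f₂ v) z := by
  refine D.h1.eq_of_left fun u => ?_
  rw [← D.hB, ← D.hB]
  conv_lhs => rw [← hfix u, D.iso y hy]

theorem ctr_v_delta {v : V2} {x : G} (hx : x ∈ M) (hfix : ∀ u, (x : Big) *ᵥ tens u v = tens u v)
    (q : Vec) : ctr (formVec f₂ v) ((x : Big) *ᵥ q - q) = 0 := by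
  rw [ctr_sub, ctr_fix D hx hfix, sub_self]

theorem inv_fix {y : G} {v : V2} (hfix : ∀ u, (y : Big) *ᵥ tens u v = tens u v) (u : V1) :
    ((y⁻¹ : G) : Big) *ᵥ tens u v = tens u v := by
  have _ := D.hm
  conv_lhs => rw [← hfix u, gl_inv_mulVec]

theorem acts_eq_of {v : V2} (hv : v ≠ 0) {x : G} {L : Vec → V1} (h : Acts f₂ v x L)
    {z : Vec} (hz : ctr (formVec f₂ v) z = 0) {a : V1}
    (ha : (x : Big) *ᵥ z = z + tens a v) : L z = a := by
  have _ := D.hm
  rw [h.2 z hz] at ha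
  exact tens_injective hv (add_left_cancel ha)

theorem acts_inv {v : V2} {x : G} {L : Vec → V1} (h : Acts f₂ v x L)
    {z : Vec} (hz : ctr (formVec f₂ v) z = 0) :
    ((x⁻¹ : G) : Big) *ᵥ z = z - tens (L z) v := by
  have _ := D.hm
  refine gl_mulVec_injective x (show (x : Big) *ᵥ _ = (x : Big) *ᵥ _ from ?_)
  rw [gl_mulVec_inv, mulVec_sub, h.1, h.2 z hz, add_sub_cancel_right]

theorem acts_sub {v : V2} (hv : v ≠ 0) {x : G} {L : Vec → V1} (h : Acts f₂ v x L)
    {z z' : Vec} (hz : ctr (formVec f₂ v) z = 0) (hz' : ctr (formVec f₂ v) z' = 0) :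
    L (z - z') = L z - L z' := by
  refine acts_eq_of D hv h (by rw [ctr_sub, hz, hz', sub_zero]) ?_
  rw [mulVec_sub, h.2 z hz, h.2 z' hz', tens_sub_left]
  abel

theorem acts_smul {v : V2} (hv : v ≠ 0) {x : G} {L : Vec → V1} (h : Acts f₂ v x L)
    {z : Vec} (hz : ctr (formVec f₂ v) z = 0) (c : F) : L (c • z) = c • L z := by
  refine acts_eq_of D hv h (by rw [ctr_smul, hz, smul_zero]) ?_
  rw [mulVec_smul, h.2 z hz, smul_add, tens_smul_left]

/-- The commutator with an element fixing the block. -/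
theorem qcomm {v : V2} (hv : v ≠ 0) {x : G} (hx : x ∈ M)
    {L : Vec → V1} (h : Acts f₂ v x L) {y : G} (hy : y ∈ M)
    (hfix : ∀ u, (y : Big) *ᵥ tens u v = tens u v) :
    x * y * x⁻¹ * y⁻¹ ∈ M ∧
      Acts f₂ v (x * y * x⁻¹ * y⁻¹) fun z => L (z - ((y⁻¹ : G) : Big) *ᵥ z) := by
  refine ⟨M.mul_mem (M.mul_mem (M.mul_mem hx hy) (M.inv_mem hx)) (M.inv_mem hy), fun u => ?_, fun z hz => ?_⟩
  · rw [gl_mul_mulVec, inv_fix D hfix, gl_mul_mulVec]
    conv_lhs => rw [← h.1 u, gl_inv_mulVec]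
    rw [gl_mul_mulVec, hfix, h.1]
  · have hz1 : ctr (formVec f₂ v) (((y⁻¹ : G) : Big) *ᵥ z) = 0 := by
      rw [ctr_fix D (M.inv_mem hy) (inv_fix D hfix), hz]
    rw [gl_mul_mulVec, gl_mul_mulVec, acts_inv D h hz1, gl_mul_mulVec, mulVec_sub, gl_mulVec_inv, hfix,
      mulVec_sub, h.2 z hz, h.1]
    dsimp only
    rw [acts_sub D hv h hz hz1, tens_sub_left]
    abel

theorem ctr_smul_vec (c : F) (s : V2) (z : Vec) :
    ctr (formVec f₂ (c • s)) z = c • ctr (formVec f₂ s) z :=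
  funext fun i => by rw [Pi.smul_apply, ctr_eq_dot, ctr_eq_dot, D.sym.dot, D.sym.dot, D.sym.smulR, smul_eq_mul]

theorem ctr_add_vec (s t : V2) (z : Vec) :
    ctr (formVec f₂ (s + t)) z = ctr (formVec f₂ s) z + ctr (formVec f₂ t) z :=
  funext fun i => by rw [Pi.add_apply, ctr_eq_dot, ctr_eq_dot, ctr_eq_dot, D.sym.dot, D.sym.dot, D.sym.dot, D.sym.addR]

theorem has_add_vec {v s t : V2} {A : A1} (h : Has f₂ M v A s) (h' : Has f₂ M v A t) :
    Has f₂ M v A (s + t) := by
  obtain ⟨x, hx, h1, h2⟩ := h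
  obtain ⟨x', hx', h1', h2'⟩ := h'
  refine ⟨x * x', M.mul_mem hx hx', fun u => by rw [gl_mul_mulVec, h1', h1], fun z hz => ?_⟩
  rw [gl_mul_mulVec, h2' z hz, mulVec_add, h2 z hz, h1]
  dsimp only
  rw [ctr_add_vec D, mulVec_add, tens_add_left]
  abel

theorem has_add {v s : V2} {A A' : A1} (h : Has f₂ M v A s) (h' : Has f₂ M v A' s) : Has f₂ M v (A + A') s := by
  have _ := D.hm
  obtain ⟨x, hx, h1, h2⟩ := h
  obtain ⟨x', hx', h1', h2'⟩ := h'
  refine ⟨x * x', M.mul_mem hx hx', fun u => by rw [gl_mul_mulVec, h1', h1], fun z hz => ?_⟩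
  rw [gl_mul_mulVec, h2' z hz, mulVec_add, h2 z hz, h1]
  dsimp only
  rw [add_mulVec, tens_add_left]
  abel

theorem has_zero (v s : V2) : Has f₂ M v (0 : A1) s := by
  have _ := D.hm
  exact ⟨1, M.one_mem, fun u => by rw [Units.val_one, one_mulVec], fun z _ => by
    rw [Units.val_one, one_mulVec]; dsimp only; rw [zero_mulVec, tens_zero_left, add_zero]⟩

theorem has_self (v : V2) (c : F) (A : A1) : Has f₂ M v A (c • v) := by
  obtain ⟨x, hx, h1, h2⟩ := has_zero D (M := M) v v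
  refine ⟨x, hx, h1, fun z hz => ?_⟩
  rw [h2 z hz]
  simp only [ctr_smul_vec D, hz, smul_zero, mulVec_zero]

theorem has_smul_vec {v s : V2} {A : A1} {c : F} (h : Has f₂ M v (c • A) s) : Has f₂ M v A (c • s) := by
  obtain ⟨x, hx, h1, h2⟩ := h
  refine ⟨x, hx, h1, fun z hz => ?_⟩
  rw [h2 z hz]
  dsimp only
  rw [ctr_smul_vec D, mulVec_smul, smul_mulVec]

theorem eich_fix_block {R : G} {t r : V2} (hR : (R : Big) = (1 : A1) ⊗ₖ (1 + eN f₂ t r)) {v : V2}
    (hvt : f₂ v t = 0) (hvr : f₂ v r = 0) (u : V1) : (R : Big) *ᵥ tens u v = tens u v :=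
  D.eich_fix hR fun i => by
    show f₂ (u i • v) t = 0 ∧ f₂ (u i • v) r = 0
    rw [D.sym.smulL, D.sym.smulL, hvt, hvr, mul_zero]
    exact ⟨rfl, rfl⟩

/-- The displacement of the inverse of an Eichler element. -/
theorem eich_inv {R : G} {t r : V2} (htt : f₂ t t = 0) (hrt : f₂ r t = 0)
    (hR : (R : Big) = (1 : A1) ⊗ₖ (1 + eN f₂ t r)) (z : Vec) :
    z - ((R⁻¹ : G) : Big) *ᵥ z = tens (ctr (formVec f₂ r) z) t - tens (ctr (formVec f₂ t) z) r
      + tens ((f₂ r r / 2) • ctr (formVec f₂ t) z) t := by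
  have hf := D.sym
  have hnr : f₂ (-r) t = 0 := by rw [hf.negL, hrt, neg_zero]
  have e : ((R⁻¹ : G) : Big) = (1 : A1) ⊗ₖ (1 + eN f₂ t (-r)) := by
    refine Units.inv_eq_of_mul_eq_one_right ?_
    rw [hR, ← Matrix.mul_kronecker_mul, one_mul, eN_add hf htt hrt hnr, add_neg_cancel, eN_zero hf, add_zero,
      one_kronecker_one]
  rw [D.eich_apply e, eN_tens D, show (-r : V2) = (-1 : F) • r by rw [neg_one_smul], ctr_smul_vec D, hf.smulL,
    hf.smulR]
  simp only [tens_smul_left, tens_smul_right]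
  module

theorem has_one {v s : V2} (hvv : f₂ v v = 0) (hsv : f₂ s v = 0) : Has f₂ M v (1 : A1) s := by
  obtain ⟨R, hRM, -, hR⟩ := D.exists_eich hvv hsv
  refine ⟨R, hRM, D.mul_kron_right hR hvv hsv, fun z hz => ?_⟩
  rw [D.eich_apply hR, eN_tens D, hz, smul_zero, tens_zero_left, tens_zero_left, sub_zero, sub_zero]
  dsimp only
  rw [one_mulVec]

variable [Finite F]

/-- Two commutators with Eichler elements of an orthogonal vector. -/
theorem qroot {v t : V2} (hv : v ≠ 0) (htt : f₂ t t = 0) (htv : f₂ t v = 0) {x : G}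
    (hx : x ∈ M) {L : Vec → V1} (h : Acts f₂ v x L) {A : A1} (hA : ∀ a, L (tens a t) = A *ᵥ a) (c : F) :
    Has f₂ M v (c • A) t := by
  have hf := D.sym
  obtain ⟨r, hrv, hrt, hrr⟩ := hf.exists_aniso_pair D.hk v t
  have hvt : f₂ v t = 0 := by rw [hf.comm, htv]
  have hvr : f₂ v r = 0 := by rw [hf.comm, hrv]
  set r' := (-(c / f₂ r r)) • r with hr'
  have hr't : f₂ r' t = 0 := by rw [hf.smulL, hrt, mul_zero]
  obtain ⟨R, hRM, -, hR⟩ := D.exists_eich htt hrt
  obtain ⟨R', hR'M, -, hR'⟩ := D.exists_eich htt hr't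
  obtain ⟨hM1, hact1⟩ := qcomm D hv hx h hRM (eich_fix_block D hR hvt hvr)
  obtain ⟨hM2, h1, h2⟩ := qcomm D hv hM1 hact1 hR'M
    (eich_fix_block D hR' hvt (by rw [hf.smulR, hvr, mul_zero]))
  refine ⟨_, hM2, h1, fun z hz => ?_⟩
  rw [h2 z hz]
  congr 2
  dsimp only
  have hperp : ∀ (b : V1) (w : V2), f₂ w v = 0 → ctr (formVec f₂ v) (tens b w) = 0 := fun b w hw => by
    rw [D.ctr_form_tens, hw, zero_smul]
  rw [eich_inv D htt hr't hR', eich_inv D htt hrt hR]
  simp only [ctr_add, ctr_sub, D.ctr_form_tens, htt, hf.comm r t, hrt, hr', hf.smulL, hf.smulR, zero_smul,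
    mul_zero, smul_zero, sub_zero, add_zero, zero_sub, tens_zero_left]
  set cz := ctr (formVec f₂ t) z
  have e : -((-(c / f₂ r r)) * f₂ r r) = c := by rw [neg_mul, neg_neg, div_mul_cancel₀ c hrr]
  rw [← neg_smul, e, hA, mulVec_smul, smul_mulVec]

/-- Sliding the second vector, with every multiple of the coefficient. -/
theorem has_slide {v s t : V2} {A : A1} (hv : v ≠ 0) (htt : f₂ t t = 0) (htv : f₂ t v = 0) (hts : f₂ t s ≠ 0)
    (h : Has f₂ M v A s) (c : F) : Has f₂ M v (c • A) t := by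
  obtain ⟨x, hx, hA⟩ := h
  have := qroot D hv htt htv hx hA (A := f₂ t s • A) (fun a => by
    show A *ᵥ ctr _ _ = _
    rw [D.ctr_form_tens, mulVec_smul, smul_mulVec]) (c / f₂ t s)
  rwa [smul_smul, div_mul_cancel₀ c hts] at this

/-- One coefficient along one vector gives all its multiples along every vector. -/
theorem has_all {v s : V2} {A : A1} (hv : v ≠ 0) (hvv : f₂ v v = 0) (hsv : f₂ s v = 0) (hsn : s ∉ Submodule.span F {v})
    (h : Has f₂ M v A s) (c : F) {s' : V2} (hs' : f₂ s' v = 0) : Has f₂ M v (c • A) s' := by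
  have hf := D.sym
  let S : Submodule F V2 :=
    { carrier := {w | ∀ c : F, Has f₂ M v (c • A) w}
      zero_mem' := fun c => by rw [← zero_smul F v]; exact has_self D v 0 _
      add_mem' := fun hp hq c => has_add_vec D (hp c) (hq c)
      smul_mem' := fun d w hw c => has_smul_vec D (by rw [smul_smul]; exact hw (d * c)) }
  have hstep : ∀ {w t : V2}, w ∈ S → f₂ t t = 0 → f₂ t v = 0 → f₂ t w ≠ 0 → t ∈ S := fun {w t} hw htt htv htw c =>
    has_slide D hv htt htv htw (by have := hw 1; rwa [one_smul] at this) c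
  obtain ⟨t0, ht0, ht0v, ht0s⟩ := hf.exists_iso_nonorth D.hk hvv hsn
  have hT0 : t0 ∈ S := fun c => has_slide D hv ht0 ht0v ht0s h c
  have ht0n : t0 ∉ Submodule.span F {v} := fun e => by
    obtain ⟨d, hd⟩ := Submodule.mem_span_singleton.1 e
    rw [← hd, hf.smulL, hf.comm s v, hsv, mul_zero] at ht0s
    exact ht0s rfl
  obtain ⟨w, hw, hwv, hwt0⟩ := hf.exists_iso_nonorth D.hk hvv ht0n
  have hW : w ∈ S := hstep hT0 hw hwv hwt0
  have hiso : ∀ t, f₂ t t = 0 → f₂ t v = 0 → t ∈ S := fun t htt htv => by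
    by_cases h1 : f₂ t w = 0
    swap
    · exact hstep hW htt htv h1
    by_cases h2 : f₂ t t0 = 0
    swap
    · exact hstep hT0 htt htv h2
    have hsum : t0 + t ∈ S := hstep hW (hf.iso_add ht0 htt (by rw [hf.comm, h2]))
      (by rw [hf.addL, ht0v, htv, add_zero]) (by rw [hf.addL, h1, add_zero, hf.comm]; exact hwt0)
    simpa using S.sub_mem hsum hT0
  exact (Submodule.span_le.2 fun t ht => hiso t ht.1 ht.2) (hf.mem_span_iso D.hk hvv hs') c

/-- The action of a product of Eichler elements on the second factor. -/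
theorem exists_move {v u : V2} (hv : v ≠ 0) (hvv : f₂ v v = 0) (huu : f₂ u u = 0) (huv : f₂ u v = 0)
    (hun : u ∉ Submodule.span F {v}) : ∃ g ∈ M, ∃ N : GL (Fin k) F,
      (g : Big) = (1 : A1) ⊗ₖ (N : A2) ∧ (N : A2) *ᵥ v = u := by
  have hf := D.sym
  have hvn : v ∉ Submodule.span F {u} := indep_symm hv hun
  obtain ⟨w0, hw0, hw0v⟩ := hf.dual hvn
  obtain ⟨w0', hw0', hw0u⟩ := hf.dual hun
  have hw0u' : f₂ w0 u = 0 := hw0 u (Submodule.mem_span_singleton_self u)
  have hw0v' : f₂ w0' v = 0 := hw0' v (Submodule.mem_span_singleton_self v)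
  set w := w0 + (-(f₂ w0 w0 / 2)) • v with hw
  set w' := w0' + (-(f₂ w0' w0' / 2)) • u with hw'
  have h2 := hf.two
  have hww : f₂ w w = 0 := by rw [hw, hf.expand, hvv, hw0v]; field_simp; ring
  have hww' : f₂ w' w' = 0 := by rw [hw', hf.expand, huu, hw0u]; field_simp; ring
  have hwv : f₂ w v = 1 := by rw [hw, hf.addL, hf.smulL, hvv, hw0v, mul_zero, add_zero]
  have hwu : f₂ w u = 0 := by rw [hw, hf.addL, hf.smulL, hw0u', hf.comm u v, huv, mul_zero, add_zero]
  have hwu' : f₂ w' u = 1 := by rw [hw', hf.addL, hf.smulL, huu, hw0u, mul_zero, add_zero]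
  have hwv' : f₂ w' v = 0 := by rw [hw', hf.addL, hf.smulL, huv, hw0v', mul_zero, add_zero]
  have h1o : f₂ (-u) w = 0 := by rw [hf.negL, hf.comm, hwu, neg_zero]
  have h2o : f₂ v w' = 0 := by rw [hf.comm, hwv']
  obtain ⟨R1, hR1M, -, hR1⟩ := D.exists_eich hww h1o
  obtain ⟨R2, hR2M, -, hR2⟩ := D.exists_eich hww' h2o
  have hinv : ∀ {a z : V2}, f₂ a a = 0 → f₂ z a = 0 → IsUnit (1 + eN f₂ a z) := fun {a z} ha hz =>
    ⟨⟨1 + eN f₂ a z, 1 + eN f₂ a (-z),
      by rw [eN_add hf ha hz (by rw [hf.negL, hz, neg_zero]), add_neg_cancel, eN_zero hf, add_zero],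
      by rw [eN_add hf ha (by rw [hf.negL, hz, neg_zero]) hz, neg_add_cancel, eN_zero hf, add_zero]⟩, rfl⟩
  obtain ⟨N1, hN1⟩ := hinv hww h1o
  obtain ⟨N2, hN2⟩ := hinv hww' h2o
  refine ⟨R2 * R1, M.mul_mem hR2M hR1M, N2 * N1, ?_, ?_⟩
  · rw [Units.val_mul, hR1, hR2, Units.val_mul, hN1, hN2, ← Matrix.mul_kronecker_mul, one_mul]
  · rw [Units.val_mul, hN1, hN2, ← mulVec_mulVec]
    have e1 : (1 + eN f₂ w (-u)) *ᵥ v = v + u := by
      rw [add_mulVec, one_mulVec, eN_mulVec hf, hf.negR, hf.comm u v, huv, hf.comm w v, hwv, hf.negL, hf.negR, huu]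
      simp
    rw [e1, add_mulVec, one_mulVec, eN_mulVec hf, hf.addL, hf.addL, hvv, huv, hf.comm w' u, hwu', hf.comm w' v,
      hwv']
    simp

theorem has_move {v u : V2} {A : A1} (hv : v ≠ 0) (hvv : f₂ v v = 0) (huu : f₂ u u = 0) (huv : f₂ u v = 0)
    (hun : u ∉ Submodule.span F {v}) (h : ∀ s, f₂ s v = 0 → Has f₂ M v A s) {s' : V2} (hs' : f₂ s' u = 0) :
    Has f₂ M u A s' := by
  obtain ⟨g, hg, N, hgN, hNv⟩ := exists_move D hv hvv huu huv hun
  have hgt : ∀ (a : V1) (w : V2), (g : Big) *ᵥ tens a w = tens a ((N : A2) *ᵥ w) := fun a w => by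
    rw [hgN, kron_mulVec_tens, one_mulVec]
  have hiso : ∀ x y, f₂ ((N : A2) *ᵥ x) ((N : A2) *ᵥ y) = f₂ x y := fun x y => by
    obtain ⟨p, q, hpq⟩ := D.exists_pair
    have := D.iso g hg (tens p x) (tens q y)
    rw [hgt, hgt, D.B_tens, D.B_tens] at this
    exact mul_right_cancel₀ hpq this
  set s := ((N⁻¹ : GL (Fin k) F) : A2) *ᵥ s'
  have hNs : (N : A2) *ᵥ s = s' := gl_mulVec_inv N s'
  obtain ⟨x, hx, h1, h2⟩ := h s (by rw [← hiso, hNs, hNv, hs'])
  have hctr : ∀ (w : V2) y, ctr (formVec f₂ ((N : A2) *ᵥ w)) ((g : Big) *ᵥ y) = ctr (formVec f₂ w) y := fun w y => by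
    refine D.h1.eq_of_left fun a => ?_
    rw [← D.hB, ← D.hB, ← hgt, D.iso g hg]
  refine ⟨g * x * g⁻¹, M.mul_mem (M.mul_mem hg hx) (M.inv_mem hg), fun a => ?_, fun z hz => ?_⟩
  · rw [gl_mul_mulVec, gl_mul_mulVec, ← hNv, ← hgt, gl_inv_mulVec, h1]
  · obtain ⟨y, rfl⟩ : ∃ y, (g : Big) *ᵥ y = z := ⟨_, gl_mulVec_inv g z⟩
    rw [← hNv, hctr] at hz
    rw [gl_mul_mulVec, gl_mul_mulVec, gl_inv_mulVec, h2 y hz, mulVec_add, hgt, hNv]
    dsimp only
    rw [← hNs, hctr]

/-- One coefficient gives all. -/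
theorem allHas_of_has {v s : V2} {A : A1} (hv : v ≠ 0) (hvv : f₂ v v = 0) (hsv : f₂ s v = 0)
    (hsn : s ∉ Submodule.span F {v}) (h : Has f₂ M v A s) (c : F) : AllHas f₂ M (c • A) := by
  intro u hu huu s' hs'
  have hf := D.sym
  have hall : ∀ t, f₂ t v = 0 → Has f₂ M v (c • A) t := fun t ht => has_all D hv hvv hsv hsn h c ht
  have go : ∀ {a b : V2}, a ≠ 0 → f₂ a a = 0 → f₂ b b = 0 → f₂ b a = 0 → b ∉ Submodule.span F {a} →
      (∀ t, f₂ t a = 0 → Has f₂ M a (c • A) t) → ∀ t, f₂ t b = 0 → Has f₂ M b (c • A) t :=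
    fun ha haa hbb hba hbn h' t ht => has_move D ha haa hbb hba hbn h' ht
  by_cases hd : f₂ u v = 0
  · by_cases hmem : u ∈ Submodule.span F {v}
    · obtain ⟨t, htt, htv, htn⟩ := hf.exists_iso_second D.hk hv hvv (Submodule.span F {v})
        (by rw [finrank_span_singleton hv]; have := D.hk; omega)
      have ht0 : t ≠ 0 := fun e => htn (by rw [e]; exact Submodule.zero_mem _)
      obtain ⟨d, rfl⟩ := Submodule.mem_span_singleton.1 hmem
      refine go ht0 htt huu (by rw [hf.smulL, hf.comm, htv, mul_zero]) (fun e => ?_)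
        (go hv hvv htt htv htn hall) s' hs'
      have hd0 : d ≠ 0 := fun e0 => hu (by rw [e0, zero_smul])
      have := Submodule.smul_mem _ d⁻¹ e
      rw [inv_smul_smul₀ hd0] at this
      exact indep_symm hv htn this
    · exact go hv hvv huu hd hmem hall s' hs'
  obtain ⟨t, ht0, htt, htv, htu⟩ := hf.exists_iso_common D.hk hv hvv huu hd
  have htn : t ∉ Submodule.span F {v} := fun e => by
    obtain ⟨d, rfl⟩ := Submodule.mem_span_singleton.1 e
    rw [hf.smulL, hf.comm u v, mul_eq_zero] at htu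
    exact ht0 (by rw [htu.resolve_right hd, zero_smul])
  refine go ht0 htt huu (by rw [hf.comm, htu]) (fun e => ?_) (go hv hvv htt htv htn hall) s' hs'
  obtain ⟨d, rfl⟩ := Submodule.mem_span_singleton.1 e
  rw [hf.smulL, htv, mul_zero] at hd
  exact hd rfl

/-- Two orthogonal singular vectors. -/
theorem exists_two : ∃ v t, v ≠ 0 ∧ f₂ v v = 0 ∧ f₂ t t = 0 ∧ f₂ t v = 0 ∧ t ∉ Submodule.span F {v} := by
  obtain ⟨v, hv, hvv⟩ := D.sym.exists_iso (by have := D.hk; omega)
  obtain ⟨t, htt, htv, htn⟩ := D.sym.exists_iso_second D.hk hv hvv (Submodule.span F {v})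
    (by rw [finrank_span_singleton hv]; have := D.hk; omega)
  exact ⟨v, t, hv, hvv, htt, htv, htn⟩

omit [Finite F] in
theorem allHas_one : AllHas f₂ M (1 : A1) := fun _ _ hvv _ hs => has_one D hvv hs

omit [Finite F] in
theorem allHas_add {A A' : A1} (h : AllHas f₂ M A) (h' : AllHas f₂ M A') : AllHas f₂ M (A + A') :=
  fun v hv hvv s hs => has_add D (h v hv hvv s hs) (h' v hv hvv s hs)

theorem allHas_smul {A : A1} (h : AllHas f₂ M A) (c : F) : AllHas f₂ M (c • A) := by
  obtain ⟨v, t, hv, hvv, -, htv, htn⟩ := exists_two D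
  exact allHas_of_has D hv hvv htv htn (h v hv hvv t htv) c

theorem allHas_mul {A C : A1} (hA : AllHas f₂ M A) (hC : AllHas f₂ M C) : AllHas f₂ M (A * C) := by
  have hf := D.sym
  obtain ⟨v, t, hv, hvv, htt, htv, htn⟩ := exists_two D
  obtain ⟨s, hs, hst⟩ := hf.dual htn
  have hsv : f₂ s v = 0 := hs v (Submodule.mem_span_singleton_self v)
  have hts : f₂ t s = 1 := by rw [hf.comm, hst]
  obtain ⟨w, hwv, hwt, hww⟩ := hf.exists_aniso_pair D.hk v t
  have ht : t ≠ 0 := fun e => htn (by rw [e]; exact Submodule.zero_mem _)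
  have hvt : f₂ v t = 0 := by rw [hf.comm, htv]
  have hvw : f₂ v w = 0 := by rw [hf.comm, hwv]
  obtain ⟨x, hx, hxA⟩ := hA v hv hvv s hsv
  obtain ⟨y, hy, hyC⟩ := hC t ht htt w hwt
  have hfix : ∀ u, (y : Big) *ᵥ tens u v = tens u v := fun u => by
    rw [hyC.2 _ (by rw [D.ctr_form_tens, hvt, zero_smul])]
    dsimp only
    rw [D.ctr_form_tens, hvw, zero_smul, mulVec_zero, tens_zero_left, add_zero]
  obtain ⟨hM1, hact⟩ := qcomm D hv hx hxA hy hfix
  set e := (f₂ w w)⁻¹ • w with he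
  have het : f₂ e t = 0 := by rw [hf.smulL, hwt, mul_zero]
  have hew : f₂ e w = 1 := by rw [hf.smulL, inv_mul_cancel₀ hww]
  obtain ⟨R, hRM, -, hR⟩ := D.exists_eich htt het
  obtain ⟨hM2, h1, h2⟩ := qcomm D hv hM1 hact hRM
    (eich_fix_block D hR hvt (by rw [hf.smulR, hvw, mul_zero]))
  have h : Has f₂ M v ((-1 : F) • (A * C)) t := by
    refine ⟨_, hM2, h1, fun z hz => ?_⟩
    rw [h2 z hz]
    congr 2
    dsimp only
    set d := z - ((R⁻¹ : G) : Big) *ᵥ z with hd
    have hd' := eich_inv D htt het hR z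
    rw [← hd] at hd'
    have hdt : ctr (formVec f₂ t) d = 0 := by
      rw [hd', ctr_add, ctr_sub, D.ctr_form_tens, D.ctr_form_tens, D.ctr_form_tens, htt, het]
      simp
    have hdw : ctr (formVec f₂ w) d = (-1 : F) • ctr (formVec f₂ t) z := by
      rw [hd', ctr_add, ctr_sub, D.ctr_form_tens, D.ctr_form_tens, D.ctr_form_tens, hf.comm w t, hwt, hew]
      simp
    rw [acts_inv D hyC hdt, sub_sub_cancel, D.ctr_form_tens, hts, one_smul, hdw, mulVec_smul, mulVec_smul,
      mulVec_mulVec, smul_mulVec]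
  have := allHas_of_has D hv hvv htv htn h (-1)
  rwa [smul_smul, neg_one_mul, neg_neg, one_smul] at this

theorem mem_block {v : V2} {d : Vec} (h : ∀ z, ctr (formVec f₂ v) z = 0 → B z d = 0) :
    ∃ a, d = tens a v := by
  refine mem_Tn_line fun i => mem_line D fun s hsv => ?_
  have e : ctr (formVec f₂ s) d = 0 := by
    refine D.h1.eq_of_left fun u => ?_
    rw [form_zero_left D.h1.lin, ← D.hB]
    exact D.B_comm0 (h _ (by rw [D.ctr_form_tens, hsv, zero_smul]))
  rw [D.sym.comm]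
  exact D.ctr_eq_zero_iff.1 e i

theorem eq_el_of_fix {v : V2} (hv : v ≠ 0) {x : G} (hx : x ∈ M)
    (hperp : ∀ z, ctr (formVec f₂ v) z = 0 → (x : Big) *ᵥ z = z) :
    ∃ A : A1, (x : Big) = 1 + el A v (formVec f₂ v) := by
  obtain ⟨w, hw⟩ := D.sym.sf.exists_one hv
  have hblock : ∀ a, ∃ b, (x : Big) *ᵥ tens a w = tens a w + tens b v := fun a => by
    obtain ⟨b, hb⟩ := mem_block D (v := v) (d := (x : Big) *ᵥ tens a w - tens a w) fun z hz => by
      have hR : ∀ p q r, B p (q - r) = B p q - B p r := fun p q r => by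
        rw [eq_sub_iff_add_eq, ← D.addR, sub_add_cancel]
      have h1 := D.iso x hx z (tens a w)
      rw [hperp z hz] at h1
      rw [hR, h1, sub_self]
    exact ⟨b, by rw [← hb, add_sub_cancel]⟩
  choose b hb using hblock
  let L : V1 →ₗ[F] V1 :=
    { toFun := b
      map_add' := fun p q => tens_injective hv (show tens (b (p + q)) v = tens (b p + b q) v by
        refine add_left_cancel (a := tens (p + q) w) ?_
        rw [← hb, tens_add_left, mulVec_add, hb, hb, tens_add_left]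
        abel)
      map_smul' := fun c p => tens_injective hv (show tens (b (c • p)) v = tens (c • b p) v by
        refine add_left_cancel (a := tens (c • p) w) ?_
        rw [← hb, tens_smul_left, mulVec_smul, hb, tens_smul_left, smul_add]) }
  refine ⟨LinearMap.toMatrix' L, Matrix.mulVec_injective (funext fun z => ?_)⟩
  rw [add_mulVec, one_mulVec, el_mulVec, LinearMap.toMatrix'_mulVec]
  set c := ctr (formVec f₂ v) z
  have hz0 : ctr (formVec f₂ v) (z - tens c w) = 0 := by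
    rw [ctr_sub, D.ctr_form_tens, hw, one_smul, sub_self]
  conv_lhs => rw [← sub_add_cancel z (tens c w), mulVec_add, hperp _ hz0, hb]
  show z - tens c w + (tens c w + tens (b c) v) = z + tens (b c) v
  abel

/-- An element fixing the orthogonal of a block gives its coefficient. -/
theorem allHas_of_el {v : V2} (hv : v ≠ 0) (hvv : f₂ v v = 0) {A : A1}
    (h : InM M (el A v (formVec f₂ v))) : AllHas f₂ M A := by
  have hf := D.sym
  obtain ⟨u, huu, huv, hun⟩ := hf.exists_iso_second D.hk hv hvv (Submodule.span F {v})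
    (by rw [finrank_span_singleton hv]; have := D.hk; omega)
  have hu : u ≠ 0 := fun e => hun (by rw [e]; exact Submodule.zero_mem _)
  have hvn : v ∉ Submodule.span F {u} := indep_symm hv hun
  obtain ⟨s, hs, hsv⟩ := hf.dual hvn
  have hsu : f₂ s u = 0 := hs u (Submodule.mem_span_singleton_self u)
  obtain ⟨y, hy, hyv⟩ := h
  have hfix : ∀ a, (y : Big) *ᵥ tens a u = tens a u := fun a => by
    rw [hyv, add_mulVec, one_mulVec, el_mulVec, D.ctr_form_tens, huv, zero_smul, mulVec_zero, tens_zero_left,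
      add_zero]
  obtain ⟨x, hx, hxA⟩ := has_one D (M := M) huu hsu
  obtain ⟨hM, h1, h2⟩ := qcomm D hu hx hxA hy hfix
  have hhas : Has f₂ M u A v := by
    refine ⟨_, hM, h1, fun z hz => ?_⟩
    rw [h2 z hz]
    congr 2
    dsimp only
    have e : ((y⁻¹ : G) : Big) = 1 - el A v (formVec f₂ v) :=
      inv_val hyv (by rw [el_mul, hf.dot, hvv, zero_smul])
    simp only [e, sub_mulVec, one_mulVec, sub_sub_cancel, el_mulVec, D.ctr_form_tens, hf.comm s v, hsv, one_smul]
  have := allHas_of_has D hu huu (by rw [hf.comm, huv]) hvn hhas 1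
  rwa [one_smul] at this

/-- A radical element outside the stabiliser gives a coefficient which is not scalar. -/
theorem exists_nonscalar (hG : ¬ NoRadical f₂ M) : ∃ A : A1, (∀ c : F, A ≠ c • 1) ∧ AllHas f₂ M A := by
  classical
  have hf := D.sym
  have hm := D.hm
  simp only [NoRadical, not_forall] at hG
  obtain ⟨v, hv, hvv, x, hx, hfix, hperp, hxk⟩ := hG
  choose L0 hL0 using hperp
  let L : Vec → V1 := fun z => if h : ctr (formVec f₂ v) z = 0 then L0 z h else 0
  have hact : Acts f₂ v x L := ⟨hfix, fun z hz => by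
    simp only [L, dif_pos hz]
    rw [← hL0 z hz, add_sub_cancel]⟩
  have hperpT : ∀ (a : V1) {w : V2}, f₂ w v = 0 → ctr (formVec f₂ v) (tens a w) = 0 := fun a w h => by
    rw [D.ctr_form_tens, h, zero_smul]
  have hadd : ∀ {z z'}, ctr (formVec f₂ v) z = 0 → ctr (formVec f₂ v) z' = 0 → L (z + z') = L z + L z' := by
    intro z z' hz hz'
    refine acts_eq_of D hv hact (by rw [ctr_add, hz, hz', add_zero]) ?_
    rw [mulVec_add, hact.2 z hz, hact.2 z' hz', tens_add_left]
    abel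
  by_contra hc
  push Not at hc
  -- every coefficient is scalar
  let Lam : Submodule F V2 :=
    { carrier := {w | f₂ w v = 0 ∧ ∃ c : F, ∀ a, L (tens a w) = c • a}
      zero_mem' := ⟨hf.zeroL v, 0, fun a => acts_eq_of D hv hact (hperpT a (hf.zeroL v))
        (by rw [tens_zero_right, mulVec_zero, zero_smul, tens_zero_left, add_zero])⟩
      add_mem' := by
        rintro p q ⟨hp, c, hc1⟩ ⟨hq, d, hd⟩
        refine ⟨by rw [hf.addL, hp, hq, add_zero], c + d, fun a => ?_⟩
        rw [tens_add_right, hadd (hperpT a hp) (hperpT a hq), hc1, hd, add_smul]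
      smul_mem' := by
        rintro e p ⟨hp, c, hc1⟩
        refine ⟨by rw [hf.smulL, hp, mul_zero], e * c, fun a => ?_⟩
        rw [tens_smul_right, acts_smul D hv hact (hperpT a hp), hc1, smul_smul] }
  have hLam : ∀ w, f₂ w v = 0 → w ∈ Lam := by
    intro w hw
    suffices hle : Submodule.span F {t | f₂ t t = 0 ∧ f₂ t v = 0} ≤ Lam from hle (hf.mem_span_iso D.hk hvv hw)
    rw [Submodule.span_le]
    rintro t ⟨htt, htv⟩
    refine ⟨htv, ?_⟩
    by_cases hmem : t ∈ Submodule.span F {v}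
    · obtain ⟨d, rfl⟩ := Submodule.mem_span_singleton.1 hmem
      refine ⟨0, fun a => acts_eq_of D hv hact (hperpT a htv) ?_⟩
      rw [tens_smul_right, mulVec_smul, hfix, zero_smul, tens_zero_left, add_zero]
    let Lt : V1 →ₗ[F] V1 :=
      { toFun := fun a => L (tens a t)
        map_add' := fun a b => by rw [tens_add_left, hadd (hperpT a htv) (hperpT b htv)]
        map_smul' := fun c a => by rw [RingHom.id_apply, tens_smul_left, acts_smul D hv hact (hperpT a htv)] }
    have hh := qroot D hv htt htv hx hact (A := LinearMap.toMatrix' Lt) (fun a => by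
      rw [LinearMap.toMatrix'_mulVec]; rfl) 1
    rw [one_smul] at hh
    by_contra hne
    push Not at hne
    refine hc (LinearMap.toMatrix' Lt) (fun c e => ?_) (by
      have := allHas_of_has D hv hvv htv hmem hh 1
      rwa [one_smul] at this)
    obtain ⟨a, ha⟩ := hne c
    refine ha ?_
    have := LinearMap.toMatrix'_mulVec Lt a
    rw [e, smul_mulVec, one_mulVec] at this
    exact this.symm
  set i0 : Fin m := ⟨0, by omega⟩
  obtain ⟨y0, -, hy0⟩ := hf.exists_hyperbolic hv hvv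
  have hproj : ∀ w, f₂ (w - f₂ w v • y0) v = 0 := fun w => by
    rw [hf.subL, hf.smulL, hy0, mul_one, sub_self]
  let φ : V2 →ₗ[F] F :=
    { toFun := fun w => L (tens (Pi.single i0 1) (w - f₂ w v • y0)) i0
      map_add' := fun p q => by
        rw [show p + q - f₂ (p + q) v • y0 = (p - f₂ p v • y0) + (q - f₂ q v • y0) by
          rw [hf.addL]; module,
          tens_add_right, hadd (hperpT _ (hproj p)) (hperpT _ (hproj q))]
        rfl
      map_smul' := fun c p => by
        rw [show c • p - f₂ (c • p) v • y0 = c • (p - f₂ p v • y0) by rw [hf.smulL]; module,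
          tens_smul_right, acts_smul D hv hact (hperpT _ (hproj p))]
        rfl }
  obtain ⟨d, hd⟩ := formVec_surjective hf.sf.lin hf.addR hf.nondegenerate (fun j => φ (Pi.single j 1))
  have hdφ : ∀ w, f₂ w d = φ w := fun w => by
    rw [← hf.dot, hd, dotProduct]
    conv_rhs => rw [← Finset.univ_sum_single w, map_sum]
    refine Finset.sum_congr rfl fun j _ => ?_
    rw [mul_comm, ← smul_eq_mul, ← map_smul]
    congr 1
    rw [← Pi.single_smul', smul_eq_mul, mul_one]
  have hLw : ∀ w, f₂ w v = 0 → ∀ a, L (tens a w) = f₂ w d • a := fun w hw a => by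
    obtain ⟨-, c, hc1⟩ := hLam w hw
    rw [hc1, hdφ]
    congr 1
    show c = L (tens (Pi.single i0 1) (w - f₂ w v • y0)) i0
    rw [hw, zero_smul, sub_zero, hc1]
    simp
  have hdv : f₂ d v = 0 := by
    rw [hf.comm, hdφ]
    show L (tens (Pi.single i0 1) (v - f₂ v v • y0)) i0 = 0
    rw [hvv, zero_smul, sub_zero, acts_eq_of D hv hact (hperpT _ hvv) (a := 0)
      (by rw [hfix, tens_zero_left, add_zero])]
    rfl
  have hLz : ∀ z, ctr (formVec f₂ v) z = 0 → L z = ctr (formVec f₂ d) z := by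
    intro z hz
    have hsl : ∀ i, f₂ (slice z i) v = 0 := fun i => D.ctr_eq_zero_iff.1 hz i
    have key : ∀ s : Finset (Fin m), ctr (formVec f₂ v) (∑ i ∈ s, tens (Pi.single i 1) (slice z i)) = 0 ∧
        L (∑ i ∈ s, tens (Pi.single i 1) (slice z i)) = ∑ i ∈ s, f₂ (slice z i) d • (Pi.single i 1 : V1) := by
      intro s
      induction s using Finset.induction_on with
      | empty =>
        have h0 : ctr (formVec f₂ v) (0 : Vec) = 0 := by ext i; simp [ctr]
        exact ⟨h0, acts_eq_of D hv hact h0 (by simp [tens_zero_left])⟩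
      | insert i s hi ih =>
        rw [Finset.sum_insert hi, Finset.sum_insert hi]
        refine ⟨by rw [ctr_add, hperpT _ (hsl i), ih.1, add_zero], ?_⟩
        rw [hadd (hperpT _ (hsl i)) ih.1, hLw _ (hsl i), ih.2]
    conv_lhs => rw [← sum_tens_slice z, (key Finset.univ).2]
    funext i
    simp [Finset.sum_apply, Pi.single_apply, ctr_eq_dot, hf.dot]
  have hnd : f₂ (-d) v = 0 := by rw [hf.negL, hdv, neg_zero]
  obtain ⟨g, hg, hgk, hgR⟩ := D.exists_eich hvv hnd
  have hxg : ∀ z, ctr (formVec f₂ v) z = 0 → ((x * g : G) : Big) *ᵥ z = z := fun z hz => by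
    rw [gl_mul_mulVec, D.eich_apply hgR, eN_tens D, hz, smul_zero, tens_zero_left, tens_zero_left, sub_zero,
      sub_zero, mulVec_add, hfix, hact.2 z hz, hLz z hz, add_assoc, ← tens_add_left,
      show (-d : V2) = (-1 : F) • d by rw [neg_one_smul], ctr_smul_vec D, neg_one_smul, add_neg_cancel,
      tens_zero_left, add_zero]
  obtain ⟨A, hA⟩ := eq_el_of_fix D hv (M.mul_mem hx hg) hxg
  have hall : AllHas f₂ M A := allHas_of_el D hv hvv ⟨_, M.mul_mem hx hg, hA⟩
  obtain ⟨c, rfl⟩ : ∃ c : F, A = c • 1 := by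
    by_contra hne
    push Not at hne
    exact hc A hne hall
  -- a scalar coefficient is zero
  have hc0 : c = 0 := by
    obtain ⟨p, q, hpq⟩ := D.exists_pair
    obtain ⟨w, hw⟩ := hf.sf.exists_one hv
    have h := D.iso _ (M.mul_mem hx hg) (tens p w) (tens q w)
    rw [hA, add_mulVec, add_mulVec, one_mulVec, one_mulVec, scalar_el_mulVec, scalar_el_mulVec, D.ctr_form_tens,
      D.ctr_form_tens, hw, one_smul, one_smul, D.lin.add_left, D.addR, D.addR, D.B_tens, D.B_tens, D.B_tens,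
      D.B_tens, hvv, hf.comm w v, hw, D.h1.smul_right, D.h1.lin.smul_left, RingHom.id_apply] at h
    have : (2 : F) * (c * f₁ p q) = 0 := by linear_combination h
    exact ((mul_eq_zero.1 ((mul_eq_zero.1 this).resolve_left hf.two)).resolve_right hpq)
  refine hxk ?_
  have h1 : x * g = 1 := Units.ext (by rw [hA, hc0, zero_smul, el_zero_left, add_zero, Units.val_one])
  rw [eq_inv_of_mul_eq_one_left h1]
  exact inv_mem hgk

omit [Finite F] in
/-- The commutator of two radical elements. -/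
theorem el_of_comm {v s t : V2} {A A' C C' : A1} (hv : v ≠ 0) (hvv : f₂ v v = 0) (hsv : f₂ s v = 0)
    (htv : f₂ t v = 0) (hts : f₂ t s = 1) (hAA : AdjPair f₁ A A') (hCC : AdjPair f₁ C C')
    (h : Has f₂ M v A s) (h' : Has f₂ M v C t) :
    InM M (el (C * A' - A * C') v (formVec f₂ v)) := by
  have hf := D.sym
  obtain ⟨x, hx, hA⟩ := h
  obtain ⟨y, hy, hC⟩ := h'
  obtain ⟨hM, h1, h2⟩ := qcomm D hv hx hA hy hC.1
  set x'' := x * y * x⁻¹ * y⁻¹
  obtain ⟨w, hw⟩ := hf.sf.exists_one hv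
  have hperp : ∀ z, ctr (formVec f₂ v) z = 0 → (x'' : Big) *ᵥ z = z := by
    intro z hz
    rw [h2 z hz]
    show z + tens (A *ᵥ ctr _ _) v = z
    rw [acts_inv D hC hz, sub_sub_cancel, D.ctr_form_tens, hf.comm s v, hsv, zero_smul, mulVec_zero,
      tens_zero_left, add_zero]
  have hdelta : ∀ {x : G} {A A' : A1} {s t : V2}, x ∈ M → AdjPair f₁ A A' →
      Acts f₂ v x (fun z => A *ᵥ ctr (formVec f₂ s) z) → f₂ t v = 0 → f₂ t s = 1 → ∀ a,
      ctr (formVec f₂ t) ((x : Big) *ᵥ tens a w - tens a w) = -(A' *ᵥ a) := by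
    intro x A A' s t hx hAA' hact htv hts a
    refine D.h1.eq_of_left fun u => ?_
    set q := tens a w
    have h1 := D.iso x hx q (tens u t)
    rw [hact.2 (tens u t) (by rw [D.ctr_form_tens, htv, zero_smul])] at h1
    dsimp only at h1
    rw [D.ctr_form_tens, hts, one_smul, D.addR] at h1
    have hBq : B ((x : Big) *ᵥ q) (tens (A *ᵥ u) v) = f₁ a (A *ᵥ u) := by
      rw [D.hB, ctr_fix D hx hact.1, D.ctr_form_tens, hw, one_smul]
    rw [hBq] at h1
    have hadj : f₁ a (A *ᵥ u) = f₁ (A' *ᵥ a) u := by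
      rw [D.h1.swap (A *ᵥ u) a, hAA', ← D.h1.swap]
    rw [← D.hB, D.B_sub_left, ← neg_one_smul F, D.h1.lin.smul_left, ← hadj]
    linear_combination h1
  have hq : ∀ a, (x'' : Big) *ᵥ tens a w = tens a w + tens ((C * A' - A * C') *ᵥ a) v := by
    intro a
    set q := tens a w
    set dx := (x : Big) *ᵥ q - q with hdx
    set dy := (y : Big) *ᵥ q - q with hdy
    have hdx0 := ctr_v_delta D hx hA.1 q
    have hdy0 := ctr_v_delta D hy hC.1 q
    have e1 : (x : Big) *ᵥ ((y : Big) *ᵥ q) = q + dx + dy + tens (A *ᵥ ctr (formVec f₂ s) dy) v := by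
      rw [show (y : Big) *ᵥ q = q + dy by rw [hdy, add_sub_cancel], mulVec_add, hA.2 dy hdy0,
        show (x : Big) *ᵥ q = q + dx by rw [hdx, add_sub_cancel]]
      abel
    have e2 : (y : Big) *ᵥ ((x : Big) *ᵥ q) = q + dy + dx + tens (C *ᵥ ctr (formVec f₂ t) dx) v := by
      rw [show (x : Big) *ᵥ q = q + dx by rw [hdx, add_sub_cancel], mulVec_add, hC.2 dx hdx0,
        show (y : Big) *ᵥ q = q + dy by rw [hdy, add_sub_cancel]]
      abel
    have e3 : (x'' : Big) *ᵥ ((y : Big) *ᵥ ((x : Big) *ᵥ q)) = (x : Big) *ᵥ ((y : Big) *ᵥ q) := by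
      rw [← gl_mul_mulVec, ← gl_mul_mulVec, ← gl_mul_mulVec]
      congr 2
      show x * y * x⁻¹ * y⁻¹ * y * x = x * y
      group
    have hrest : ctr (formVec f₂ v) (dy + dx + tens (C *ᵥ ctr (formVec f₂ t) dx) v) = 0 := by
      rw [ctr_add, ctr_add, hdx0, hdy0, D.ctr_form_tens, hvv, zero_smul, add_zero, add_zero]
    rw [e1, e2, add_assoc q, add_assoc q, mulVec_add, hperp _ hrest] at e3
    have hs : ctr (formVec f₂ s) dy = -(C' *ᵥ a) :=
      hdelta hy hCC hC hsv (by rw [hf.comm, hts]) a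
    have ht : ctr (formVec f₂ t) dx = -(A' *ᵥ a) := hdelta hx hAA hA htv hts a
    rw [hs, ht, mulVec_neg, mulVec_neg, mulVec_mulVec, mulVec_mulVec] at e3
    rw [sub_mulVec, tens_sub_left]
    have e4 : ∀ b : V1, tens (-b) v = -tens b v := fun b => by
      rw [← neg_one_smul F, tens_smul_left, neg_one_smul]
    rw [e4, e4] at e3
    linear_combination (norm := module) e3
  refine ⟨x'', hM, Matrix.mulVec_injective (funext fun z => ?_)⟩
  rw [add_mulVec, one_mulVec, el_mulVec]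
  set c := ctr (formVec f₂ v) z
  have hz0 : ctr (formVec f₂ v) (z - tens c w) = 0 := by
    rw [ctr_sub, D.ctr_form_tens, hw, one_smul, sub_self]
  conv_lhs => rw [← sub_add_cancel z (tens c w), mulVec_add, hperp _ hz0, hq]
  abel

/-- The elements `el (C A' - A C')` at every singular vector. -/
theorem el_all {A A' C C' : A1} (hA : AllHas f₂ M A) (hC : AllHas f₂ M C) (hAA : AdjPair f₁ A A')
    (hCC : AdjPair f₁ C C') {v : V2} (hv : v ≠ 0) (hvv : f₂ v v = 0) :
    InM M (el (C * A' - A * C') v (formVec f₂ v)) := by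
  obtain ⟨r, hrv, -, hrr⟩ := D.sym.exists_aniso_pair D.hk v v
  refine el_of_comm D hv hvv hrv (t := (f₂ r r)⁻¹ • r) ?_ ?_ hAA hCC (hA v hv hvv r hrv) (hC v hv hvv _ ?_)
  · rw [D.sym.smulL, hrv, mul_zero]
  · rw [D.sym.smulL, inv_mul_cancel₀ hrr]
  · rw [D.sym.smulL, hrv, mul_zero]

theorem allHas_adj {A A' : A1} (hA : AllHas f₂ M A) (hAA : AdjPair f₁ A A') : AllHas f₂ M A' := by
  obtain ⟨v, hv, hvv⟩ := D.sym.exists_iso (by have := D.hk; omega)
  have h1 : AdjPair f₁ (1 : A1) 1 := fun u u' => by rw [one_mulVec, one_mulVec]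
  have h := allHas_of_el D hv hvv (el_all D (allHas_one D) hA h1 hAA hv hvv)
  rw [mul_one, one_mul] at h
  have h2 := allHas_add D hA (allHas_smul D h (-1))
  convert h2 using 1
  module

/-- Every coefficient skew for the first form is at every singular vector, when all coefficients are available. -/
theorem el_skew (hall : ∀ A : A1, AllHas f₂ M A) {A : A1} (hA : AdjPair f₁ A (-A)) {v : V2} (hv : v ≠ 0)
    (hvv : f₂ v v = 0) : InM M (el A v (formVec f₂ v)) := by
  have h1 : AdjPair f₁ (1 : A1) 1 := fun u u' => by rw [one_mulVec, one_mulVec]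
  have hA2 : AdjPair f₁ ((2 : F)⁻¹ • A) ((2 : F)⁻¹ • (-A)) := fun u u' => by
    rw [smul_mulVec, smul_mulVec, D.h1.lin.smul_left, D.h1.smul_right, hA u u', RingHom.id_apply]
  have h := el_all D (hall 1) (hall ((2 : F)⁻¹ • A)) h1 hA2 hv hvv
  rw [mul_one, one_mul, smul_neg, sub_neg_eq_add, ← add_smul] at h
  rwa [show (2 : F)⁻¹ + (2 : F)⁻¹ = 1 by have := D.sym.two; field_simp; norm_num, one_smul] at h

/-- The coefficient algebra. -/
def coeff : Subalgebra F (Matrix (Fin m) (Fin m) F) where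
  carrier := {A | AllHas f₂ M A}
  mul_mem' := allHas_mul D
  add_mem' := allHas_add D
  algebraMap_mem' c := by
    show AllHas f₂ M _
    rw [Algebra.algebraMap_eq_smul_one]
    exact allHas_smul D (allHas_one D) c

omit [Finite F] D in
theorem allHas_conj {g g' : A1} (hgg' : g * g' = 1) {h : G} (hh : h ∈ M)
    (hval : (h : Big) = g ⊗ₖ (1 : A2)) {A : A1} (hA : AllHas f₂ M A) : AllHas f₂ M (g * A * g') := by
  intro v hv hvv s hs
  obtain ⟨x, hx, h1, h2⟩ := hA v hv hvv s hs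
  have hinv : ((h⁻¹ : G) : Big) = g' ⊗ₖ (1 : A2) :=
    Units.inv_eq_of_mul_eq_one_right (by rw [hval, ← Matrix.mul_kronecker_mul, hgg', one_mul, one_kronecker_one])
  have hctr : ∀ (g : A1) (φ : V2) z, ctr φ ((g ⊗ₖ (1 : A2)) *ᵥ z) = g *ᵥ ctr φ z := by
    intro g φ z
    funext i
    simp only [ctr, mulVec, dotProduct, kroneckerMap_apply, Matrix.one_apply, Fintype.sum_prod_type, mul_ite,
      mul_one, mul_zero, ite_mul, zero_mul, Finset.sum_ite_eq, Finset.mem_univ, if_true, Finset.mul_sum]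
    rw [Finset.sum_comm]
    exact Finset.sum_congr rfl fun j _ => Finset.sum_congr rfl fun c _ => by ring
  refine ⟨h * x * h⁻¹, M.mul_mem (M.mul_mem hh hx) (M.inv_mem hh), fun u => ?_, fun z hz => ?_⟩
  · rw [gl_mul_mulVec, gl_mul_mulVec, hinv, kron_mulVec_tens, one_mulVec, h1, hval, kron_mulVec_tens,
      one_mulVec, mulVec_mulVec, hgg', one_mulVec]
  · have hz' : ctr (formVec f₂ v) (((h⁻¹ : G) : Big) *ᵥ z) = 0 := by rw [hinv, hctr, hz, mulVec_zero]
    rw [gl_mul_mulVec, gl_mul_mulVec, h2 _ hz', mulVec_add, gl_mulVec_inv]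
    dsimp only
    rw [hinv, hctr, hval, kron_mulVec_tens, one_mulVec, mulVec_mulVec, mulVec_mulVec]

end Cfsg.Agent.Lib.TensorOrthMax.Radical
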