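import Cfsg.Agent.Lib.TensorOrthMax.Line
import Cfsg.Agent.Lib.TensorFormMax.SylowArg

/-!
An overgroup of the tensor product stabiliser that meets the unipotent radicals of the block stabilisers inside
it lies in the stabiliser, when the larger factor is orthogonal.
-/

set_option autoImplicit false

namespace Cfsg.Agent.Lib.TensorOrthMax.Rigid

open Matrix Kronecker
open Cfsg.Agent.Lib.Subspaces.Transvection Cfsg.Agent.Lib.Subspaces.FormVec
  Cfsg.Agent.Lib.TensorMax.Block Cfsg.Agent.Lib.TensorMax.Lemmas Cfsg.Agent.Lib.TensorFormMax.Basic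
  Cfsg.Agent.Lib.TensorOrthMax.Side Cfsg.Agent.Lib.TensorOrthMax.Setup Cfsg.Agent.Lib.TensorOrthMax.Fusion

variable {F : Type*} [Field F] {m k : ℕ}

local notation "V1" => Fin m → F
local notation "V2" => Fin k → F
local notation "Vec" => Fin m × Fin k → F
local notation "Big" => Matrix (Fin m × Fin k) (Fin m × Fin k) F
local notation "A1" => Matrix (Fin m) (Fin m) F
local notation "A2" => Matrix (Fin k) (Fin k) F
local notation "G" => GL (Fin m × Fin k) F

variable {ε : F} {f₁ : (Fin m → F) → (Fin m → F) → F} {f₂ : (Fin k → F) → (Fin k → F) → F}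
  {B : (Fin m × Fin k → F) → (Fin m × Fin k → F) → F} {M : Subgroup (GL (Fin m × Fin k) F)}

theorem eich_pow (D : Data ε f₁ f₂ B M) {p : ℕ} [CharP F p] {R : G} {v z : V2} (hv : f₂ v v = 0)
    (hzv : f₂ z v = 0) (hR : (R : Big) = (1 : A1) ⊗ₖ (1 + eN f₂ v z)) : R ^ p = 1 := by
  refine Units.ext ?_
  have hpow : ∀ i : ℕ, (1 + eN f₂ v z) ^ i = 1 + eN f₂ v ((i : F) • z) := fun i => by
    induction i with
    | zero => rw [pow_zero, Nat.cast_zero, zero_smul, eN_zero D.sym, add_zero]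
    | succ i ih =>
      rw [pow_succ, ih, eN_add D.sym hv (by rw [D.sym.smulL, hzv, mul_zero]) hzv, Nat.cast_succ, add_smul,
        one_smul]
  rw [Units.val_pow_eq_pow_val, hR, kronecker_pow', one_pow, hpow, CharP.cast_eq_zero, zero_smul,
    eN_zero D.sym, add_zero, one_kronecker_one, Units.val_one]

theorem closure_rel {S : Set G} (U : Submodule F Vec) (h : ∀ s ∈ S, ∀ y, (s : Big) *ᵥ y - y ∈ U)
    {c : G} (hc : c ∈ Subgroup.closure S) : ∀ y, (c : Big) *ᵥ y - y ∈ U := by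
  induction hc using Subgroup.closure_induction with
  | mem s hs => exact h s hs
  | one => intro y; simp
  | mul a b _ _ ha hb =>
    intro y
    rw [gl_mul_mulVec, ← sub_add_sub_cancel ((a : Big) *ᵥ ((b : Big) *ᵥ y)) ((b : Big) *ᵥ y) y]
    exact U.add_mem (ha _) (hb y)
  | inv a _ ha =>
    intro y
    have := U.neg_mem (ha (((a⁻¹ : G) : Big) *ᵥ y))
    rwa [gl_mulVec_inv, neg_sub] at this

theorem closure_fix {S : Set G} {y : Vec} (h : ∀ s ∈ S, (s : Big) *ᵥ y = y) {c : G}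
    (hc : c ∈ Subgroup.closure S) : (c : Big) *ᵥ y = y := by
  induction hc using Subgroup.closure_induction with
  | mem s hs => exact h s hs
  | one => simp
  | mul a b _ _ ha hb => rw [gl_mul_mulVec, hb, ha]
  | inv a _ ha => conv_lhs => rw [← ha, gl_inv_mulVec]

theorem tot_of_B (D : Data ε f₁ f₂ B M) {g : G} (hg : g ∈ M) {P P' : Submodule F V2}
    (hP : ∀ x ∈ P, ∀ y ∈ P, f₂ x y = 0) (h : Tn m P' ≤ (Tn m P).map (g : Big).mulVecLin) :
    ∀ x ∈ P', ∀ y ∈ P', f₂ x y = 0 := by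
  intro x hx y hy
  obtain ⟨a, b, hab⟩ := D.exists_pair
  obtain ⟨x', hx', ex⟩ := h (tens_mem_Tn a hx)
  obtain ⟨y', hy', ey⟩ := h (tens_mem_Tn b hy)
  have e : B (tens a x) (tens b y) = 0 := by
    rw [← ex, ← ey, Matrix.mulVecLin_apply, Matrix.mulVecLin_apply, D.iso g hg, ← sum_tens_slice y']
    let L : Vec →+ F := AddMonoidHom.mk' (B x') (D.addR x')
    show L _ = 0
    rw [map_sum]
    refine Finset.sum_eq_zero fun i _ => ?_
    show B _ _ = 0
    rw [D.hB, D.ctr_eq_zero_iff.2 fun j => hP _ (hx' j) _ (hy' i), form_zero_left D.h1.lin]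
  rw [D.B_tens] at e
  exact (mul_eq_zero.1 e).resolve_right hab

variable [Finite F]

/-- An element carrying the tensors over a totally singular plane to such a space over another plane and
otherwise agreeing with stabiliser elements carries a block to a block. -/
theorem agreement (D : Data ε f₁ f₂ B M)
    (hstep : ∀ {x : G}, x ∈ M → ∀ {v z : V2}, Seed f₂ v z → f₂ z z ≠ 0 → ∀ {R : G}, R ∈ M →
      (R : Big) = (1 : A1) ⊗ₖ (1 + eN f₂ v z) → x * R * x⁻¹ ∈ Cfsg.Geo.kroneckerSubgroup m k F →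
      x ∈ Cfsg.Geo.kroneckerSubgroup m k F)
    {g : G} (hg : g ∈ M) {v z v0 z0 : V2} (hs : Seed f₂ v z) (hzz : f₂ z z ≠ 0) (hs0 : Seed f₂ v0 z0)
    (hzz0 : f₂ z0 z0 ≠ 0) :
    ∃ h ∈ M, h ∈ Cfsg.Geo.kroneckerSubgroup m k F ∧ ∀ x : Vec,
      (∀ i, f₂ (slice x i) v = 0 ∧ f₂ (slice x i) z = 0) →
      (∀ i, f₂ (slice ((g : Big) *ᵥ x) i) v0 = 0 ∧ f₂ (slice ((g : Big) *ᵥ x) i) z0 = 0) →
      (g : Big) *ᵥ x = (h : Big) *ᵥ x := by
  have := Fintype.ofFinite F
  obtain ⟨p, hchar⟩ := CharP.exists F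
  have : Fact p.Prime := ⟨CharP.char_is_prime F p⟩
  obtain ⟨R, hRM, hRk, hR⟩ := D.exists_eich hs.iso hs.orth
  obtain ⟨R0, hR0M, -, hR0⟩ := D.exists_eich hs0.iso hs0.orth
  set s : G := g⁻¹ * R0 * g with hsdef
  have hsM : s ∈ M := M.mul_mem (M.mul_mem (M.inv_mem hg) hR0M) hg
  have hK : Subgroup.closure ({R, s} : Set G) ≤ M := by
    rw [Subgroup.closure_le]; rintro x (rfl | rfl) <;> assumption
  obtain ⟨c, hc, hck⟩ := Cfsg.Agent.Lib.TensorFormMax.SylowArg.exists_conj_mem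
    (Cfsg.Geo.kroneckerSubgroup m k F) (t := R) (s := s) (eich_pow D (p := p) hs.iso hs.orth hR)
    (by
      have := conj_pow (i := p) (a := g⁻¹) (b := R0)
      rw [inv_inv] at this
      rw [hsdef, this, eich_pow D hs0.iso hs0.orth hR0, mul_one, inv_mul_cancel])
    hRk (fun x hx hxk => hstep (hK hx) hs hzz hRM hR hxk)
  have hgc : g * c ∈ M := M.mul_mem hg (hK hc)
  have hh : (g * c)⁻¹ ∈ Cfsg.Geo.kroneckerSubgroup m k F := by
    refine hstep (M.inv_mem hgc) hs0 hzz0 hR0M hR0 ?_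
    rw [hsdef] at hck
    simpa [mul_assoc] using hck
  refine ⟨g * c, hgc, by simpa using inv_mem hh, fun x hx hgx => ?_⟩
  rw [gl_mul_mulVec, closure_fix (y := x) ?_ hc]
  rintro t (rfl | rfl)
  · exact D.eich_fix hR hx
  · rw [hsdef, gl_mul_mulVec, gl_mul_mulVec, D.eich_fix hR0 hgx, gl_inv_mulVec]

/-- A conjugate of the Eichler element of an anisotropic seed that is in the stabiliser. -/
theorem step_aniso (D : Data ε f₁ f₂ B M) (hne : m < k ∨ ε = -1) (hNR : NoRadical f₂ M) {x : G} (hx : x ∈ M)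
    {v z : V2} (hs : Seed f₂ v z) (hzz : f₂ z z ≠ 0) {R : G} (hRM : R ∈ M)
    (hR : (R : Big) = (1 : A1) ⊗ₖ (1 + eN f₂ v z))
    (hk : x * R * x⁻¹ ∈ Cfsg.Geo.kroneckerSubgroup m k F) : x ∈ Cfsg.Geo.kroneckerSubgroup m k F := by
  obtain ⟨v', hv', -, himg⟩ := fusion D hne hx hs hzz hRM hR hk
  exact Line.mem_of_line D hne hNR hx hs.ne hs.iso hv' himg

omit [Finite F] in
theorem pure_of_kron {h : G} (hh : h ∈ Cfsg.Geo.kroneckerSubgroup m k F) (a : V1) (w : V2) :
    ∃ (a' : V1) (w' : V2), (h : Big) *ᵥ tens a w = tens a' w' := by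
  obtain ⟨p, q, e⟩ := hh
  exact ⟨_, _, by rw [e, kron_mulVec_tens]⟩

theorem aniso_seed (D : Data ε f₁ f₂ B M) {v : V2} (hv : v ≠ 0) (hvv : f₂ v v = 0) (w : V2) :
    ∃ z, Seed f₂ v z ∧ f₂ z z ≠ 0 ∧ f₂ z w = 0 := by
  obtain ⟨z, hzv, hzw, hzz⟩ := D.sym.exists_aniso_pair D.hk v w
  exact ⟨z, ⟨hv, hvv, hzv, fun e => hzz (by
    obtain ⟨c, rfl⟩ := Submodule.mem_span_singleton.1 e
    exact D.sym.iso_smul hvv c)⟩, hzz, hzw⟩

/-- A conjugate of the Eichler element of a totally singular plane in the stabiliser: tensors over the plane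
go to tensors over a totally singular plane. -/
theorem fusion_singular (D : Data ε f₁ f₂ B M) (hne : m < k ∨ ε = -1) (hNR : NoRadical f₂ M) {x : G}
    (hx : x ∈ M) {v s : V2} (hs : Seed f₂ v s) (hss : f₂ s s = 0) {R : G} (hRM : R ∈ M)
    (hR : (R : Big) = (1 : A1) ⊗ₖ (1 + eN f₂ v s))
    (hk : x * R * x⁻¹ ∈ Cfsg.Geo.kroneckerSubgroup m k F) :
    ∃ P' : Submodule F V2, Module.finrank F P' = 2 ∧ (∀ y ∈ P', ∀ y' ∈ P', f₂ y y' = 0) ∧
      (Tn m (plane v s)).map (x : Big).mulVecLin = Tn m P' := by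
  classical
  have := Fintype.ofFinite F
  obtain ⟨p, hchar⟩ := CharP.exists F
  have : Fact p.Prime := ⟨CharP.char_is_prime F p⟩
  have hm := D.hm
  have hk5 := D.hk
  have hmk := D.hmk
  set N := eN f₂ v s with hN
  have hyM : x * R * x⁻¹ ∈ M := M.mul_mem (M.mul_mem hx hRM) (M.inv_mem hx)
  obtain ⟨A, Bm, hAB, hAp, hBp, -, -⟩ := exists_unipotent D hyM hk (p := p)
    (by rw [conj_pow, eich_pow D hs.iso hs.orth hR, mul_one, mul_inv_cancel])
  set X : Big := (x : Big) * ((1 : A1) ⊗ₖ N) * ((x⁻¹ : G) : Big) with hXdef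
  have hinv : ((x⁻¹ : G) : Big) * (x : Big) = 1 := by rw [← Units.val_mul, inv_mul_cancel, Units.val_one]
  have hinv' : (x : Big) * ((x⁻¹ : G) : Big) = 1 := by rw [← Units.val_mul, mul_inv_cancel, Units.val_one]
  have hX : X = A ⊗ₖ Bm + A ⊗ₖ (1 : A2) + (1 : A1) ⊗ₖ Bm := by
    have e : ((x * R * x⁻¹ : G) : Big) = 1 + X := by
      rw [Units.val_mul, Units.val_mul, hR, kronecker_add, one_kronecker_one, hXdef, mul_add, add_mul,
        mul_one, hinv']
    rw [hAB, add_kronecker, kronecker_add, kronecker_add, one_kronecker_one] at e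
    rw [eq_sub_iff_add_eq'.2 e.symm]; abel
  have hXapp : ∀ y, X *ᵥ ((x : Big) *ᵥ y) = (x : Big) *ᵥ (((1 : A1) ⊗ₖ N) *ᵥ y) := fun y => by
    rw [mulVec_mulVec, hXdef, Matrix.mul_assoc, hinv, mul_one, ← mulVec_mulVec]
  have hN2 : ∀ w, N *ᵥ (N *ᵥ w) = 0 := fun w => by
    rw [hN, eN_comp D.sym hs.iso hs.orth hs.orth, hss, mul_zero, neg_zero, zero_smul]
  have hXX : ∀ y, X *ᵥ (X *ᵥ y) = 0 := fun y => by
    obtain ⟨y, rfl⟩ : ∃ t, (x : Big) *ᵥ t = y := ⟨_, gl_mulVec_inv x y⟩
    rw [hXapp, hXapp, one_kron_eq_zero (N := N) fun i => by rw [slice_one_kron]; exact hN2 _, mulVec_zero]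
  have hrange : LinearMap.range X.mulVecLin = (Tn m (plane v s)).map (x : Big).mulVecLin := by
    have hr := range_one_kron (m := m) N
    rw [hN, eN_range_eq D hs] at hr
    have htop : LinearMap.range (x : Big).mulVecLin = ⊤ := by
      refine LinearMap.range_eq_top.2 fun y => ⟨((x⁻¹ : G) : Big) *ᵥ y, ?_⟩
      rw [Matrix.mulVecLin_apply, gl_mulVec_inv]
    rw [← hr, ← hN, ← LinearMap.range_comp, ← Matrix.mulVecLin_mul,
      show (x : Big) * ((1 : A1) ⊗ₖ N) = X * (x : Big) by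
        rw [hXdef, Matrix.mul_assoc ((x : Big) * _), hinv, mul_one],
      Matrix.mulVecLin_mul X (x : Big), LinearMap.range_comp_of_range_eq_top _ htop]
  have hXt : ∀ u w, X *ᵥ tens u w = tens (A *ᵥ u) (w + Bm *ᵥ w) + tens u (Bm *ᵥ w) := fun u w => by
    rw [hX, add_mulVec, add_mulVec, kron_mulVec_tens, kron_mulVec_tens, kron_mulVec_tens, one_mulVec, one_mulVec,
      tens_add_right]
    abel
  have hXXt : ∀ u w, tens (A *ᵥ (A *ᵥ u)) (w + Bm *ᵥ w + Bm *ᵥ (w + Bm *ᵥ w)) +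
        (2 : F) • tens (A *ᵥ u) (Bm *ᵥ (w + Bm *ᵥ w)) + tens u (Bm *ᵥ (Bm *ᵥ w)) = 0 := fun u w => by
    conv_rhs => rw [← hXX (tens u w), hXt, mulVec_add, hXt, hXt]
    simp only [mulVec_add, tens_add_right]
    module
  have hun : Function.Injective ((1 + Bm).mulVec) :=
    Matrix.mulVec_injective_iff_isUnit.2 (IsNilpotent.isUnit_one_add ⟨p, hBp⟩)
  have hbz : ∀ w, w + Bm *ᵥ w = 0 → w = 0 := fun w h => by
    apply hun
    rw [mulVec_zero, add_mulVec, one_mulVec, h]
  have hA0 : A = 0 := by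
    by_contra hA0
    have hAA : A * A = 0 := by
      by_contra hAA
      obtain ⟨u, hu⟩ := mulVec_sq_ne hAA
      obtain ⟨χ, hχ, hχu⟩ : ∃ χ : V1, (∀ t ∈ plane u (A *ᵥ u), χ ⬝ᵥ t = 0) ∧
          χ ⬝ᵥ (A *ᵥ (A *ᵥ u)) = 1 := by
        refine exists_functional fun h => ?_
        obtain ⟨α, β, h'⟩ := mem_plane.1 h
        have := (coeff3 hAp hu (α := α) (β := β) (γ := -1) (by rw [h']; module)).2.2
        exact one_ne_zero (neg_eq_zero.1 this)
      set w : V2 := Pi.single ⟨0, by omega⟩ 1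
      have hw : w ≠ 0 := by simp [w]
      have e := congrArg (ctr1 χ) (hXXt u w)
      rw [ctr1_add, ctr1_add, ctr1_smul, ctr1_tens, ctr1_tens, ctr1_tens, hχ u (left_mem_plane _ _),
        hχ _ (right_mem_plane u (A *ᵥ u)), hχu, one_smul, zero_smul, zero_smul, smul_zero, add_zero, add_zero,
        show ctr1 χ (0 : Vec) = 0 by ext d; simp [ctr1]] at e
      exact hw (hbz w (hbz _ e))
    obtain ⟨u, hu⟩ : ∃ u, A *ᵥ u ≠ 0 := by
      by_contra hc
      push Not at hc
      exact hA0 (Matrix.mulVec_injective (funext fun u => by rw [hc, zero_mulVec]))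
    obtain ⟨χ, hχ, hχu⟩ : ∃ χ : V1, (∀ t ∈ Submodule.span F {u}, χ ⬝ᵥ t = 0) ∧ χ ⬝ᵥ (A *ᵥ u) = 1 := by
      refine exists_functional fun h => ?_
      obtain ⟨c, hc⟩ := Submodule.mem_span_singleton.1 h
      have h1 : A *ᵥ (A *ᵥ u) = c • (A *ᵥ u) := by rw [← mulVec_smul, hc]
      rw [mulVec_mulVec, hAA, zero_mulVec, eq_comm, smul_eq_zero] at h1
      rw [h1.resolve_right hu, zero_smul] at hc
      exact hu hc.symm
    have hB0 : ∀ w, Bm *ᵥ w = 0 := fun w => by
      have e := congrArg (ctr1 χ) (hXXt u w)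
      rw [mulVec_mulVec (u) A A, hAA, zero_mulVec, tens_zero_left, zero_add, ctr1_add, ctr1_smul, ctr1_tens,
        ctr1_tens, hχ u (Submodule.mem_span_singleton_self u), hχu, one_smul, zero_smul, add_zero,
        show ctr1 χ (0 : Vec) = 0 by ext d; simp [ctr1], smul_eq_zero] at e
      refine hbz _ ?_
      rw [← mulVec_add]
      exact e.resolve_left D.sym.two
    -- a row of the first factor does not fit over a plane
    obtain ⟨v1, hv1, hv11⟩ := D.sym.exists_iso (by omega)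
    obtain ⟨z1, hz1, hz11, -⟩ := aniso_seed D hv1 hv11 v1
    obtain ⟨zD, hzD, hzzD, hperpD⟩ := D.sym.exists_seed_plane hk5 hs.ne hs.iso hss hs.orth
    obtain ⟨h, hhM, hhk, hh⟩ := agreement D (fun {_} hx' {_ _} h1 h2 {_} => step_aniso D hne hNR hx' h1 h2)
      (M.inv_mem hx) hz1 hz11 hzD hzzD
    obtain ⟨pa, qb, hpq⟩ := hhk
    set a1 := A *ᵥ u
    let W : Submodule F V2 := LinearMap.ker (Matrix.mulVecLin (Matrix.of ![formVec f₂ v1, formVec f₂ z1]))
    have hW : 3 ≤ Module.finrank F W := by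
      have h1 := LinearMap.finrank_range_add_finrank_ker
        (Matrix.mulVecLin (Matrix.of ![formVec f₂ v1, formVec f₂ z1]))
      have h2 := Submodule.finrank_le
        (LinearMap.range (Matrix.mulVecLin (Matrix.of ![formVec f₂ v1, formVec f₂ z1])))
      rw [Module.finrank_fin_fun] at h1 h2
      change 3 ≤ Module.finrank F
        (LinearMap.ker (Matrix.mulVecLin (Matrix.of ![formVec f₂ v1, formVec f₂ z1])))
      omega
    have hWmem : ∀ w ∈ W, f₂ w v1 = 0 ∧ f₂ w z1 = 0 := fun w hw => by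
      have h1 := congrFun (LinearMap.mem_ker.1 hw) 0
      have h2 := congrFun (LinearMap.mem_ker.1 hw) 1
      simp only [Matrix.mulVecLin_apply, mulVec, Matrix.of_apply, Matrix.cons_val_zero, Matrix.cons_val_one] at h1 h2
      rw [D.sym.dot] at h1 h2
      exact ⟨h1, h2⟩
    have hle : W.map (qb : A2).mulVecLin ≤ plane v s := by
      rintro _ ⟨w, hw, rfl⟩
      have hmem : tens a1 w ∈ LinearMap.range X.mulVecLin :=
        ⟨tens u w, by rw [Matrix.mulVecLin_apply, hXt, hB0, add_zero, tens_zero_right, add_zero]⟩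
      rw [hrange] at hmem
      obtain ⟨t, ht, het⟩ := hmem
      have het' : ((x⁻¹ : G) : Big) *ᵥ tens a1 w = t := by
        rw [← het, Matrix.mulVecLin_apply, gl_inv_mulVec]
      have hsl : ∀ i, f₂ (slice (tens a1 w) i) v1 = 0 ∧ f₂ (slice (tens a1 w) i) z1 = 0 := fun i => by
        show f₂ (a1 i • w) v1 = 0 ∧ f₂ (a1 i • w) z1 = 0
        rw [D.sym.smulL, D.sym.smulL, (hWmem w hw).1, (hWmem w hw).2, mul_zero]
        exact ⟨rfl, rfl⟩
      have e := hh _ hsl fun i => by rw [het']; exact hperpD _ (ht i)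
      rw [het', hpq, kron_mulVec_tens] at e
      obtain ⟨i, hi⟩ : ∃ i, ((pa : A1) *ᵥ a1) i ≠ 0 := Function.ne_iff.1 fun e0 =>
        hu (gl_mulVec_injective pa (show (pa : A1) *ᵥ a1 = (pa : A1) *ᵥ 0 by rw [e0, mulVec_zero]; rfl))
      have := ht i
      rw [e] at this
      have h3 := Submodule.smul_mem _ (((pa : A1) *ᵥ a1) i)⁻¹ this
      rwa [show slice (tens ((pa : A1) *ᵥ a1) ((qb : A2) *ᵥ w)) i = ((pa : A1) *ᵥ a1) i • ((qb : A2) *ᵥ w)
        from rfl, inv_smul_smul₀ hi] at h3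
    have h1 := Submodule.finrank_mono hle
    rw [← (Submodule.equivMapOfInjective _ (fun a b e => gl_mulVec_injective qb e) W).finrank_eq,
      finrank_plane hs.ne hs.indep] at h1
    omega
  have hX1 : X = (1 : A1) ⊗ₖ Bm := by rw [hX, hA0, zero_kronecker, zero_kronecker, zero_add, zero_add]
  have hmap : (Tn m (plane v s)).map (x : Big).mulVecLin = Tn m (LinearMap.range Bm.mulVecLin) := by
    rw [← hrange, hX1, range_one_kron]
  refine ⟨LinearMap.range Bm.mulVecLin, ?_, ?_, hmap⟩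
  · have h1 : Module.finrank F ((Tn m (plane v s)).map (x : Big).mulVecLin) = m * 2 := by
      rw [← (Submodule.equivMapOfInjective _ (fun a b e => gl_mulVec_injective x e) _).finrank_eq, finrank_Tn,
        finrank_plane hs.ne hs.indep]
    rw [hmap, finrank_Tn] at h1
    exact Nat.eq_of_mul_eq_mul_left (show 0 < m by omega) h1
  · exact tot_of_B D hx (fun y hy y' hy' => D.sym.iso_plane hs.iso hss hs.orth hy hy') hmap.ge

/-- An element of the group conjugating the Eichler element of a seed into the stabiliser is in it. -/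
theorem step (D : Data ε f₁ f₂ B M) (hne : m < k ∨ ε = -1) (hNR : NoRadical f₂ M) {x : G} (hx : x ∈ M)
    {v z : V2} (hs : Seed f₂ v z) {R : G} (hRM : R ∈ M)
    (hR : (R : Big) = (1 : A1) ⊗ₖ (1 + eN f₂ v z))
    (hk : x * R * x⁻¹ ∈ Cfsg.Geo.kroneckerSubgroup m k F) : x ∈ Cfsg.Geo.kroneckerSubgroup m k F := by
  by_cases hzz : f₂ z z = 0
  swap
  · exact step_aniso D hne hNR hx hs hzz hRM hR hk
  obtain ⟨P', hP2, hP', hmap⟩ := fusion_singular D hne hNR hx hs hzz hRM hR hk
  obtain ⟨b1, hb1m, hb1⟩ := Submodule.exists_mem_ne_zero_of_ne_bot (p := P') fun e => by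
    rw [e, finrank_bot] at hP2; omega
  obtain ⟨b2, hb2m, hb2⟩ : ∃ b2 ∈ P', b2 ∉ Submodule.span F {b1} := by
    by_contra hc
    push Not at hc
    have := Submodule.finrank_mono (show P' ≤ Submodule.span F {b1} from hc)
    rw [finrank_span_singleton hb1, hP2] at this
    omega
  have hPeq : P' = plane b1 b2 := (Submodule.eq_of_le_of_finrank_le
    (Submodule.span_le.2 (by rintro y (rfl | rfl) <;> assumption))
    (by rw [show Module.finrank F (Submodule.span F ({b1, b2} : Set V2)) = 2 from finrank_plane hb1 hb2, hP2])).symm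
  obtain ⟨zP, hzP, hzzP, hperpP⟩ := D.sym.exists_seed_plane D.hk hb1 (hP' _ hb1m _ hb1m) (hP' _ hb2m _ hb2m)
    (hP' _ hb2m _ hb1m)
  obtain ⟨zD, hzD, hzzD, hperpD⟩ := D.sym.exists_seed_plane D.hk hs.ne hs.iso hzz hs.orth
  obtain ⟨h, hhM, ⟨pa, qb, hpq⟩, hh⟩ := agreement D
    (fun {_} hx' {_ _} h1 h2 {_} => step_aniso D hne hNR hx' h1 h2) hx hzD hzzD hzP hzzP
  refine Line.mem_of_line D hne hNR hx hs.ne hs.iso (v' := (qb : A2) *ᵥ v)
    (fun e => hs.ne (gl_mulVec_injective qb (show (qb : A2) *ᵥ v = (qb : A2) *ᵥ 0 by rw [e, mulVec_zero])))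
    fun a => ⟨(pa : A1) *ᵥ a, ?_⟩
  have hmem : (x : Big) *ᵥ tens a v ∈ Tn m P' :=
    hmap ▸ Submodule.mem_map_of_mem (f := (x : Big).mulVecLin) (tens_mem_Tn a (left_mem_plane v z))
  rw [hh (tens a v) (fun i => hperpD _ (show a i • v ∈ plane v z from Submodule.smul_mem _ (a i) (left_mem_plane v z)))
    (fun i => hperpP _ (by rw [← hPeq]; exact hmem i)), hpq, kron_mulVec_tens]

/-- The tensors over a totally singular plane are moved to the tensors over one, up to the moved part. -/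
theorem key (D : Data ε f₁ f₂ B M) (hne : m < k ∨ ε = -1) (hNR : NoRadical f₂ M) {g : G} (hg : g ∈ M)
    {v s : V2} (hs : Seed f₂ v s) (hss : f₂ s s = 0) {v0 z0 : V2} (hs0 : Seed f₂ v0 z0) :
    ∃ P : Submodule F V2, Module.finrank F P = 2 ∧ (∀ y ∈ P, ∀ y' ∈ P, f₂ y y' = 0) ∧
      Tn m P ≤ (Tn m (plane v s)).map (g : Big).mulVecLin ⊔ Tn m (plane v0 z0) ∧
      ∀ w ∈ (Tn m (plane v s)).map (g : Big).mulVecLin,
        (∀ i, f₂ (slice w i) v0 = 0 ∧ f₂ (slice w i) z0 = 0) → w ∈ Tn m P := by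
  have := Fintype.ofFinite F
  obtain ⟨p, hchar⟩ := CharP.exists F
  have : Fact p.Prime := ⟨CharP.char_is_prime F p⟩
  obtain ⟨R, hRM, hRk, hR⟩ := D.exists_eich hs.iso hs.orth
  obtain ⟨R0, hR0M, -, hR0⟩ := D.exists_eich hs0.iso hs0.orth
  set r : G := g⁻¹ * R0 * g with hrdef
  have hK : Subgroup.closure ({R, r} : Set G) ≤ M := by
    rw [Subgroup.closure_le]
    rintro x (rfl | rfl)
    exacts [hRM, M.mul_mem (M.mul_mem (M.inv_mem hg) hR0M) hg]
  obtain ⟨c, hc, hck⟩ := Cfsg.Agent.Lib.TensorFormMax.SylowArg.exists_conj_mem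
    (Cfsg.Geo.kroneckerSubgroup m k F) (t := R) (s := r) (eich_pow D (p := p) hs.iso hs.orth hR)
    (by
      have := conj_pow (i := p) (a := g⁻¹) (b := R0)
      rw [inv_inv] at this
      rw [hrdef, this, eich_pow D hs0.iso hs0.orth hR0, mul_one, inv_mul_cancel])
    hRk (fun x hx hxk => step D hne hNR (hK hx) hs hRM hR hxk)
  have hgc : g * c ∈ M := M.mul_mem hg (hK hc)
  have hh : (g * c)⁻¹ ∈ Cfsg.Geo.kroneckerSubgroup m k F := by
    refine step D hne hNR (M.inv_mem hgc) hs0 hR0M hR0 ?_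
    rw [hrdef] at hck
    simpa [mul_assoc] using hck
  obtain ⟨pa, qb, hpq⟩ : g * c ∈ Cfsg.Geo.kroneckerSubgroup m k F := by simpa using inv_mem hh
  set P := (plane v s).map (qb : A2).mulVecLin with hPdef
  have hfin : Module.finrank F P = 2 := by
    rw [hPdef, ← (Submodule.equivMapOfInjective _ (fun a b e => gl_mulVec_injective qb e) _).finrank_eq,
      finrank_plane hs.ne hs.indep]
  have hin : ∀ y ∈ Tn m (plane v s), ((g * c : G) : Big) *ᵥ y ∈ Tn m P := fun y hy => by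
    rw [hpq]; exact kron_mem_Tn hy
  have heq : (Tn m (plane v s)).map ((g * c : G) : Big).mulVecLin = Tn m P :=
    Submodule.eq_of_le_of_finrank_le (by rintro _ ⟨y, hy, rfl⟩; exact hin y hy) (by
      rw [finrank_Tn, hfin, ← (Submodule.equivMapOfInjective _ (fun a b e => gl_mulVec_injective (g * c) e) _).finrank_eq,
        finrank_Tn, finrank_plane hs.ne hs.indep])
  refine ⟨P, hfin, tot_of_B D hgc (fun y hy y' hy' => D.sym.iso_plane hs.iso hss hs.orth hy hy') heq.ge, ?_, ?_⟩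
  · rw [← heq]
    rintro _ ⟨y, hy, rfl⟩
    set U := Tn m (plane v s) ⊔ (Tn m (plane v0 z0)).map ((g⁻¹ : G) : Big).mulVecLin
    have hU := closure_rel U (S := {R, r}) ?_ hc y
    swap
    · rintro t (rfl | rfl) w
      · rw [D.eich_apply hR, add_sub_cancel_left]
        exact Submodule.mem_sup_left (D.eich_mem_Tn v s w)
      · refine Submodule.mem_sup_right ⟨_, D.eich_mem_Tn v0 z0 ((g : Big) *ᵥ w), ?_⟩
        rw [hrdef, gl_mul_mulVec, gl_mul_mulVec, D.eich_apply hR0, mulVec_add, gl_inv_mulVec, add_sub_cancel_left,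
          Matrix.mulVecLin_apply]
    have hcy : (c : Big) *ᵥ y ∈ U := by
      have := U.add_mem hU (Submodule.mem_sup_left hy)
      rwa [sub_add_cancel] at this
    obtain ⟨p1, hp1, q1, hq1, hpq1⟩ := Submodule.mem_sup.1 hcy
    obtain ⟨q0, hq0, rfl⟩ := hq1
    rw [Matrix.mulVecLin_apply, gl_mul_mulVec, ← hpq1, mulVec_add, Matrix.mulVecLin_apply, gl_mulVec_inv]
    exact Submodule.add_mem _ (Submodule.mem_sup_left ⟨p1, hp1, rfl⟩) (Submodule.mem_sup_right hq0)
  · rintro _ ⟨y, hy, rfl⟩ hw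
    rw [Matrix.mulVecLin_apply] at hw ⊢
    have hfix : (c : Big) *ᵥ y = y := by
      refine closure_fix ?_ hc
      rintro t (rfl | rfl)
      · exact D.eich_fix hR fun i => ⟨D.sym.iso_plane hs.iso hss hs.orth (hy i) (left_mem_plane v s),
          D.sym.iso_plane hs.iso hss hs.orth (hy i) (right_mem_plane v s)⟩
      · rw [hrdef, gl_mul_mulVec, gl_mul_mulVec, D.eich_fix hR0 hw, gl_inv_mulVec]
    rw [← hfix, ← gl_mul_mulVec]
    exact hin y hy

/-- The part of the image over three vectors: either it has a dimension count, or lies over a plane. -/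
theorem part (D : Data ε f₁ f₂ B M) (hne : m < k ∨ ε = -1) (hNR : NoRadical f₂ M) {g : G} (hg : g ∈ M)
    {v s : V2} (hs : Seed f₂ v s) (hss : f₂ s s = 0) {v0 z0 d : V2} (hs0 : Seed f₂ v0 z0) (hzz0 : f₂ z0 z0 ≠ 0)
    (hdd : f₂ d d = 0) (hdv0 : f₂ d v0 = 0)
    (hd : Tn m (Submodule.span F {d}) ≤ (Tn m (plane v s)).map (g : Big).mulVecLin ⊔ Tn m (plane v0 z0))
    (hdn : d ∉ Submodule.span F {v0}) :
    ∃ (L P : Submodule F V2), d ∈ L ∧ v0 ∈ L ∧ Module.finrank F P = 2 ∧ (∀ y ∈ P, ∀ y' ∈ P, f₂ y y' = 0) ∧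
      m ≤ Module.finrank F ((Tn m (plane v s)).map (g : Big).mulVecLin ⊓ Tn m (L ⊓ P) : Submodule F Vec) ∧
      (Module.finrank F (L ⊓ P : Submodule F V2) ≤ 1 ∨ (P ≤ L ∧ v0 ∈ P)) ∧
      (f₂ d z0 = 0 → ∀ w ∈ (Tn m (plane v s)).map (g : Big).mulVecLin,
        (∀ i, slice w i ∈ Submodule.span F {d}) → w ∈ Tn m P) := by
  have hf := D.sym
  have hk := D.hk
  have hv0 := hs0.ne
  have hd0 : d ∉ plane v0 z0 := fun e => by
    obtain ⟨a, b, rfl⟩ := mem_plane.1 e
    simp only [hf.addL, hf.addR, hf.smulL, hf.smulR, hs0.iso, hs0.orth, hf.comm z0 v0] at hdd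
    have hb : b = 0 := by
      have : b * b * f₂ z0 z0 = 0 := by linear_combination hdd
      simpa [hzz0] using this
    exact hdn (Submodule.mem_span_singleton.2 ⟨a, by rw [hb, zero_smul, add_zero]⟩)
  set L : Submodule F V2 := Submodule.span F {d} ⊔ plane v0 z0 with hLdef
  have hdL : d ∈ L := Submodule.mem_sup_left (Submodule.mem_span_singleton_self d)
  have hv0L : v0 ∈ L := Submodule.mem_sup_right (left_mem_plane v0 z0)
  have hz0L : z0 ∈ L := Submodule.mem_sup_right (right_mem_plane v0 z0)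
  have hdne : d ≠ 0 := fun e => hdn (by rw [e]; exact Submodule.zero_mem _)
  have hL3 : Module.finrank F L = 3 := by
    have h := Submodule.finrank_sup_add_finrank_inf_eq (Submodule.span F {d}) (plane v0 z0)
    have h0 : Submodule.span F {d} ⊓ plane v0 z0 = ⊥ := by
      rw [eq_bot_iff]
      rintro y ⟨hy1, hy2⟩
      obtain ⟨c, rfl⟩ := Submodule.mem_span_singleton.1 hy1
      by_cases hc : c = 0
      · simp [hc]
      · exact absurd (by simpa [smul_smul, inv_mul_cancel₀ hc] using Submodule.smul_mem _ c⁻¹ hy2) hd0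
    rw [h0, finrank_bot, finrank_span_singleton hdne, finrank_plane hv0 hs0.indep, ← hLdef] at h
    omega
  -- the singular vector orthogonal to all three
  obtain ⟨u, hu0, hu, huz⟩ : ∃ u, u ≠ 0 ∧ u ∈ plane d v0 ∧ f₂ u z0 = 0 ∧ (f₂ d z0 = 0 → u = d) := by
    by_cases hdz : f₂ d z0 = 0
    · exact ⟨d, hdne, left_mem_plane d v0, hdz, fun _ => rfl⟩
    · refine ⟨v0, hv0, right_mem_plane d v0, ?_, fun e => absurd e hdz⟩
      rw [hf.comm]; exact hs0.orth
  obtain ⟨huz, hud⟩ := huz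
  have huP := fun y (hy : y ∈ plane d v0) => hf.iso_plane hdd hs0.iso (by rw [hf.comm]; exact hdv0) hu hy
  have huu : f₂ u u = 0 := huP u hu
  have hLu : ∀ y ∈ L, f₂ y u = 0 := fun y hy => by
    obtain ⟨p1, hp1, q1, hq1, rfl⟩ := Submodule.mem_sup.1 hy
    obtain ⟨c, rfl⟩ := Submodule.mem_span_singleton.1 hp1
    obtain ⟨a, b, rfl⟩ := mem_plane.1 hq1
    rw [hf.addL, hf.addL, hf.smulL, hf.smulL, hf.smulL, hf.comm u d, huP d (left_mem_plane _ _), hf.comm u v0,
      huP v0 (right_mem_plane _ _), hf.comm u z0, huz]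
    ring
  have huL : u ∈ L := by
    obtain ⟨a, b, rfl⟩ := mem_plane.1 hu
    exact L.add_mem (L.smul_mem a hdL) (L.smul_mem b hv0L)
  obtain ⟨z, hzn, hz⟩ := hf.exists_perp (Submodule.span F {u}) ![d, v0, z0]
    (by rw [finrank_span_singleton hu0]; omega)
  have hLz : ∀ y ∈ L, f₂ y z = 0 := fun y hy => by
    obtain ⟨p1, hp1, q1, hq1, rfl⟩ := Submodule.mem_sup.1 hy
    obtain ⟨c, rfl⟩ := Submodule.mem_span_singleton.1 hp1
    obtain ⟨a, b, rfl⟩ := mem_plane.1 hq1
    have h0 : f₂ z d = 0 := hz 0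
    have h1 : f₂ z v0 = 0 := hz 1
    have h2 : f₂ z z0 = 0 := hz 2
    rw [hf.addL, hf.addL, hf.smulL, hf.smulL, hf.smulL, hf.comm z d, h0, hf.comm z v0, h1, hf.comm z z0, h2]
    ring
  have hseed : Seed f₂ u z := ⟨hu0, huu, by rw [hf.comm]; exact hLz u huL, hzn⟩
  obtain ⟨P, hP2, hP, -, hPw⟩ := key D hne hNR hg hs hss hseed
  set W := (Tn m (plane v s)).map (g : Big).mulVecLin
  refine ⟨L, P, hdL, hv0L, hP2, hP, ?_, ?_, ?_⟩
  · have hle : W ⊓ Tn m L ≤ W ⊓ Tn m (L ⊓ P) := fun w hw =>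
      ⟨hw.1, fun i => ⟨hw.2 i, hPw w hw.1 (fun j => ⟨hLu _ (hw.2 j), hLz _ (hw.2 j)⟩) i⟩⟩
    refine le_trans ?_ (Submodule.finrank_mono hle)
    have hsup : Tn m L ≤ (W ⊓ Tn m L) ⊔ Tn m (plane v0 z0) := by
      intro y hy
      have hy' : y ∈ W ⊔ Tn m (plane v0 z0) := by
        rw [hLdef, Tn_sup] at hy
        exact (sup_le hd le_sup_right) hy
      obtain ⟨w, hw, q, hq, rfl⟩ := Submodule.mem_sup.1 hy'
      refine Submodule.add_mem _ (Submodule.mem_sup_left ⟨hw, ?_⟩) (Submodule.mem_sup_right hq)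
      have := (Tn m L).sub_mem hy (Tn_mono (show plane v0 z0 ≤ L from le_sup_right) hq)
      rwa [add_sub_cancel_right] at this
    have h1 := Submodule.finrank_mono hsup
    have h2 := Submodule.finrank_add_le_finrank_add_finrank (W ⊓ Tn m L) (Tn m (plane v0 z0))
    rw [finrank_Tn, hL3] at h1
    rw [finrank_Tn, finrank_plane hv0 hs0.indep] at h2
    omega
  · by_cases h1 : Module.finrank F (L ⊓ P : Submodule F V2) ≤ 1
    · exact Or.inl h1
    have hPL : P ≤ L := by
      have := Submodule.eq_of_le_of_finrank_le (inf_le_right : L ⊓ P ≤ P) (by omega)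
      exact inf_eq_right.1 this
    refine Or.inr ⟨hPL, ?_⟩
    have h2 := Submodule.finrank_sup_add_finrank_inf_eq P (plane v0 z0)
    have h3 := Submodule.finrank_mono (show P ⊔ plane v0 z0 ≤ L from sup_le hPL le_sup_right)
    rw [hP2, finrank_plane hv0 hs0.indep] at h2
    obtain ⟨y, hy, hy0⟩ := Submodule.exists_mem_ne_zero_of_ne_bot (p := P ⊓ plane v0 z0) fun e => by
      rw [e, finrank_bot] at h2; omega
    obtain ⟨a, b, rfl⟩ := mem_plane.1 hy.2
    have hyy := hP _ hy.1 _ hy.1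
    simp only [hf.addL, hf.addR, hf.smulL, hf.smulR, hs0.iso, hs0.orth, hf.comm z0 v0] at hyy
    have hb : b = 0 := by
      have : b * b * f₂ z0 z0 = 0 := by linear_combination hyy
      simpa [hzz0] using this
    have hy1 := hy.1
    rw [hb, zero_smul, add_zero] at hy1 hy0
    have ha : a ≠ 0 := fun e => hy0 (by rw [e, zero_smul])
    simpa [smul_smul, inv_mul_cancel₀ ha] using P.smul_mem a⁻¹ hy1
  · intro hdz w hw hwd
    have hudd := hud hdz
    refine hPw w hw fun j => ?_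
    obtain ⟨c, hc⟩ := Submodule.mem_span_singleton.1 (hwd j)
    rw [← hc, hf.smulL, hf.smulL, hLu d hdL, hLz d hdL, mul_zero]
    exact ⟨rfl, rfl⟩

omit [Finite F] in
theorem tens_of_one {L : Submodule F V2} (hL : Module.finrank F L ≤ 1) {x : Vec} (hx : x ∈ Tn m L) (hx0 : x ≠ 0) :
    ∃ (a : V1) (u : V2), a ≠ 0 ∧ u ≠ 0 ∧ u ∈ L ∧ x = tens a u := by
  obtain ⟨u, hu, hu0⟩ := Submodule.exists_mem_ne_zero_of_ne_bot (p := L) fun e => hx0 (Tn_bot (e ▸ hx))
  have hL' : Submodule.span F {u} = L := Submodule.eq_of_le_of_finrank_le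
    (Submodule.span_le.2 (Set.singleton_subset_iff.2 hu)) (by rw [finrank_span_singleton hu0]; omega)
  obtain ⟨a, rfl⟩ := mem_Tn_line (hL' ▸ hx)
  exact ⟨a, u, fun e => hx0 (by rw [e, tens_zero_left]), hu0, hu, rfl⟩

/-- The image of the tensors over a totally singular plane contains a pure tensor with a singular factor. -/
theorem exists_pure_image (D : Data ε f₁ f₂ B M) (hne : m < k ∨ ε = -1) (hNR : NoRadical f₂ M) {g : G}
    (hg : g ∈ M) {v s : V2} (hs : Seed f₂ v s) (hss : f₂ s s = 0) :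
    ∃ (a : V1) (u : V2), a ≠ 0 ∧ u ≠ 0 ∧ f₂ u u = 0 ∧
      tens a u ∈ (Tn m (plane v s)).map (g : Big).mulVecLin := by
  have hf := D.sym
  have hk := D.hk
  have hm := D.hm
  set W := (Tn m (plane v s)).map (g : Big).mulVecLin with hWdef
  by_contra hc
  push Not at hc
  -- no non-zero element of the image lies over a singular line
  have hline : ∀ L : Submodule F V2, Module.finrank F L ≤ 1 → (∀ y ∈ L, f₂ y y = 0) → W ⊓ Tn m L = ⊥ := by
    intro L hL hLiso
    by_contra hne'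
    obtain ⟨x, hx, hx0⟩ := Submodule.exists_mem_ne_zero_of_ne_bot hne'
    obtain ⟨a, u, ha, hu, huL, rfl⟩ := tens_of_one hL hx.2 hx0
    exact hc a u ha hu (hLiso u huL) hx.1
  have hstar : ∀ v0 : V2, v0 ≠ 0 → f₂ v0 v0 = 0 → ∃ P : Submodule F V2, Module.finrank F P = 2 ∧
      (∀ y ∈ P, f₂ y y = 0) ∧ v0 ∈ P ∧ m ≤ Module.finrank F (W ⊓ Tn m P : Submodule F Vec) := by
    intro v0 hv0 hv00
    obtain ⟨z0, hs0, hzz0, -⟩ := aniso_seed D hv0 hv00 v0
    obtain ⟨P1, hP12, hP1, hP1W, -⟩ := key D hne hNR hg hs hss hs0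
    obtain ⟨d, hdP, hdv, hdn⟩ : ∃ d ∈ P1, f₂ d v0 = 0 ∧ d ∉ Submodule.span F {v0} := by
      by_cases hv0P : v0 ∈ P1
      · by_contra hc'
        push Not at hc'
        have := Submodule.finrank_mono (show P1 ≤ Submodule.span F {v0} from
          fun d hd => hc' d hd (hP1 d hd v0 hv0P))
        rw [finrank_span_singleton hv0, hP12] at this
        omega
      let L : P1 →ₗ[F] F :=
        { toFun := fun d => f₂ (d : V2) v0
          map_add' := fun a b => hf.addL _ _ _
          map_smul' := fun c a => hf.smulL _ _ _ }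
      obtain ⟨d, hd, hd0⟩ := Submodule.exists_mem_ne_zero_of_ne_bot (p := LinearMap.ker L) fun e => by
        have := LinearMap.finrank_range_add_finrank_ker L
        have h2 := Submodule.finrank_le (LinearMap.range L)
        rw [Module.finrank_self] at h2
        rw [e, finrank_bot, hP12] at this
        omega
      refine ⟨d, d.2, hd, fun e => hd0 ?_⟩
      obtain ⟨c, hc'⟩ := Submodule.mem_span_singleton.1 e
      by_cases hc0 : c = 0
      · exact Subtype.ext (by rw [← hc', hc0, zero_smul]; rfl)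
      · exact absurd (by simpa [← hc', smul_smul, inv_mul_cancel₀ hc0] using P1.smul_mem c⁻¹ d.2) hv0P
    obtain ⟨L, P, -, -, hP2, hP, hdim, hcase, -⟩ := part D hne hNR hg hs hss hs0 hzz0 (hP1 d hdP d hdP) hdv
      (le_trans (Tn_mono (Submodule.span_le.2 (Set.singleton_subset_iff.2 hdP))) hP1W) hdn
    rcases hcase with h1 | ⟨-, hv0P⟩
    · rw [hline _ h1 fun y hy => hP y hy.2 y hy.2, finrank_bot] at hdim
      omega
    · exact ⟨P, hP2, fun y hy => hP y hy y hy, hv0P,
        hdim.trans (Submodule.finrank_mono (inf_le_inf_left W (Tn_mono inf_le_right)))⟩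
  obtain ⟨v0, hv0, hv00⟩ := hf.exists_iso (by omega)
  obtain ⟨P, hP2, hPiso, -, hPW⟩ := hstar v0 hv0 hv00
  obtain ⟨v1, hv11, hv1⟩ := hf.exists_iso_not_mem hk P (by omega)
  obtain ⟨P', hP'2, hP'iso, hv1P', hP'W⟩ := hstar v1 (fun e => hv1 (by rw [e]; exact P.zero_mem)) hv11
  have hne' : P ≠ P' := fun e => hv1 (by rw [e]; exact hv1P')
  have hint : Module.finrank F (P ⊓ P' : Submodule F V2) ≤ 1 := by
    by_contra hc'
    have h1 := Submodule.eq_of_le_of_finrank_le (inf_le_left : P ⊓ P' ≤ P) (by omega)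
    have h2 := Submodule.eq_of_le_of_finrank_le (inf_le_right : P ⊓ P' ≤ P') (by omega)
    exact hne' (h1.symm.trans h2)
  have hW2 : Module.finrank F W = 2 * m := by
    rw [hWdef, ← (Submodule.equivMapOfInjective _ (fun a b e => gl_mulVec_injective g e) _).finrank_eq,
      finrank_Tn, finrank_plane hs.ne hs.indep, mul_comm]
  have hWS : W ≤ Tn m (P ⊔ P') := by
    have e := Submodule.finrank_sup_add_finrank_inf_eq (W ⊓ Tn m P) (W ⊓ Tn m P')
    have h0 : (W ⊓ Tn m P) ⊓ (W ⊓ Tn m P') = ⊥ := by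
      rw [eq_bot_iff, ← hline (P ⊓ P') hint fun y hy => hPiso y hy.1, Tn_inf]
      exact fun y hy => ⟨hy.1.1, hy.1.2, hy.2.2⟩
    rw [h0, finrank_bot] at e
    have h1 := Submodule.eq_of_le_of_finrank_le (sup_le inf_le_left inf_le_left :
      (W ⊓ Tn m P) ⊔ (W ⊓ Tn m P') ≤ W) (by omega)
    rw [← h1]
    exact sup_le (inf_le_right.trans (Tn_mono le_sup_left)) (inf_le_right.trans (Tn_mono le_sup_right))
  have hS4 : Module.finrank F (P ⊔ P' : Submodule F V2) ≤ 4 := by
    have := Submodule.finrank_add_le_finrank_add_finrank P P'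
    omega
  obtain ⟨v2, hv22, hv2⟩ := hf.exists_iso_not_mem hk (P ⊔ P') (by omega)
  obtain ⟨P'', hP''2, hP''iso, hv2P, hP''W⟩ := hstar v2 (fun e => hv2 (by rw [e]; exact Submodule.zero_mem _)) hv22
  have hint2 : Module.finrank F ((P ⊔ P') ⊓ P'' : Submodule F V2) ≤ 1 := by
    by_contra hc'
    have h2 := Submodule.eq_of_le_of_finrank_le (inf_le_right : (P ⊔ P') ⊓ P'' ≤ P'') (by omega)
    exact hv2 (by rw [← h2] at hv2P; exact hv2P.1)
  have hle : W ⊓ Tn m P'' ≤ W ⊓ Tn m ((P ⊔ P') ⊓ P'') := fun y hy =>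
    ⟨hy.1, fun i => ⟨hWS hy.1 i, hy.2 i⟩⟩
  have h5 := Submodule.finrank_mono hle
  rw [hline _ hint2 fun y hy => hP''iso y hy.2, finrank_bot] at h5
  omega

/-- An element fixing a pure tensor with a singular factor stabilises the block of that factor. -/
theorem mem_of_fixed (D : Data ε f₁ f₂ B M) (hne : m < k ∨ ε = -1) (hNR : NoRadical f₂ M) {g : G} (hg : g ∈ M)
    {a : V1} {v : V2} (ha : a ≠ 0) (hv : v ≠ 0) (hvv : f₂ v v = 0) (hfix : (g : Big) *ᵥ tens a v = tens a v) :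
    g ∈ Cfsg.Geo.kroneckerSubgroup m k F := by
  have hf := D.sym
  have hk := D.hk
  have hm := D.hm
  have hsingle : ∀ s, f₂ s s = 0 → f₂ s v = 0 → s ∉ Submodule.span F {v} →
      Tn m (Submodule.span F {v}) ≤ (Tn m (plane v s)).map (g : Big).mulVecLin := by
    intro s hss hsv hsn
    have hs : Seed f₂ v s := ⟨hv, hvv, hsv, hsn⟩
    set W := (Tn m (plane v s)).map (g : Big).mulVecLin with hWdef
    by_contra hnot
    have haW : tens a v ∈ W := ⟨tens a v, tens_mem_Tn a (left_mem_plane v s), hfix⟩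
    have hstar : ∀ v0 : V2, f₂ v0 v0 = 0 → f₂ v0 v = 0 → v0 ∉ Submodule.span F {v} →
        m ≤ Module.finrank F (W ⊓ Tn m (plane v v0) : Submodule F Vec) := by
      intro v0 hv00 hv0v hv0n
      have hv0 : v0 ≠ 0 := fun e => hv0n (by rw [e]; exact Submodule.zero_mem _)
      have hvn : v ∉ Submodule.span F {v0} := indep_symm hv hv0n
      obtain ⟨z0, hs0, hzz0, hz0v⟩ := aniso_seed D hv0 hv00 v
      have hvv0 : f₂ v v0 = 0 := by rw [hf.comm]; exact hv0v
      have hvz0 : f₂ v z0 = 0 := by rw [hf.comm]; exact hz0v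
      obtain ⟨P1, hP12, hP1, hP1W, hP1w⟩ := key D hne hNR hg hs hss hs0
      have hvP1 : v ∈ P1 := by
        have h1 := hP1w _ haW fun i => by
          show f₂ (a i • v) v0 = 0 ∧ f₂ (a i • v) z0 = 0
          rw [hf.smulL, hf.smulL, hvv0, hvz0, mul_zero]; exact ⟨rfl, rfl⟩
        obtain ⟨i, hi⟩ := Function.ne_iff.1 ha
        simpa [show slice (tens a v) i = a i • v from rfl, smul_smul, inv_mul_cancel₀ hi]
          using P1.smul_mem (a i)⁻¹ (h1 i)
      obtain ⟨L, P, hvL, -, hP2, hP, hdim, hcase, hPd⟩ := part D hne hNR hg hs hss hs0 hzz0 hvv hvv0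
        (le_trans (Tn_mono (Submodule.span_le.2 (Set.singleton_subset_iff.2 hvP1))) hP1W) hvn
      have hvP : v ∈ P := by
        have h1 := hPd hvz0 _ haW fun i => Submodule.smul_mem _ (a i) (Submodule.mem_span_singleton_self v)
        obtain ⟨i, hi⟩ := Function.ne_iff.1 ha
        simpa [show slice (tens a v) i = a i • v from rfl, smul_smul, inv_mul_cancel₀ hi]
          using P.smul_mem (a i)⁻¹ (h1 i)
      rcases hcase with h1 | ⟨-, hv0P⟩
      · exfalso
        refine hnot ?_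
        have hvLP : v ∈ L ⊓ P := ⟨hvL, hvP⟩
        have hlin : L ⊓ P = Submodule.span F {v} :=
          (Submodule.eq_of_le_of_finrank_le (Submodule.span_le.2 (Set.singleton_subset_iff.2 hvLP))
            (by rw [finrank_span_singleton hv]; exact h1)).symm
        rw [hlin] at hdim
        have h2 := Submodule.eq_of_le_of_finrank_le (inf_le_right : W ⊓ Tn m (Submodule.span F {v}) ≤ _)
          (by rw [finrank_Tn, finrank_span_singleton hv, mul_one]; exact hdim)
        rw [← h2]; exact inf_le_left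
      · have hPeq : P = plane v v0 := (Submodule.eq_of_le_of_finrank_le
          (Submodule.span_le.2 (by rintro y (rfl | rfl) <;> assumption))
          (by rw [show Module.finrank F (Submodule.span F ({v, v0} : Set V2)) = 2 from finrank_plane hv hv0n,
            hP2])).symm
        rw [← hPeq]
        exact hdim.trans (Submodule.finrank_mono (inf_le_inf_left W (Tn_mono inf_le_right)))
    obtain ⟨v0, hv00, hv0v, hv0n⟩ := hf.exists_iso_second hk hv hvv (Submodule.span F {v})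
      (by rw [finrank_span_singleton hv]; omega)
    obtain ⟨v1, hv11, hv1v, hv1n⟩ := hf.exists_iso_second hk hv hvv (plane v v0)
      (by have := finrank_plane_le v v0; omega)
    have hv1n' : v1 ∉ Submodule.span F {v} := fun e => hv1n (by
      obtain ⟨c, rfl⟩ := Submodule.mem_span_singleton.1 e
      exact Submodule.smul_mem _ c (left_mem_plane v v0))
    obtain ⟨z, hzn, hz⟩ := hf.exists_perp (Submodule.span F {v}) ![v, v0, v1]
      (by rw [finrank_span_singleton hv]; omega)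
    have h0 : f₂ z v = 0 := hz 0
    have h1 : f₂ z v0 = 0 := hz 1
    have h2 : f₂ z v1 = 0 := hz 2
    obtain ⟨P, hP2, -, -, hPw⟩ := key D hne hNR hg hs hss (v0 := v) (z0 := z) ⟨hv, hvv, h0, hzn⟩
    have hin : ∀ t, f₂ t v = 0 → f₂ z t = 0 → ∀ (_ : t ∉ Submodule.span F {v}),
        m ≤ Module.finrank F (W ⊓ Tn m (plane v t) : Submodule F Vec) → t ∈ P := by
      intro t htv hzt htn hdim
      by_contra htP
      refine hnot ?_
      have hle : W ⊓ Tn m (plane v t) ≤ W ⊓ Tn m (plane v t ⊓ P) := fun w hw => ⟨hw.1, fun i => ⟨hw.2 i,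
        hPw w hw.1 (fun j => by
          obtain ⟨c, d, hcd⟩ := mem_plane.1 (hw.2 j)
          rw [← hcd, hf.addL, hf.addL, hf.smulL, hf.smulL, hf.smulL, hf.smulL, hvv, htv, hf.comm z v, h0,
            hf.comm z t, hzt]
          constructor <;> ring) i⟩⟩
      have hdim' := hdim.trans (Submodule.finrank_mono hle)
      have h1' : Module.finrank F (plane v t ⊓ P : Submodule F V2) ≤ 1 := by
        by_contra hc'
        have h2 := Submodule.eq_of_le_of_finrank_le (inf_le_left : plane v t ⊓ P ≤ plane v t)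
          (by have := finrank_plane_le v t; omega)
        exact htP (inf_eq_left.1 h2 (right_mem_plane v t))
      have hpos : 0 < Module.finrank F (W ⊓ Tn m (plane v t ⊓ P) : Submodule F Vec) := by omega
      obtain ⟨x, hx, hx0⟩ := Submodule.exists_mem_ne_zero_of_ne_bot
        (p := W ⊓ Tn m (plane v t ⊓ P)) fun e => by rw [e, finrank_bot] at hpos; omega
      obtain ⟨b, u, -, hu, huL, -⟩ := tens_of_one h1' hx.2 hx0
      have huv : u ∈ Submodule.span F {v} := by
        by_contra huv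
        obtain ⟨c, d, hcd⟩ := mem_plane.1 huL.1
        have hvP : v ∈ P := by
          have h1 := hPw _ haW fun i => by
            show f₂ (a i • v) v = 0 ∧ f₂ (a i • v) z = 0
            rw [hf.smulL, hf.smulL, hvv, hf.comm z v, h0, mul_zero]; exact ⟨rfl, rfl⟩
          obtain ⟨i, hi⟩ := Function.ne_iff.1 ha
          simpa [show slice (tens a v) i = a i • v from rfl, smul_smul, inv_mul_cancel₀ hi]
            using P.smul_mem (a i)⁻¹ (h1 i)
        have hd : d ≠ 0 := fun e => huv (Submodule.mem_span_singleton.2 ⟨c, by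
          rw [← hcd, e, zero_smul, add_zero]⟩)
        refine htP ?_
        have := P.smul_mem d⁻¹ (P.sub_mem huL.2 (P.smul_mem c hvP))
        rwa [← hcd, add_sub_cancel_left, inv_smul_smul₀ hd] at this
      have hsp : plane v t ⊓ P = Submodule.span F {v} := by
        obtain ⟨c, rfl⟩ := Submodule.mem_span_singleton.1 huv
        have hc0 : c ≠ 0 := fun e => hu (by rw [e, zero_smul])
        refine (Submodule.eq_of_le_of_finrank_le (Submodule.span_le.2 (Set.singleton_subset_iff.2 ?_))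
          (by rw [finrank_span_singleton hv]; exact h1')).symm
        simpa [smul_smul, inv_mul_cancel₀ hc0] using Submodule.smul_mem _ c⁻¹ huL
      rw [hsp] at hdim'
      have h3 := Submodule.eq_of_le_of_finrank_le (inf_le_right : W ⊓ Tn m (Submodule.span F {v}) ≤ _)
        (by rw [finrank_Tn, finrank_span_singleton hv, mul_one]; exact hdim')
      rw [← h3]; exact inf_le_left
    have hP0 := hin v0 hv0v h1 hv0n (hstar v0 hv00 hv0v hv0n)
    have hP1 := hin v1 hv1v h2 hv1n' (hstar v1 hv11 hv1v hv1n')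
    -- two independent vectors modulo `v` in a plane through `v`
    have hvP : v ∈ P := by
      have h1 := hPw _ haW fun i => by
        show f₂ (a i • v) v = 0 ∧ f₂ (a i • v) z = 0
        rw [hf.smulL, hf.smulL, hvv, hf.comm z v, h0, mul_zero]; exact ⟨rfl, rfl⟩
      obtain ⟨i, hi⟩ := Function.ne_iff.1 ha
      simpa [show slice (tens a v) i = a i • v from rfl, smul_smul, inv_mul_cancel₀ hi]
        using P.smul_mem (a i)⁻¹ (h1 i)
    have hPeq : plane v v0 = P := Submodule.eq_of_le_of_finrank_le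
      (Submodule.span_le.2 (by rintro y (rfl | rfl) <;> assumption))
      (by rw [finrank_plane hv hv0n, hP2])
    exact hv1n (by rw [hPeq]; exact hP1)
  obtain ⟨s, hss, hsv, hsn⟩ := hf.exists_iso_second hk hv hvv (Submodule.span F {v})
    (by rw [finrank_span_singleton hv]; omega)
  obtain ⟨t, htt, htv, htn⟩ := hf.exists_iso_second hk hv hvv (plane v s)
    (by have := finrank_plane_le v s; omega)
  have htn' : t ∉ Submodule.span F {v} := fun e => htn (by
    obtain ⟨c, rfl⟩ := Submodule.mem_span_singleton.1 e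
    exact Submodule.smul_mem _ c (left_mem_plane v s))
  have hPP : plane v s ⊓ plane v t ≤ Submodule.span F {v} := by
    rintro y ⟨hy1, hy2⟩
    obtain ⟨c, d, rfl⟩ := mem_plane.1 hy2
    by_cases hd : d = 0
    · exact Submodule.mem_span_singleton.2 ⟨c, by rw [hd, zero_smul, add_zero]⟩
    · refine absurd ?_ htn
      have := Submodule.smul_mem _ d⁻¹ (Submodule.sub_mem _ hy1 (Submodule.smul_mem _ c (left_mem_plane v s)))
      rwa [add_sub_cancel_left, inv_smul_smul₀ hd] at this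
  have hle : Tn m (Submodule.span F {v}) ≤ (Tn m (Submodule.span F {v})).map (g : Big).mulVecLin := by
    intro w hw
    obtain ⟨x, hx, hxw⟩ := hsingle s hss hsv hsn hw
    obtain ⟨y, hy, hyw⟩ := hsingle t htt htv htn' hw
    have hxy : x = y := gl_mulVec_injective g (show (g : Big) *ᵥ x = (g : Big) *ᵥ y from hxw.trans hyw.symm)
    exact ⟨x, fun i => hPP ⟨hx i, by rw [hxy]; exact hy i⟩, hxw⟩
  have heq := Submodule.eq_of_le_of_finrank_le hle (le_of_eq
    (Submodule.equivMapOfInjective _ (fun a b e => gl_mulVec_injective g e) _).finrank_eq.symm)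
  refine Line.mem_of_line D hne hNR hg hv hvv hv fun b => ?_
  refine mem_Tn_line (heq.symm ▸ ?_)
  exact Submodule.mem_map_of_mem (f := (g : Big).mulVecLin) (tens_mem_Tn b (Submodule.mem_span_singleton_self v))

/-- The group lies in the stabiliser. -/
theorem le_kron (D : Data ε f₁ f₂ B M) (hne : m < k ∨ ε = -1) (hNR : NoRadical f₂ M) :
    M ≤ Cfsg.Geo.kroneckerSubgroup m k F := by
  intro g hg
  have hf := D.sym
  have hk := D.hk
  obtain ⟨v, hv, hvv⟩ := hf.exists_iso (by omega)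
  obtain ⟨s, hss, hsv, hsn⟩ := hf.exists_iso_second hk hv hvv (Submodule.span F {v})
    (by rw [finrank_span_singleton hv]; omega)
  obtain ⟨b, u, hb, hu, huu, x, hx, hxu⟩ := exists_pure_image D hne hNR hg ⟨hv, hvv, hsv, hsn⟩ hss
  obtain ⟨zD, hzD, hzzD, hperpD⟩ := hf.exists_seed_plane hk hv hvv hss hsv
  obtain ⟨z, hz, hzz, -⟩ := aniso_seed D hu huu u
  obtain ⟨h, hhM, hhk, hh⟩ := agreement D (fun {_} hx' {_ _} h1 h2 {_} => step_aniso D hne hNR hx' h1 h2)
    hg hzD hzzD hz hzz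
  rw [Matrix.mulVecLin_apply] at hxu
  have e := hh x (fun i => hperpD _ (hx i)) fun i => by
    rw [hxu]
    show f₂ (b i • u) u = 0 ∧ f₂ (b i • u) z = 0
    rw [hf.smulL, hf.smulL, huu, hf.comm z u, hz.orth, mul_zero]; exact ⟨rfl, rfl⟩
  rw [hxu] at e
  obtain ⟨a', v', hpure⟩ := pure_of_kron (inv_mem hhk) b u
  have hxe : x = tens a' v' := by rw [← hpure, e, gl_inv_mulVec]
  have hfix : ((h⁻¹ * g : G) : Big) *ᵥ x = x := by rw [gl_mul_mulVec, hxu, e, gl_inv_mulVec]
  rw [hxe] at hfix hx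
  have hx0 : tens a' v' ≠ 0 := fun e0 => by
    rw [hxe, e0, mulVec_zero] at hxu
    obtain ⟨i, hi⟩ := Function.ne_iff.1 hb
    obtain ⟨j, hj⟩ := Function.ne_iff.1 hu
    exact mul_ne_zero hi hj (congrFun hxu (i, j)).symm
  have ha' : a' ≠ 0 := fun e0 => hx0 (by rw [e0, tens_zero_left])
  have hv' : v' ≠ 0 := fun e0 => hx0 (by rw [e0, tens_zero_right])
  obtain ⟨i, hi⟩ := Function.ne_iff.1 ha'
  have hv'P : v' ∈ plane v s := by
    simpa [show slice (tens a' v') i = a' i • v' from rfl, smul_smul, inv_mul_cancel₀ hi]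
      using (plane v s).smul_mem (a' i)⁻¹ (hx i)
  have := mem_of_fixed D hne hNR (M.mul_mem (M.inv_mem hhM) hg) ha' hv'
    (hf.iso_plane hvv hss hsv hv'P hv'P) hfix
  have h2 := Subgroup.mul_mem _ hhk this
  rwa [mul_inv_cancel_left] at h2

end Cfsg.Agent.Lib.TensorOrthMax.Rigid
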