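import Cfsg.Agent.Lib.TensorFormMax.Basic
import Cfsg.Agent.Lib.Subspaces.UnitaryForm

/-!
Isotropic and anisotropic vectors of a symmetric form over a finite field of odd order.
-/

set_option autoImplicit false

namespace Cfsg.Agent.Lib.TensorOrthMax.Side

open Matrix
open Cfsg.Agent.Lib.Subspaces.Transvection Cfsg.Agent.Lib.Subspaces.FormVec
  Cfsg.Agent.Lib.TensorFormMax.Basic

variable {F : Type*} [Field F] {n : ℕ}

local notation "Vec" => Fin n → F
local notation "Mat" => Matrix (Fin n) (Fin n) F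

/-- A non-degenerate symmetric form in odd characteristic. -/
structure Sym (f : (Fin n → F) → (Fin n → F) → F) : Prop where
  sf : SForm (RingHom.id F) 1 f
  two : (2 : F) ≠ 0

/-- The data of an Eichler transformation. -/
structure Seed (f : (Fin n → F) → (Fin n → F) → F) (v z : Fin n → F) : Prop where
  ne : v ≠ 0
  iso : f v v = 0
  orth : f z v = 0
  indep : z ∉ Submodule.span F {v}

/-- The plane of two vectors. -/
def plane (v z : Fin n → F) : Submodule F (Fin n → F) := Submodule.span F {v, z}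

theorem mem_plane {v z x : Vec} : x ∈ plane v z ↔ ∃ a b : F, a • v + b • z = x :=
  Submodule.mem_span_pair

theorem left_mem_plane (v z : Vec) : v ∈ plane v z := Submodule.subset_span (by simp)

theorem right_mem_plane (v z : Vec) : z ∈ plane v z := Submodule.subset_span (by simp)

theorem indep_symm {v z : Vec} (hv : v ≠ 0) (h : z ∉ Submodule.span F {v}) :
    v ∉ Submodule.span F {z} := fun e => by
  obtain ⟨c, hc⟩ := Submodule.mem_span_singleton.1 e
  have hc0 : c ≠ 0 := fun e0 => hv (by rw [← hc, e0, zero_smul])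
  exact h (Submodule.mem_span_singleton.2 ⟨c⁻¹, by rw [← hc, inv_smul_smul₀ hc0]⟩)

theorem coeff_eq_zero {v z : Vec} (hv : v ≠ 0) (h : z ∉ Submodule.span F {v}) {a b : F}
    (e : a • v + b • z = 0) : a = 0 ∧ b = 0 := by
  have hb : b = 0 := by
    by_contra hb
    refine h (Submodule.mem_span_singleton.2 ⟨-(b⁻¹ * a), ?_⟩)
    have e1 : b • z = -(a • v) := eq_neg_of_add_eq_zero_right e
    rw [neg_smul, ← smul_smul, ← smul_neg, ← e1, inv_smul_smul₀ hb]
  subst hb
  rw [zero_smul, add_zero, smul_eq_zero] at e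
  exact ⟨e.resolve_right hv, rfl⟩

theorem finrank_plane {v z : Vec} (hv : v ≠ 0) (h : z ∉ Submodule.span F {v}) :
    Module.finrank F (plane v z) = 2 := by
  have hli : LinearIndependent F ![v, z] := by
    rw [LinearIndependent.pair_iff]
    exact fun a b e => coeff_eq_zero hv h e
  have h1 := finrank_span_eq_card hli
  rwa [Matrix.range_cons, Matrix.range_cons, Matrix.range_empty, Set.union_empty, Fintype.card_fin] at h1

theorem finrank_plane_le (v z : Vec) : Module.finrank F (plane v z) ≤ 2 := by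
  classical
  refine le_trans (finrank_span_le_card ({v, z} : Set Vec)) ?_
  rw [Set.toFinset_insert, Set.toFinset_singleton]
  exact Finset.card_le_two

variable {f : (Fin n → F) → (Fin n → F) → F}

namespace Sym

variable (hf : Sym f)
include hf

theorem comm (x y : Vec) : f y x = f x y := by
  rw [hf.sf.swap, one_mul, RingHom.id_apply]

theorem addL (x y w : Vec) : f (x + y) w = f x w + f y w := hf.sf.lin.add_left _ _ _

theorem smulL (c : F) (x w : Vec) : f (c • x) w = c * f x w := hf.sf.lin.smul_left _ _ _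

theorem subL (x y w : Vec) : f (x - y) w = f x w - f y w := hf.sf.sub_left _ _ _

theorem addR (x y w : Vec) : f x (y + w) = f x y + f x w := hf.sf.add_right _ _ _

theorem smulR (c : F) (x w : Vec) : f x (c • w) = c * f x w := hf.sf.smul_right _ _ _

theorem subR (x y w : Vec) : f x (y - w) = f x y - f x w := hf.sf.sub_right _ _ _

theorem zeroL (w : Vec) : f 0 w = 0 := form_zero_left hf.sf.lin w

theorem zeroR (x : Vec) : f x 0 = 0 := hf.sf.zero_right x

theorem negL (x w : Vec) : f (-x) w = -f x w := by rw [← neg_one_smul F x, hf.smulL]; ring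

theorem negR (x w : Vec) : f x (-w) = -f x w := by rw [hf.comm, hf.negL, hf.comm]

theorem dot (v x : Vec) : formVec f v ⬝ᵥ x = f x v := hf.sf.dot v x

theorem nondegenerate : Cfsg.Geo.IsNondegenerateForm f := fun a ha => ⟨hf.sf.nondeg a ha, by
  obtain ⟨y, hy⟩ := hf.sf.nondeg a ha
  exact ⟨y, by rwa [hf.comm]⟩⟩

theorem eq_zero {x : Vec} (h : ∀ u, f u x = 0) : x = 0 := by
  by_contra hx
  obtain ⟨u, hu⟩ := hf.sf.nondeg x hx
  exact hu (h u)

theorem expand (x y : Vec) (a : F) :
    f (x + a • y) (x + a • y) = f x x + 2 * a * f x y + a * a * f y y := by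
  rw [hf.addL, hf.addR, hf.addR, hf.smulL, hf.smulL, hf.smulR, hf.smulR, hf.comm x y]
  ring

theorem iso_add {x y : Vec} (hx : f x x = 0) (hy : f y y = 0) (hxy : f x y = 0) : f (x + y) (x + y) = 0 := by
  rw [hf.addL, hf.addR, hf.addR, hx, hy, hxy, hf.comm x y, hxy]
  ring

theorem iso_smul {x : Vec} (hx : f x x = 0) (c : F) : f (c • x) (c • x) = 0 := by
  rw [hf.smulL, hf.smulR, hx]; ring

theorem iso_plane {v s x : Vec} (hv : f v v = 0) (hs : f s s = 0) (hsv : f s v = 0) (hx : x ∈ plane v s)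
    {y : Vec} (hy : y ∈ plane v s) : f x y = 0 := by
  obtain ⟨a, b, rfl⟩ := mem_plane.1 hx
  obtain ⟨c, d, rfl⟩ := mem_plane.1 hy
  simp only [hf.addL, hf.addR, hf.smulL, hf.smulR, hv, hs, hsv, hf.comm s v]
  ring

/-- A hyperbolic partner. -/
theorem exists_hyperbolic {v : Vec} (hv : v ≠ 0) (hvv : f v v = 0) : ∃ b, f b b = 0 ∧ f b v = 1 := by
  obtain ⟨x, hx⟩ := hf.sf.exists_one hv
  refine ⟨x + (-(f x x / 2)) • v, ?_, ?_⟩
  · have := hf.two
    rw [hf.expand, hvv, hx]
    field_simp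
    ring
  · rw [hf.addL, hf.smulL, hx, hvv, mul_zero, add_zero]

/-- A vector outside a subspace and orthogonal to given vectors. -/
theorem exists_perp {l : ℕ} (T : Submodule F Vec) (s : Fin l → Vec) (h : Module.finrank F T + l < n) :
    ∃ z, z ∉ T ∧ ∀ i, f z (s i) = 0 := by
  obtain ⟨z, hz, hzs⟩ := exists_common_zero_not_mem T (fun i => formVec f (s i))
    (by rw [Fintype.card_fin]; omega)
  exact ⟨z, hz, fun i => by rw [← hf.dot]; exact hzs i⟩

/-- A seed with prescribed isotropic vector, orthogonal to given vectors. -/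
theorem exists_seed {u : Vec} (hu : u ≠ 0) (huu : f u u = 0) {l : ℕ} (s : Fin l → Vec)
    {i0 : Fin l} (hi0 : s i0 = u) (hl : l + 1 < n) :
    ∃ z, Seed f u z ∧ ∀ i, f z (s i) = 0 := by
  obtain ⟨z, hz, hzs⟩ := hf.exists_perp (Submodule.span F {u}) s (by rw [finrank_span_singleton hu]; omega)
  exact ⟨z, ⟨hu, huu, hi0 ▸ hzs i0, hz⟩, hzs⟩

variable [Finite F]

theorem dual {T : Submodule F Vec} {z : Vec} (hz : z ∉ T) : ∃ t, (∀ s ∈ T, f t s = 0) ∧ f t z = 1 := by
  obtain ⟨φ, hφ, hφz⟩ := exists_functional hz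
  obtain ⟨y, hy⟩ := formVec_surjective hf.sf.lin hf.addR hf.nondegenerate φ
  refine ⟨y, fun s hs => ?_, ?_⟩
  · rw [hf.comm, ← hf.dot, hy]; exact hφ s hs
  · rw [hf.comm, ← hf.dot, hy]; exact hφz

/-- An anisotropic vector orthogonal to given vectors. -/
theorem exists_aniso {l : ℕ} (s : Fin l → Vec) {z : Vec} (hz : ∀ i, f z (s i) = 0)
    (hn : z ∉ Submodule.span F (Set.range s)) : ∃ p, (∀ i, f p (s i) = 0) ∧ f p p ≠ 0 := by
  obtain ⟨w, hw, hwz⟩ := hf.dual hn
  have hw' : ∀ i, f w (s i) = 0 := fun i => hw _ (Submodule.subset_span ⟨i, rfl⟩)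
  by_cases h1 : f z z = 0
  · by_cases h2 : f w w = 0
    · refine ⟨z + w, fun i => by rw [hf.addL, hz, hw', add_zero], ?_⟩
      have e : f (z + w) (z + w) = f (z + (1 : F) • w) (z + (1 : F) • w) := by rw [one_smul]
      rw [e, hf.expand, h1, h2, hf.comm w z, hwz]
      simpa using hf.two
    · exact ⟨w, hw', h2⟩
  · exact ⟨z, hz, h1⟩

/-- An anisotropic vector orthogonal to at most two pairwise orthogonal isotropic vectors. -/
theorem exists_aniso_pair (hn : 5 ≤ n) (v s : Vec) :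
    ∃ p, f p v = 0 ∧ f p s = 0 ∧ f p p ≠ 0 := by
  obtain ⟨z, hz, hzs⟩ := hf.exists_perp (plane v s) ![v, s]
    (by have := finrank_plane_le v s; omega)
  have hr : Submodule.span F (Set.range ![v, s]) = plane v s := by
    rw [Matrix.range_cons, Matrix.range_cons, Matrix.range_empty, Set.union_empty]; rfl
  obtain ⟨p, hp, hpp⟩ := hf.exists_aniso ![v, s] hzs (by rwa [hr])
  exact ⟨p, hp 0, hp 1, hpp⟩

theorem exists_pair_aniso (hn : 5 ≤ n) {v z : Vec} (hvz : f z v = 0) (hv : f v v = 0)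
    (hzz : f z z ≠ 0) : ∃ y y', f y v = 0 ∧ f y z = 0 ∧ f y y ≠ 0 ∧ f y' v = 0 ∧ f y' z = 0 ∧ f y' y = 0 ∧
      f y' y' ≠ 0 := by
  have hr : Submodule.span F (Set.range ![v, z]) = plane v z := by
    rw [Matrix.range_cons, Matrix.range_cons, Matrix.range_empty, Set.union_empty]; rfl
  obtain ⟨z1, hz1, hz1s⟩ := hf.exists_perp (plane v z) ![v, z]
    (by have := finrank_plane_le v z; omega)
  obtain ⟨y, hy, hyy⟩ := hf.exists_aniso ![v, z] hz1s (by rwa [hr])
  have hyv : f y v = 0 := hy 0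
  have hyz : f y z = 0 := hy 1
  obtain ⟨z2, hz2, hz2s⟩ := hf.exists_perp (Submodule.span F {v}) ![v, z, y]
    (by have : Module.finrank F (Submodule.span F {v}) ≤ 1 := (finrank_span_le_card _).trans (by simp)
        omega)
  obtain ⟨y', hy', hy'y'⟩ := hf.exists_aniso ![v, z, y] hz2s fun e => hz2 (by
    obtain ⟨co, hco⟩ := (Submodule.mem_span_range_iff_exists_fun F).1 e
    simp only [Fin.sum_univ_three, Matrix.cons_val_zero, Matrix.cons_val_one, Matrix.cons_val_two,
      Matrix.tail_cons, Matrix.head_cons] at hco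
    have e1 : f z2 z = 0 := hz2s 1
    have e2 : f z2 y = 0 := hz2s 2
    rw [← hco] at e1 e2
    simp [hf.addL, hf.smulL, hf.comm z v, hvz, hyz, hzz] at e1
    simp [hf.addL, hf.smulL, hf.comm y v, hyv, hf.comm y z, hyz, hyy] at e2
    rw [← hco, e1, e2, zero_smul, zero_smul, add_zero, add_zero]
    exact Submodule.smul_mem _ _ (Submodule.mem_span_singleton_self v))
  exact ⟨y, y', hyv, hyz, hyy, hy' 0, hy' 1, hy' 2, hy'y'⟩

/-- A vector orthogonal to an isotropic `v` is a combination of isotropic ones orthogonal to `v`. -/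
theorem mem_span_iso (hn : 5 ≤ n) {v z : Vec} (hv : f v v = 0) (hzv : f z v = 0) :
    z ∈ Submodule.span F {t | f t t = 0 ∧ f t v = 0} := by
  by_cases hzz : f z z = 0
  · exact Submodule.subset_span ⟨hzz, hzv⟩
  obtain ⟨y, y', hyv, hyz, hyy, hy'v, hy'z, hy'y, hy'y'⟩ := hf.exists_pair_aniso hn hzv hv hzz
  obtain ⟨a, b, hab⟩ := Cfsg.Agent.Lib.Subspaces.UnitaryForm.exists_quad_root (f z z) (f y y) (f y' y') hyy hy'y'
  have hiso : ∀ c : F, c * c = 1 → c • z + (a • y + b • y') ∈ Submodule.span F {t | f t t = 0 ∧ f t v = 0} := by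
    intro c hc
    refine Submodule.subset_span ⟨?_, ?_⟩
    · simp only [hf.addL, hf.addR, hf.smulL, hf.smulR, hyz, hf.comm y z, hy'z, hf.comm y' z, hy'y, hf.comm y' y]
      linear_combination hab + f z z * hc
    · simp [hf.addL, hf.smulL, hzv, hyv, hy'v]
  have h1 := hiso 1 (one_mul 1)
  have h2 := hiso (-1) (by ring)
  have h3 := Submodule.smul_mem _ (2 : F)⁻¹ (Submodule.sub_mem _ h1 h2)
  convert h3 using 1
  rw [show (1 : F) • z + (a • y + b • y') - ((-1 : F) • z + (a • y + b • y')) = (2 : F) • z by module,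
    inv_smul_smul₀ hf.two]

/-- An isotropic vector orthogonal to `v` and not orthogonal to `x`. -/
theorem exists_iso_nonorth (hn : 5 ≤ n) {v x : Vec} (hvv : f v v = 0) (hx : x ∉ Submodule.span F {v}) :
    ∃ t, f t t = 0 ∧ f t v = 0 ∧ f t x ≠ 0 := by
  by_contra hc
  push Not at hc
  obtain ⟨t, ht, htx⟩ := hf.dual hx
  have htv := ht v (Submodule.mem_span_singleton_self v)
  have hle : Submodule.span F {t | f t t = 0 ∧ f t v = 0} ≤
      LinearMap.ker (Matrix.mulVecLin (Matrix.of fun _ : Fin 1 => formVec f x)) := by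
    rw [Submodule.span_le]
    rintro s ⟨hs, hsv⟩
    refine LinearMap.mem_ker.2 (funext fun _ => ?_)
    show formVec f x ⬝ᵥ s = 0
    rw [hf.dot]; exact hc s hs hsv
  have e := congrFun (LinearMap.mem_ker.1 (hle (hf.mem_span_iso hn hvv htv))) 0
  have e' : formVec f x ⬝ᵥ t = 0 := e
  rw [hf.dot, htx] at e'
  exact one_ne_zero e'

/-- An isotropic vector. -/
theorem exists_iso (hn : 3 ≤ n) : ∃ v, v ≠ 0 ∧ f v v = 0 := by
  have hne : ∀ {p : Vec}, p ∉ Submodule.span F (Set.range (![] : Fin 0 → Vec)) → p ≠ 0 := fun {p} h e =>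
    h (by rw [e]; exact Submodule.zero_mem _)
  obtain ⟨p0, hp0, -⟩ := hf.exists_perp (⊥ : Submodule F Vec) (![] : Fin 0 → Vec) (by rw [finrank_bot]; omega)
  obtain ⟨p, -, hpp⟩ := hf.exists_aniso (![] : Fin 0 → Vec) (z := p0) (fun i => i.elim0) (by simpa using hp0)
  obtain ⟨q0, hq0, hq0s⟩ := hf.exists_perp (Submodule.span F {p}) ![p]
    (by rw [finrank_span_singleton (fun e => hpp (by rw [e, hf.zeroL]))]; omega)
  obtain ⟨q, hq, hqq⟩ := hf.exists_aniso ![p] hq0s (by simpa using hq0)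
  have hqp : f q p = 0 := hq 0
  have hp0' : p ≠ 0 := fun e => hpp (by rw [e, hf.zeroL])
  obtain ⟨r, hr, hrs⟩ := hf.exists_perp (⊥ : Submodule F Vec) ![p, q] (by rw [finrank_bot]; omega)
  have hr0 : r ≠ 0 := fun e => hr (by rw [e]; exact Submodule.zero_mem _)
  have hrp : f r p = 0 := hrs 0
  have hrq : f r q = 0 := hrs 1
  obtain ⟨a, b, hab⟩ := Cfsg.Agent.Lib.Subspaces.UnitaryForm.exists_quad_root (f r r) (f p p) (f q q) hpp hqq
  refine ⟨r + (a • p + b • q), fun e => hr0 ?_, ?_⟩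
  · have h1 : f (r + (a • p + b • q)) p = 0 := by rw [e, hf.zeroL]
    have h2 : f (r + (a • p + b • q)) q = 0 := by rw [e, hf.zeroL]
    simp [hf.addL, hf.smulL, hrp, hqp, hpp] at h1
    simp [hf.addL, hf.smulL, hrq, hf.comm q p, hqp, hqq] at h2
    rw [h1, h2, zero_smul, zero_smul, add_zero, add_zero] at e
    exact e
  · simp only [hf.addL, hf.addR, hf.smulL, hf.smulR, hrp, hf.comm r p, hrq, hf.comm r q, hqp, hf.comm q p]
    linear_combination hab

/-- A second isotropic vector orthogonal to an isotropic one. -/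
theorem exists_iso_second (hn : 5 ≤ n) {v : Vec} (hv : v ≠ 0) (hvv : f v v = 0) (T : Submodule F Vec)
    (hT : Module.finrank F T + 1 < n) : ∃ s, f s s = 0 ∧ f s v = 0 ∧ s ∉ T := by
  by_contra hc
  push Not at hc
  obtain ⟨z, hz, hzv⟩ := hf.exists_perp T ![v] hT
  exact hz ((Submodule.span_le.2 fun s hs => hc s hs.1 hs.2) (hf.mem_span_iso hn hvv (hzv 0)))

/-- An isotropic vector orthogonal to two isotropic vectors, outside a line. -/
theorem exists_iso_common (hn : 5 ≤ n) {v u : Vec} (hv : v ≠ 0) (hvv : f v v = 0) (huu : f u u = 0)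
    (hvu : f u v ≠ 0) : ∃ t, t ≠ 0 ∧ f t t = 0 ∧ f t v = 0 ∧ f t u = 0 := by
  -- project an isotropic vector orthogonal to `v`
  obtain ⟨s, hs, hsv, hsn⟩ := hf.exists_iso_second hn hv hvv (Submodule.span F {v})
    (by rw [finrank_span_singleton hv]; omega)
  refine ⟨s + (-(f s u / f v u)) • v, fun e => hsn ?_, ?_, ?_, ?_⟩
  · rw [eq_neg_of_add_eq_zero_left e]
    exact Submodule.neg_mem _ (Submodule.smul_mem _ _ (Submodule.mem_span_singleton_self v))
  · rw [hf.expand, hs, hsv, hvv]; ring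
  · rw [hf.addL, hf.smulL, hsv, hvv, mul_zero, add_zero]
  · have hvu' : f v u ≠ 0 := by rwa [hf.comm]
    have _ := huu
    rw [hf.addL, hf.smulL, neg_mul, div_mul_cancel₀ _ hvu', add_neg_cancel]

/-- An isotropic vector outside a subspace of small dimension. -/
theorem exists_iso_not_mem (hn : 5 ≤ n) (T : Submodule F Vec) (hT : Module.finrank F T < n) :
    ∃ t, f t t = 0 ∧ t ∉ T := by
  by_contra hc
  push Not at hc
  obtain ⟨v, hv, hvv⟩ := hf.exists_iso (by omega)
  obtain ⟨b, hb, hbv⟩ := hf.exists_hyperbolic hv hvv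
  have h1 : ∀ z, f z v = 0 → z ∈ T := fun z hz =>
    (Submodule.span_le.2 fun s hs => hc s hs.1) (hf.mem_span_iso hn hvv hz)
  have : (⊤ : Submodule F Vec) ≤ T := fun z _ => by
    have := T.add_mem (h1 (z - f z v • b) (by rw [hf.subL, hf.smulL, hbv, mul_one, sub_self]))
      (T.smul_mem (f z v) (hc b hb))
    rwa [sub_add_cancel] at this
  have h2 := Submodule.finrank_mono this
  rw [finrank_top, Module.finrank_fin_fun] at h2
  omega

/-- An anisotropic seed orthogonal to a totally isotropic plane. -/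
theorem exists_seed_plane (hn : 5 ≤ n) {v s : Vec} (hv : v ≠ 0) (hvv : f v v = 0) (hss : f s s = 0)
    (hsv : f s v = 0) :
    ∃ z, Seed f v z ∧ f z z ≠ 0 ∧ ∀ x ∈ plane v s, f x v = 0 ∧ f x z = 0 := by
  obtain ⟨z, hzv, hzs, hzz⟩ := hf.exists_aniso_pair hn v s
  refine ⟨z, ⟨hv, hvv, hzv, fun e => hzz ?_⟩, hzz, fun x hx => ⟨hf.iso_plane hvv hss hsv hx (left_mem_plane v s), ?_⟩⟩
  · obtain ⟨c, rfl⟩ := Submodule.mem_span_singleton.1 e
    exact hf.iso_smul hvv c
  · obtain ⟨a, b, rfl⟩ := mem_plane.1 hx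
    rw [hf.addL, hf.smulL, hf.smulL, hf.comm z v, hzv, hf.comm z s, hzs]; ring

end Sym

end Cfsg.Agent.Lib.TensorOrthMax.Side
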