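import Cfsg.Prelude.Def_GeometricClasses

/-!
Exchanging the two factors of a tensor decomposition.
-/

set_option autoImplicit false

namespace Cfsg.Agent.Lib.TensorOrthMax.Swap

open Matrix Kronecker

variable {F : Type*} [Field F] {ι : Type} [Fintype ι] [DecidableEq ι] {n₁ n₂ : ℕ}

theorem subgroup_le (e : ι ≃ Fin n₁ × Fin n₂) (P : GL ι F) :
    Cfsg.Geo.tensorProductSubgroup n₁ n₂ e P ≤
      Cfsg.Geo.tensorProductSubgroup n₂ n₁ (e.trans (Equiv.prodComm _ _)) P := by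
  refine Subgroup.map_mono ?_
  rintro _ ⟨g, ⟨a, b, hab⟩, rfl⟩
  refine ⟨Cfsg.Geo.glReindex (F := F) (Equiv.prodComm (Fin n₁) (Fin n₂)) g, ⟨b, a, ?_⟩, ?_⟩
  · show Matrix.reindexAlgEquiv F F _ (g : Matrix (Fin n₁ × Fin n₂) (Fin n₁ × Fin n₂) F) = _
    rw [hab]
    ext ⟨i, j⟩ ⟨i', j'⟩
    simp [mul_comm]
  · refine Units.ext (Matrix.ext fun i j => ?_)
    rfl

theorem subgroup (e : ι ≃ Fin n₁ × Fin n₂) (P : GL ι F) :
    Cfsg.Geo.tensorProductSubgroup n₁ n₂ e P =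
      Cfsg.Geo.tensorProductSubgroup n₂ n₁ (e.trans (Equiv.prodComm _ _)) P :=
  le_antisymm (subgroup_le e P) (by
    have h := subgroup_le (e.trans (Equiv.prodComm (Fin n₁) (Fin n₂))) P
    exact h)

theorem structure_swap {σ : F → F} {f : (ι → F) → (ι → F) → F} {f₁ : (Fin n₁ → F) → (Fin n₁ → F) → F}
    {f₂ : (Fin n₂ → F) → (Fin n₂ → F) → F} {e : ι ≃ Fin n₁ × Fin n₂} {P : GL ι F}
    (h : Cfsg.Geo.IsTensorFormStructure σ f f₁ f₂ e P) :
    Cfsg.Geo.IsTensorFormStructure σ f f₂ f₁ (e.trans (Equiv.prodComm _ _)) P := by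
  obtain ⟨c, hc, h⟩ := h
  refine ⟨c, hc, fun x y => ?_⟩
  refine (h (x ∘ Prod.swap) (y ∘ Prod.swap)).trans ?_
  congr 1
  simp only [Cfsg.Geo.formOfGram]
  refine Fintype.sum_equiv (Equiv.prodComm _ _) _ _ fun a => ?_
  refine Fintype.sum_equiv (Equiv.prodComm _ _) _ _ fun b => ?_
  simp [kroneckerMap_apply, mul_comm]

end Cfsg.Agent.Lib.TensorOrthMax.Swap
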